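import Cfsg.Agent.EqLemmas
import Cfsg.Agent.Lib.ZStar.Apply
import Cfsg.Agent.Lib.ZStar.Unique
import Cfsg.Agent.Lib.SmallOrders.Basic
import Cfsg.Agent.Lib.SubnormalizerCount.Basic

/-!
# Simple groups of length eight with a Sylow 2-subgroup of order 128 (helper98)

The Sylow 2-subgroup `S` is maximal and the centralizer of a central involution `z` is `S`.

* `Setting.le_64` : a 2-subgroup of a subgroup which is neither a 2-group nor everything has order at most 64.
* `Setting.exists_cfg` : among the normalizers of self-centralizing 2-subgroups which are no 2-groups there is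
  one, `H`, whose Sylow 2-subgroup `T = H ∩ S` is as large as possible, with `T` maximal in `H`.
* `Cfg.mem_of_normalizes` : a nontrivial subgroup of `T` containing `z` and normal in `H` is normalized only by
  elements of `T`.
-/

set_option autoImplicit false
set_option linter.style.haveILetI false
set_option linter.unusedSectionVars false

namespace Cfsg.Agent.LengthEight

open Subgroup

variable {G : Type*} [Group G]

/-- There is a chain of subgroups of length `n` below `H`. -/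
def Deep (H : Subgroup G) (n : ℕ) : Prop := ∃ c : Fin (n + 1) → Subgroup G, StrictAnti c ∧ c 0 = H

theorem normalizer_le_normalizer_centralizer (C : Subgroup G) :
    normalizer (C : Set G) ≤ normalizer ((centralizer (C : Set G) : Subgroup G) : Set G) :=
  (normal_subgroupOf_iff_le_normalizer (centralizer_le_normalizer _)).1 inferInstance

theorem deep_zero (H : Subgroup G) : Deep H 0 :=
  ⟨fun _ => H, fun a b h => absurd h (by omega), rfl⟩

theorem Deep.succ {H K : Subgroup G} {n : ℕ} (h : Deep K n) (hlt : K < H) : Deep H (n + 1) := by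
  obtain ⟨c, hc, hc0⟩ := h
  refine ⟨Fin.cons H c, Fin.strictAnti_iff_succ_lt.2 fun i => ?_, rfl⟩
  induction i using Fin.cases with
  | zero => simpa [hc0] using hlt
  | succ i => simpa using hc (Fin.castSucc_lt_succ (i := i))

theorem deep_pGroup [Finite G] {b : ℕ} : ∀ {T : Subgroup G}, Nat.card T = 2 ^ b → Deep T b := by
  haveI := Fact.mk Nat.prime_two
  induction b with
  | zero => exact fun _ => deep_zero _
  | succ b ih =>
    intro T hT
    obtain ⟨K, hK⟩ := Sylow.exists_subgroup_card_pow_prime 2 (G := T) (n := b)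
      (hT ▸ pow_dvd_pow 2 (Nat.le_succ b))
    have hc : Nat.card ↥(K.map T.subtype) = 2 ^ b := by
      rw [Nat.card_congr (K.equivMapOfInjective T.subtype T.subtype_injective).toEquiv.symm, hK]
    refine (ih hc).succ (lt_of_le_of_ne (map_subtype_le K) fun e => ?_)
    rw [e, hT] at hc
    exact absurd (Nat.pow_right_injective le_rfl hc) (Nat.succ_ne_self b)

variable [Finite G]

/-- `H` lies in the normalizer of a self-centralizing 2-subgroup `Q` and is no 2-group. -/
structure IsLoc (H Q : Subgroup G) : Prop where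
  two : IsPGroup 2 Q
  le : Q ≤ H
  norm : H ≤ normalizer (Q : Set G)
  cent : centralizer (Q : Set G) ≤ Q
  notTwo : ¬ IsPGroup 2 H

theorem IsLoc.map {H Q : Subgroup G} (h : IsLoc H Q) (g : G) :
    IsLoc (H.map (MulAut.conj g).toMonoidHom) (Q.map (MulAut.conj g).toMonoidHom) where
  two := h.two.map _
  le := map_mono h.le
  norm := (map_mono h.norm).trans (le_normalizer_map _)
  cent := by
    intro x hx
    refine ⟨g⁻¹ * x * g, h.cent (mem_centralizer_iff.2 fun y hy => ?_), by simp [mul_assoc]⟩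
    have := mem_centralizer_iff.1 hx (g * y * g⁻¹) ⟨y, hy, by simp⟩
    calc y * (g⁻¹ * x * g) = g⁻¹ * (g * y * g⁻¹ * x) * g := by group
      _ = g⁻¹ * (x * (g * y * g⁻¹)) * g := by rw [this]
      _ = g⁻¹ * x * g * y := by group
  notTwo := fun h2 => h.notTwo
    (h2.of_equiv (H.equivMapOfInjective _ (MulAut.conj g).injective).symm)

/-- The hypotheses. -/
structure Setting (G : Type*) [Group G] [Finite G] where
  na : ¬ IsMulCommutative G
  short : ¬ Deep (⊤ : Subgroup G) 9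
  S : Sylow 2 G
  card_S : Nat.card (S : Subgroup G) = 2 ^ 7
  z : G
  orderOf_z : orderOf z = 2
  z_mem : z ∈ (S : Subgroup G)
  z_comm : ∀ s ∈ (S : Subgroup G), s * z = z * s

theorem Setting.exists_setting [IsSimpleGroup G] (hna : ¬ IsMulCommutative G)
    (h9 : ¬ Deep (⊤ : Subgroup G) 9) (S : Sylow 2 G) (hS : Nat.card (S : Subgroup G) = 2 ^ 7) :
    ∃ D : Setting G, D.S = S := by
  haveI := Fact.mk Nat.prime_two
  haveI : Nontrivial S := Finite.one_lt_card_iff_nontrivial.1 (by rw [show Nat.card S = 2 ^ 7 from hS]; norm_num)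
  haveI := S.2.center_nontrivial
  obtain ⟨c, hc⟩ := exists_prime_orderOf_dvd_card' (G := center (S : Subgroup G)) 2 (by
    obtain ⟨m, hm⟩ := IsPGroup.iff_card.1 (S.2.to_subgroup (center (S : Subgroup G)))
    rw [hm]
    exact dvd_pow_self 2 fun h => by rw [h, pow_zero] at hm; exact Finite.one_lt_card.ne' hm)
  exact ⟨⟨hna, h9, S, hS, ((c : S) : G), by rw [orderOf_coe, orderOf_coe, hc], (c : S).2,
    fun s hs => congrArg Subtype.val (mem_center_iff.1 c.2 ⟨s, hs⟩)⟩, rfl⟩

namespace Setting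

variable (D : Setting G)
include D

theorem z_ne_one : D.z ≠ 1 := fun h => by simpa [h] using D.orderOf_z

theorem z_mul_self : D.z * D.z = 1 := by
  rw [← pow_two, ← D.orderOf_z, pow_orderOf_eq_one]

theorem card_le_of_two {T : Subgroup G} (hT : IsPGroup 2 T) :
    ∃ b ≤ 7, Nat.card T = 2 ^ b := by
  haveI := Fact.mk Nat.prime_two
  obtain ⟨b, hb⟩ := IsPGroup.iff_card.1 hT
  obtain ⟨P, hP⟩ := hT.exists_le_sylow
  have : Nat.card T ∣ 2 ^ 7 := by
    rw [← D.card_S, ← Nat.card_congr (P.equiv D.S).toEquiv]; exact card_dvd_of_le hP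
  rw [hb] at this
  exact ⟨b, (Nat.pow_dvd_pow_iff_le_right (by norm_num)).1 this, hb⟩

theorem le_64 {T H : Subgroup G} (hT : IsPGroup 2 T) (hTH : T ≤ H) (hH : H ≠ ⊤) (h2 : ¬ IsPGroup 2 H) :
    Nat.card T ≤ 2 ^ 6 := by
  obtain ⟨b, hb, hcard⟩ := D.card_le_of_two hT
  rw [hcard]
  refine Nat.pow_le_pow_right (by norm_num) ?_
  by_contra h
  obtain rfl : b = 7 := by omega
  have hlt : T < H := lt_of_le_of_ne hTH fun e => h2 (e ▸ hT)
  exact D.short (((deep_pGroup hcard).succ hlt).succ hH.lt_top)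

variable [IsSimpleGroup G]

theorem S_ne_top : (D.S : Subgroup G) ≠ ⊤ := by
  intro h
  haveI := Fact.mk Nat.prime_two
  refine D.z_ne_one ((mem_bot (G := G)).1 ?_)
  rw [← SmallOrders.center_eq_bot D.na]
  exact mem_center_iff.2 fun g => D.z_comm g (h ▸ mem_top g)

theorem eq_S {H : Subgroup G} (hle : (D.S : Subgroup G) ≤ H) (hH : H ≠ ⊤) : H = D.S := by
  refine le_antisymm (fun x hx => ?_) hle
  by_contra hxS
  have hlt : (D.S : Subgroup G) < H := lt_of_le_of_ne hle fun e => hxS (e ▸ hx)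
  exact D.short (((deep_pGroup D.card_S).succ hlt).succ hH.lt_top)

theorem cent_z : centralizer ({D.z} : Set G) = D.S := by
  refine D.eq_S (fun s hs => mem_centralizer_singleton_iff.2 (D.z_comm s hs)) fun h => ?_
  have hz : D.z ∈ center G := mem_center_iff.2 fun g => mem_centralizer_singleton_iff.1 (h ▸ mem_top g)
  rw [SmallOrders.center_eq_bot D.na, mem_bot] at hz
  exact D.z_ne_one hz

theorem mem_S_of_commute {x : G} (h : x * D.z = D.z * x) : x ∈ (D.S : Subgroup G) := by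
  rw [← D.cent_z]; exact mem_centralizer_singleton_iff.2 h

theorem centralizer_le_S {C : Subgroup G} (hz : D.z ∈ C) : centralizer (C : Set G) ≤ D.S :=
  fun x hx => D.mem_S_of_commute ((mem_centralizer_iff.1 hx D.z hz).symm)

theorem normalizer_ne_top {C : Subgroup G} (hC : IsPGroup 2 C) (hne : C ≠ ⊥) :
    normalizer (C : Set G) ≠ ⊤ := by
  intro h
  rcases (normalizer_eq_top_iff.1 h).eq_bot_or_eq_top with e | e
  · exact hne e
  · haveI := Fact.mk Nat.prime_two
    obtain ⟨b, hb7, hb⟩ := D.card_le_of_two hC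
    refine D.S_ne_top (eq_top_of_card_eq _ (le_antisymm (card_le_card_group _) ?_))
    rw [D.card_S, ← card_top (G := G), ← e, hb]
    exact Nat.pow_le_pow_right (by norm_num) hb7

/-- A nontrivial subgroup normalized by `S` has normalizer `S`. -/
theorem normalizer_eq_S {C : Subgroup G} (hC : C ≤ D.S) (hne : C ≠ ⊥)
    (hn : (D.S : Subgroup G) ≤ normalizer (C : Set G)) : normalizer (C : Set G) = D.S :=
  D.eq_S hn (D.normalizer_ne_top (D.S.2.to_le hC) hne)

/-- A conjugate of `z` in `S` other than `z`. -/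
theorem exists_fused : ∃ g : G, g * D.z * g⁻¹ ∈ (D.S : Subgroup G) ∧ g * D.z * g⁻¹ ≠ D.z := by
  by_contra! h
  have hiso := ZStar.isolated_of_sylow D.S D.orderOf_z D.z_mem h
  have hO : pPrimeCore 2 G = ⊥ := by
    refine le_bot_iff.1 (sSup_le fun N hN => ?_)
    obtain ⟨hNn, hc⟩ := hN
    rcases hNn.eq_bot_or_eq_top with e | e
    · exact e.le
    · exfalso
      rw [e, card_top, Nat.coprime_comm, Nat.prime_two.coprime_iff_not_dvd] at hc
      exact hc (D.orderOf_z ▸ orderOf_dvd_natCard _)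
  have hz := ZStar.isolated_mem_center ZStar.uniqueInvolution hiso hO
  rw [SmallOrders.center_eq_bot D.na, mem_bot] at hz
  exact D.z_ne_one hz

theorem exists_loc : ∃ H Q : Subgroup G, IsLoc H Q := by
  classical
  haveI := Fact.mk Nat.prime_two
  obtain ⟨g, hgS, hgz⟩ := D.exists_fused
  have hgmem : ∀ x : G, x ∈ ((g • D.S : Sylow 2 G) : Subgroup G) ↔ g⁻¹ * x * g ∈ (D.S : Subgroup G) := by
    intro x
    rw [Sylow.coe_subgroup_smul, Subgroup.mem_pointwise_smul_iff_inv_smul_mem, MulAut.smul_def,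
      MulAut.conj_inv_apply]
  set P : Sylow 2 G × Sylow 2 G → Prop := fun p => p.1 ≠ p.2 ∧
    centralizer (((p.1 : Subgroup G) ⊓ p.2 : Subgroup G) : Set G) ≤ (p.1 : Subgroup G) ⊓ p.2
  have hP : P (D.S, g • D.S) := by
    refine ⟨fun e => hgz ?_, fun x hx => ⟨?_, ?_⟩⟩
    · have hg : g ∈ normalizer ((D.S : Subgroup G) : Set G) := Sylow.smul_eq_iff_mem_normalizer.1 e.symm
      rw [D.eq_S le_normalizer (D.normalizer_ne_top D.S.2 fun h => D.z_ne_one
        (mem_bot.1 (h ▸ D.z_mem)))] at hg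
      rw [D.z_comm g hg]; group
    · refine D.mem_S_of_commute (mem_centralizer_iff.1 hx D.z ⟨D.z_mem, (hgmem _).2 ?_⟩).symm
      refine D.mem_S_of_commute ?_
      calc g⁻¹ * D.z * g * D.z = g⁻¹ * (D.z * (g * D.z * g⁻¹)) * g := by group
        _ = g⁻¹ * ((g * D.z * g⁻¹) * D.z) * g := by rw [D.z_comm _ hgS]
        _ = D.z * (g⁻¹ * D.z * g) := by group
    · refine (hgmem x).2 (D.mem_S_of_commute ?_)
      have hd : g * D.z * g⁻¹ ∈ ((g • D.S : Sylow 2 G) : Subgroup G) :=
        (hgmem _).2 (by simpa [mul_assoc] using D.z_mem)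
      have h := mem_centralizer_iff.1 hx _ ⟨hgS, hd⟩
      calc g⁻¹ * x * g * D.z = g⁻¹ * (x * (g * D.z * g⁻¹)) * g := by group
        _ = g⁻¹ * ((g * D.z * g⁻¹) * x) * g := by rw [h]
        _ = D.z * (g⁻¹ * x * g) := by group
  obtain ⟨⟨P₁, P₂⟩, ⟨hne, hc⟩, hmax⟩ := Set.exists_max_image {p | P p}
    (fun p => Nat.card ↥((p.1 : Subgroup G) ⊓ p.2)) (Set.toFinite _) ⟨_, hP⟩
  set I : Subgroup G := (P₁ : Subgroup G) ⊓ P₂
  refine ⟨normalizer (I : Set G), I, P₁.2.to_le inf_le_left, le_normalizer, le_rfl, hc, fun h2 => ?_⟩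
  obtain ⟨P₃, hP₃⟩ := h2.exists_le_sylow
  -- in both Sylow subgroups the normalizer grows, so `P₃` equals both
  have key : ∀ R : Sylow 2 G, I ≤ (R : Subgroup G) → I ≠ (R : Subgroup G) → R = P₃ := by
    intro R hIR hIR'
    by_contra hR
    obtain ⟨x, ⟨hxR, hxN⟩, hxI⟩ := SetLike.exists_of_lt
      (SubnormalizerCount.lt_inf_normalizer R.2 (lt_of_le_of_ne hIR hIR'))
    have hle : I < (R : Subgroup G) ⊓ P₃ :=
      lt_of_le_of_ne (le_inf hIR (le_normalizer.trans hP₃)) fun e => hxI (e ▸ ⟨hxR, hP₃ hxN⟩)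
    refine absurd (hmax (R, P₃) ⟨hR, ((centralizer_le hle.le).trans hc).trans hle.le⟩) ?_
    exact not_le.2 ((Set.toFinite _).card_lt_card hle)
  have hIne : ∀ R : Sylow 2 G, I ≤ (R : Subgroup G) → I ≠ (R : Subgroup G) := by
    intro R _ e
    refine hne (Sylow.ext ?_)
    have hcard : ∀ R' : Sylow 2 G, Nat.card (R' : Subgroup G) = Nat.card I :=
      fun R' => by rw [e]; exact Nat.card_congr (R'.equiv R).toEquiv
    exact (eq_of_le_of_card_ge (inf_le_left : I ≤ P₁) (hcard P₁).le).symm.trans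
      (eq_of_le_of_card_ge (inf_le_right : I ≤ P₂) (hcard P₂).le)
  exact hne ((key P₁ inf_le_left (hIne P₁ inf_le_left)).trans
    (key P₂ inf_le_right (hIne P₂ inf_le_right)).symm)

end Setting

/-- A local subgroup with largest 2-part, chosen minimal. -/
structure Cfg (D : Setting G) where
  H : Subgroup G
  Q : Subgroup G
  loc : IsLoc H Q
  max : ∀ K R : Subgroup G, IsLoc K R → ∀ T : Subgroup G, T ≤ K → IsPGroup 2 T → Nat.card T ≤ Nat.card ↥(H ⊓ (D.S : Subgroup G))
  min : ∀ H' ≤ H, H ⊓ (D.S : Subgroup G) ≤ H' → ¬ IsPGroup 2 H' → H' = H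
  core : ∀ R ≤ H, IsPGroup 2 R → H ≤ normalizer (R : Set G) → R ≤ Q
  Q_le_S : Q ≤ (D.S : Subgroup G)

theorem Setting.exists_cfg [IsSimpleGroup G] (D : Setting G) : Nonempty (Cfg D) := by
  classical
  haveI := Fact.mk Nat.prime_two
  let A : Set (Subgroup G × Subgroup G) := {p | IsLoc p.1 p.2}
  obtain ⟨H₀, Q₀, h₀⟩ := D.exists_loc
  obtain ⟨⟨H₁, Q₁⟩, hloc₁, hmax⟩ := Set.exists_max_image A
    (fun p => Nat.card ↥(p.1 ⊓ D.S)) (Set.toFinite _) ⟨(H₀, Q₀), h₀⟩
  set m := Nat.card ↥(H₁ ⊓ D.S)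
  have htwo : ∀ K R : Subgroup G, IsLoc K R → ∀ T : Subgroup G, T ≤ K → IsPGroup 2 T → Nat.card T ≤ m := by
    intro K R hKR T hTK hT
    obtain ⟨P, hP⟩ := hT.exists_le_sylow
    obtain ⟨g, hg⟩ := MulAction.exists_smul_eq G P D.S
    have hle : T.map (MulAut.conj g).toMonoidHom ≤ K.map (MulAut.conj g).toMonoidHom ⊓ D.S := by
      refine le_inf (map_mono hTK) ?_
      rw [← hg, Sylow.coe_subgroup_smul]
      exact map_mono hP
    refine le_trans ?_ (hmax (_, _) (hKR.map g))
    rw [Nat.card_congr (T.equivMapOfInjective (MulAut.conj g).toMonoidHom (MulAut.conj g).injective).toEquiv]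
    exact card_le_of_le hle
  let B : Set (Subgroup G × Subgroup G) := {p | IsLoc p.1 p.2 ∧ Nat.card ↥(p.1 ⊓ D.S) = m}
  obtain ⟨⟨H, Q₂⟩, ⟨hloc₂, hm₂⟩, hmin⟩ := Set.exists_min_image B
    (fun p => Nat.card p.1) (Set.toFinite _) ⟨(H₁, Q₁), hloc₁, rfl⟩
  obtain ⟨Q, hloc, hQmax⟩ := Set.exists_max_image {Q : Subgroup G | IsLoc H Q}
    (fun Q => Nat.card Q) (Set.toFinite _) ⟨Q₂, hloc₂⟩
  have hQS : Q ≤ D.S := by
    have hT : IsPGroup 2 ↥(H ⊓ D.S) := D.S.2.to_le inf_le_right
    have h2 := hT.to_sup_of_normal_right' hloc.two (inf_le_left.trans hloc.norm)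
    have hle := htwo H Q hloc _ (sup_le inf_le_left hloc.le) h2
    rw [← hm₂] at hle
    exact le_sup_right.trans ((eq_of_le_of_card_ge le_sup_left hle).ge.trans inf_le_right)
  refine ⟨⟨H, Q, hloc, fun K R h T h1 h2 => hm₂ ▸ htwo K R h T h1 h2, fun H' hle hT h2 => ?_,
    fun R hR hR2 hRn => ?_, hQS⟩⟩
  · refine eq_of_le_of_card_ge hle (hmin (H', Q) ⟨⟨hloc.two, (le_inf hloc.le hQS).trans hT,
      hle.trans hloc.norm, hloc.cent, h2⟩, ?_⟩)
    exact hm₂ ▸ congrArg (fun X : Subgroup G => Nat.card X)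
      (le_antisymm (inf_le_inf_right _ hle) (le_inf hT inf_le_right))
  · have hl : IsLoc H (R ⊔ Q) := ⟨hR2.to_sup_of_normal_right' hloc.two (hR.trans hloc.norm),
      sup_le hR hloc.le, (le_inf hRn hloc.norm).trans (normalizer_inf_normalizer_le_normalizer_sup _ _),
      ((centralizer_le (SetLike.coe_subset_coe.2 (le_sup_right : Q ≤ R ⊔ Q))).trans hloc.cent).trans le_sup_right, hloc.notTwo⟩
    exact le_sup_left.trans (eq_of_le_of_card_ge le_sup_right (hQmax _ hl)).ge

namespace Cfg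

variable {D : Setting G} (c : Cfg D)

/-- The Sylow 2-subgroup of `H`. -/
def T : Subgroup G := c.H ⊓ D.S

theorem T_le_H : c.T ≤ c.H := inf_le_left
theorem T_le_S : c.T ≤ D.S := inf_le_right
theorem T_two : IsPGroup 2 c.T := D.S.2.to_le c.T_le_S
theorem Q_le_T : c.Q ≤ c.T := le_inf c.loc.le c.Q_le_S

theorem z_mem_Q : D.z ∈ c.Q :=
  c.loc.cent (mem_centralizer_iff.2 fun q hq => D.z_comm q (c.Q_le_S hq))

theorem z_mem_T : D.z ∈ c.T := c.Q_le_T c.z_mem_Q

theorem z_central_Q {q : G} (hq : q ∈ c.Q) : q * D.z = D.z * q := D.z_comm q (c.Q_le_S hq)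

theorem H_ne_top [IsSimpleGroup G] : c.H ≠ ⊤ := fun h =>
  D.normalizer_ne_top c.loc.two (fun e => D.z_ne_one (mem_bot.1 (e ▸ c.z_mem_Q))) (top_le_iff.1 (h ▸ c.loc.norm))

theorem card_T_le [IsSimpleGroup G] : Nat.card c.T ≤ 2 ^ 6 :=
  D.le_64 c.T_two c.T_le_H c.H_ne_top c.loc.notTwo

theorem card_T [IsSimpleGroup G] : ∃ b ≤ 6, Nat.card c.T = 2 ^ b := by
  obtain ⟨b, -, hb⟩ := D.card_le_of_two c.T_two
  exact ⟨b, (Nat.pow_le_pow_iff_right (by norm_num)).1 (hb ▸ c.card_T_le), hb⟩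

/-- A subgroup of `T` containing `z` and normal in `H` is normalized only by elements of `T`. -/
theorem mem_of_normalizes [IsSimpleGroup G] {C : Subgroup G} (hC : C ≤ c.T) (hz : D.z ∈ C)
    (hH : c.H ≤ normalizer (C : Set G)) {s : G} (hs : s ∈ (D.S : Subgroup G))
    (hsC : s ∈ normalizer (C : Set G)) : s ∈ c.T := by
  haveI := Fact.mk Nat.prime_two
  set K := normalizer (C : Set G)
  have hcentK : centralizer (C : Set G) ≤ K := centralizer_le_normalizer _
  have h2 : IsPGroup 2 ↥(centralizer (C : Set G)) := D.S.2.to_le (D.centralizer_le_S hz)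
  have hloc : IsLoc K (C ⊔ centralizer (C : Set G)) := by
    refine ⟨(c.T_two.to_le hC).to_sup_of_normal_left' h2 hcentK, sup_le le_normalizer hcentK,
      (le_inf le_rfl (normalizer_le_normalizer_centralizer C)).trans
        (normalizer_inf_normalizer_le_normalizer_sup _ _), ?_, fun hK => c.loc.notTwo (hK.to_le hH)⟩
    exact (centralizer_le (SetLike.coe_subset_coe.2 (le_sup_left : C ≤ _))).trans le_sup_right
  have hle : K ⊓ D.S ≤ c.T := by
    have h1 : c.T ≤ K ⊓ D.S := le_inf (c.T_le_H.trans hH) c.T_le_S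
    exact (eq_of_le_of_card_ge h1 (c.max K _ hloc _ inf_le_left (D.S.2.to_le inf_le_right))).ge
  exact hle ⟨hsC, hs⟩

/-- A nontrivial subgroup normal in `H` is not normalized by `S`. -/
theorem not_normalized [IsSimpleGroup G] {C : Subgroup G} (hC : C ≤ D.S) (hne : C ≠ ⊥)
    (hH : c.H ≤ normalizer (C : Set G)) : ¬ (D.S : Subgroup G) ≤ normalizer (C : Set G) := fun h => by
  rw [D.normalizer_eq_S hC hne h] at hH
  exact c.loc.notTwo (D.S.2.to_le hH)

theorem exists_outside [IsSimpleGroup G] :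
    ∃ u ∈ (D.S : Subgroup G), u ∈ normalizer (c.T : Set G) ∧ u ∉ c.T ∧ u * u ∈ c.T := by
  haveI := Fact.mk Nat.prime_two
  have hlt : c.T < D.S := lt_of_le_of_ne c.T_le_S fun e => by
    have := c.card_T_le
    rw [e, D.card_S] at this
    omega
  obtain ⟨x, ⟨hxS, hxN⟩, hxT⟩ := SetLike.exists_of_lt (SubnormalizerCount.lt_inf_normalizer D.S.2 hlt)
  obtain ⟨k, hk⟩ := D.S.2 ⟨x, hxS⟩
  have hk' : x ^ 2 ^ k = 1 := congrArg Subtype.val hk
  classical
  have hex : ∃ j, x ^ 2 ^ j ∈ c.T := ⟨k, hk' ▸ one_mem _⟩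
  have hj := Nat.find_spec hex
  obtain ⟨j, hj'⟩ : ∃ j, Nat.find hex = j + 1 := Nat.exists_eq_succ_of_ne_zero fun h => by
    rw [h, pow_zero, pow_one] at hj; exact hxT hj
  refine ⟨x ^ 2 ^ j, pow_mem hxS _, pow_mem hxN _, Nat.find_min hex (by omega), ?_⟩
  rw [hj', pow_succ, pow_mul, pow_two] at hj
  exact hj

end Cfg

end Cfsg.Agent.LengthEight
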