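import Cfsg.Agent.Lib.LengthEight.Four

/-!
# The case `|E| = 4` does not occur (helper98)

For an involution `x ∈ S \ U` the subgroup `⟨f, x f x⁻¹, w, x⟩` has index two, contains every involution of `S`
and no conjugate of `e` lying there in a fixed position: the transfer of `e` contradicts simplicity.
-/

set_option autoImplicit false
set_option linter.style.haveILetI false
set_option linter.unusedSectionVars false

namespace Cfsg.Agent.LengthEight

open Subgroup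

variable {G : Type*} [Group G] [Finite G]

namespace Four

variable [IsSimpleGroup G] {D : Setting G} {c : Cfg D} {d : Dec c} (k : Four d)
include k

theorem exists_x : ∃ x ∈ (D.S : Subgroup G), x ∉ k.U ∧ x * x = 1 := by
  obtain ⟨v, hv, hvU⟩ := SetLike.exists_of_lt (lt_of_le_of_ne k.U_le fun e => by
    have := k.card_U
    rw [e, D.card_S] at this
    omega)
  exact d.exists_involution_outside k.U_le k.card_U k.T_le_U (fun i hi hi2 _ => k.hinv hv hvU hi hi2)
    fun i hi hi2 hi1 hiz hc => k.hcen hi hi2 hi1 hiz hc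

section Outside

variable {x : G} (hx : x ∈ (D.S : Subgroup G)) (hxU : x ∉ k.U) (hx2 : x * x = 1)
include hx hxU hx2

theorem conj_rho : x * (d.f * (x * d.f * x⁻¹)) * x⁻¹ = (d.f * (x * d.f * x⁻¹))⁻¹ := by
  have hxi : x⁻¹ = x := inv_eq_of_mul_eq_one_right hx2
  have hfi : d.f⁻¹ = d.f := inv_eq_of_mul_eq_one_right d.f_sq
  calc x * (d.f * (x * d.f * x⁻¹)) * x⁻¹ = x * d.f * x * d.f * (x * x)⁻¹ := by group
    _ = x * d.f⁻¹ * x⁻¹ * d.f⁻¹ := by rw [hx2, hxi, hfi, inv_one, mul_one]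
    _ = (d.f * (x * d.f * x⁻¹))⁻¹ := by group

/-- The rotation of order two is `z`. -/
theorem z_eq : D.z = d.n₀ := by
  obtain ⟨hQ, hQu⟩ := (⟨d.n₀_Q, d.n₀_Qu⟩ : d.n₀ ∈ c.Q ∧ d.n₀ ∈ cj d.u c.Q)
  by_contra hne
  have hn : x * d.n₀ = d.n₀ * x := by
    obtain ⟨j, hj⟩ := mem_zpowers_iff.1 (k.n₀_rho hx hxU)
    have h2 : x * d.n₀ * x⁻¹ = d.n₀ := by
      rw [← hj, ← conj_zpow, k.conj_rho hx hxU hx2, inv_zpow, hj,
        inv_eq_of_mul_eq_one_right d.n₀_sq]
    exact mul_inv_eq_iff_eq_mul.1 h2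
  have hc : ∀ y ∈ k.U, y * d.n₀ = d.n₀ * y := fun y hy => by
    have hle : closure ({d.f, x * d.f * x⁻¹} : Set G) ⊔ d.E ≤ centralizer ({d.n₀} : Set G) :=
      sup_le ((closure_le _).2 (Set.insert_subset (mem_centralizer_singleton_iff.2 (d.n₀_comm d.f_Q))
        (Set.singleton_subset_iff.2 (mem_centralizer_singleton_iff.2 (k.g_n₀ hx hxU)))))
        fun ε hε => mem_centralizer_singleton_iff.2 (d.n₀_comm (d.E_le hε))
    exact mem_centralizer_singleton_iff.1 (hle ((k.gen_U hx hxU).ge hy))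
  exact (k.hcen (k.T_le_U (c.Q_le_T hQ)) d.n₀_sq d.n₀_ne (fun e => hne e.symm) hc).2 x hx hxU hn

/-- An element of `U` inverted by `x` lies in `⟨f, g⟩ ∪ ⟨f, g⟩ w`. -/
theorem inverted {y : G} (hy : y ∈ k.U) (hxy : x * y * x⁻¹ = y⁻¹) :
    y ∈ closure ({d.f, x * d.f * x⁻¹} : Set G) ⊔ zpowers k.w := by
  have hg := k.g_mem hx hxU
  have hfU : d.f ∈ k.U := d.f_mem_U k.T_le_U
  have hf := d.orderOf_f
  have hgo := d.orderOf_conj_f x
  set g := x * d.f * x⁻¹ with hgd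
  set ρ := d.f * g with hρ
  obtain ⟨δ, hδ, ε, hε, rfl⟩ := k.U_dec hx hxU hy
  rcases k.sq_E hε with ⟨-, rfl | rfl⟩ | ⟨hεw, -⟩
  · rw [mul_one]; exact mem_sup_left hδ
  · exact mul_mem (mem_sup_left hδ) (mem_sup_right (mem_zpowers _))
  exfalso
  have hεf : ε * d.f * ε⁻¹ = d.f := by rw [d.f_comm (d.E_le hε), mul_inv_cancel_right]
  have hεg : ε * g * ε⁻¹ = d.n₀ * g := by
    have h := k.e_g hx hxU
    rw [← hgd] at h
    rcases k.sq_E hε with ⟨h', -⟩ | ⟨-, rfl | rfl⟩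
    · exact absurd (hεw.symm.trans h') k.w_ne
    · exact h
    · calc k.w * k.e * g * (k.w * k.e)⁻¹ = k.w * (k.e * g * k.e⁻¹) * k.w⁻¹ := by group
        _ = k.w * (d.n₀ * g) * k.w⁻¹ := by rw [h]
        _ = d.n₀ * g * k.w * k.w⁻¹ := by
          rw [← k.w_comm (k.U.mul_mem (k.T_le_U (c.Q_le_T d.n₀_Q)) hg)]
        _ = d.n₀ * g := by group
  have hnρ : d.n₀ ∈ zpowers ρ := k.n₀_rho hx hxU
  have hερ : ε * ρ * ε⁻¹ = d.n₀ * ρ := by
    calc ε * (d.f * g) * ε⁻¹ = (ε * d.f * ε⁻¹) * (ε * g * ε⁻¹) := by group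
      _ = d.f * d.n₀ * g := by rw [hεf, hεg, ← mul_assoc]
      _ = d.n₀ * (d.f * g) := by rw [d.n₀_comm d.f_Q, mul_assoc]
  have hcρ : ∀ m : ℤ, ε * ρ ^ m * ε⁻¹ ∈ zpowers ρ := fun m => by
    rw [← conj_zpow, hερ]
    exact zpow_mem (mul_mem hnρ (mem_zpowers ρ)) m
  -- the square of `y` is in `⟨ρ⟩ w`
  obtain ⟨s, hs, hsy⟩ : ∃ s ∈ zpowers ρ, δ * ε * (δ * ε) = s * k.w := by
    refine ⟨δ * (ε * δ * ε⁻¹), ?_, by rw [← hεw]; group⟩
    obtain ⟨j, rfl | rfl⟩ := (Involution.mem_closure_pair_iff hf hgo).1 hδ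
    · exact mul_mem (zpow_mem (mem_zpowers ρ) j) (hcρ j)
    · have e : d.f * ρ ^ j * (ε * (d.f * ρ ^ j) * ε⁻¹) = ρ ^ (-j) * (ε * ρ ^ j * ε⁻¹) := by
        rw [show ε * (d.f * ρ ^ j) * ε⁻¹ = (ε * d.f * ε⁻¹) * (ε * ρ ^ j * ε⁻¹) by group, hεf]
        calc d.f * ρ ^ j * (d.f * (ε * ρ ^ j * ε⁻¹)) = d.f * (ρ ^ j * d.f) * (ε * ρ ^ j * ε⁻¹) := by group
          _ = d.f * (d.f * ρ ^ (-j)) * (ε * ρ ^ j * ε⁻¹) := by rw [Involution.zpow_mul_left hf hgo]
          _ = _ := by rw [← mul_assoc d.f d.f, d.f_sq, one_mul]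
      rw [show d.f * (d.f * g) ^ j = d.f * ρ ^ j from rfl, e]
      exact mul_mem (zpow_mem (mem_zpowers ρ) _) (hcρ j)
  have hxs : x * s * x⁻¹ = s⁻¹ := by
    obtain ⟨i, rfl⟩ := mem_zpowers_iff.1 hs
    rw [← conj_zpow, k.conj_rho hx hxU hx2, inv_zpow]
  have hsU : s ∈ k.U := (zpowers_le.2 (k.U.mul_mem hfU hg)) hs
  have h1 : x * (s * k.w) * x⁻¹ = (s * k.w)⁻¹ := by
    rw [← hsy]
    calc x * (δ * ε * (δ * ε)) * x⁻¹ = (x * (δ * ε) * x⁻¹) * (x * (δ * ε) * x⁻¹) := by group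
      _ = (δ * ε * (δ * ε))⁻¹ := by rw [hxy]; group
  refine D.z_ne_one ((mul_eq_left (a := s⁻¹ * k.w)).1 ?_)
  calc s⁻¹ * k.w * D.z = (x * s * x⁻¹) * (x * k.w * x⁻¹) := by rw [hxs, k.move hx hxU]; group
    _ = x * (s * k.w) * x⁻¹ := by group
    _ = k.w⁻¹ * s⁻¹ := by rw [h1, mul_inv_rev]
    _ = s⁻¹ * k.w := by
      rw [inv_eq_of_mul_eq_one_right k.w_sq, k.w_comm (inv_mem hsU)]

end Outside

theorem contradiction : False := by
  classical
  obtain ⟨x, hx, hxU, hx2⟩ := k.exists_x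
  have hxi : x⁻¹ = x := inv_eq_of_mul_eq_one_right hx2
  have hz := k.z_eq hx hxU hx2
  set D₀ := closure ({d.f, x * d.f * x⁻¹} : Set G) with hD₀
  set D' := D₀ ⊔ zpowers k.w with hD'
  have hD₀U : D₀ ≤ k.U := k.D_le_U hx hxU
  have hD'U : D' ≤ k.U := sup_le hD₀U (zpowers_le.2 k.w_mem_U)
  have hwn : zpowers k.w ≤ normalizer (D₀ : Set G) := by
    rw [zpowers_le]
    exact k.E_norm_D hx hxU k.w_mem
  have hD'dec : ∀ y ∈ D', ∃ δ ∈ D₀, y = δ ∨ y = δ * k.w := by
    intro y hy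
    rw [hD', ← SetLike.mem_coe, coe_mul_of_right_le_normalizer_left _ _ hwn] at hy
    obtain ⟨δ, hδ, t, ht, rfl⟩ := hy
    refine ⟨δ, hδ, ?_⟩
    have hw2 : k.w ^ (2 : ℤ) = 1 := by rw [zpow_two, k.w_sq]
    obtain ⟨j, rfl⟩ := mem_zpowers_iff.1 ht
    rcases Int.even_or_odd j with ⟨m, rfl⟩ | ⟨m, rfl⟩
    · left
      show δ * k.w ^ (m + m) = δ
      rw [← two_mul, zpow_mul, hw2, one_zpow, mul_one]
    · right
      show δ * k.w ^ (2 * m + 1) = δ * k.w
      rw [zpow_add_one, zpow_mul, hw2, one_zpow, one_mul]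
  have heD' : k.e ∉ D' := by
    intro h
    obtain ⟨δ, hδ, h' | h'⟩ := hD'dec _ h
    · refine k.w_not_D hx hxU ?_
      have := mul_mem hδ hδ
      rw [← h'] at this
      exact this
    · refine k.w_not_D hx hxU ?_
      have hcw : k.w * δ = δ * k.w := (k.w_comm (hD₀U hδ)).symm
      have e : k.w = δ * δ := by
        calc k.w = k.e * k.e := rfl
          _ = δ * k.w * (δ * k.w) := by rw [← h']
          _ = δ * (k.w * δ) * k.w := by group
          _ = δ * δ * (k.w * k.w) := by rw [hcw]; group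
          _ = δ * δ := by rw [k.w_sq, mul_one]
      rw [e]; exact mul_mem hδ hδ
  have hUE : D' ⊔ d.E = k.U := le_antisymm
    (sup_le hD'U ((d.E_le.trans c.Q_le_T).trans k.T_le_U))
    ((k.gen_U hx hxU).ge.trans (sup_le_sup_right le_sup_left _))
  have hD'32 : Nat.card D' = 32 := by
    have hn : d.E ≤ normalizer (D' : Set G) := by
      refine le_trans (le_inf (k.E_norm_D hx hxU) ?_) (normalizer_inf_normalizer_le_normalizer_sup _ _)
      exact le_trans (fun ε hε => mem_centralizer_iff.2 fun y hy => by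
        obtain ⟨j, rfl⟩ := mem_zpowers_iff.1 hy
        exact (show Commute k.w ε from d.E_comm _ k.w_mem _ hε).zpow_left j) (centralizer_le_normalizer _)
    have h := PLocal.card_sup_mul_card_inf hn
    rw [hUE, k.card_U, k.h4] at h
    have hdvd : Nat.card ↥(D' ⊓ d.E) ∣ 4 := k.h4 ▸ card_dvd_of_le inf_le_right
    have h2 : 2 ≤ Nat.card ↥(D' ⊓ d.E) := by
      refine le_trans ?_ (card_le_of_le (show zpowers k.w ≤ D' ⊓ d.E from
        le_inf le_sup_right (zpowers_le.2 k.w_mem)))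
      rw [Nat.card_zpowers, Involution.orderOf_of_sq k.w_sq k.w_ne]
    have hne : Nat.card ↥(D' ⊓ d.E) ≠ 4 := fun e4 => heD'
      ((eq_of_le_of_card_ge inf_le_right (by rw [e4, k.h4])).ge k.he).1
    have := Nat.le_of_dvd (by norm_num) hdvd
    interval_cases hi : Nat.card ↥(D' ⊓ d.E) <;> omega
  set M := D' ⊔ zpowers x with hM
  have hMS : M ≤ D.S := sup_le (hD'U.trans k.U_le) (zpowers_le.2 hx)
  have hwz : k.w * D.z ∈ D' := mul_mem (mem_sup_right (mem_zpowers _))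
    (mem_sup_left (hz ▸ k.n₀_D hx hxU))
  have hxD' : x ∈ normalizer (D' : Set G) := by
    rw [← cj_eq_iff_mem_normalizer]
    refine eq_of_le_of_card_ge ?_ (card_cj x D').ge
    refine map_le_iff_le_comap.2 (sup_le ((closure_le _).2
      (Set.insert_subset ?_ (Set.singleton_subset_iff.2 ?_))) (zpowers_le.2 ?_))
    · show x * d.f * x⁻¹ ∈ D'
      exact mem_sup_left (subset_closure (by simp))
    · show x * (x * d.f * x⁻¹) * x⁻¹ ∈ D'
      have e : x * (x * d.f * x⁻¹) * x⁻¹ = d.f := by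
        calc x * (x * d.f * x⁻¹) * x⁻¹ = (x * x) * d.f * (x * x)⁻¹ := by group
          _ = d.f := by rw [hx2]; group
      rw [e]; exact mem_sup_left (subset_closure (by simp))
    · show x * k.w * x⁻¹ ∈ D'
      rw [k.move hx hxU]; exact hwz
  have hMU : ∀ i ∈ M, i ∈ k.U → i ∈ D' := by
    intro i hi hiU
    rw [hM, ← SetLike.mem_coe, coe_mul_of_right_le_normalizer_left D' _ (zpowers_le.2 hxD')] at hi
    obtain ⟨δ, hδ, y, hy, hiy⟩ := hi
    change δ * y = i at hiy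
    obtain ⟨j, rfl⟩ := mem_zpowers_iff.1 hy
    have hxz : x ^ (2 : ℤ) = 1 := by rw [zpow_two, hx2]
    rcases Int.even_or_odd j with ⟨m, rfl⟩ | ⟨m, rfl⟩
    · rw [← two_mul, zpow_mul, hxz, one_zpow, mul_one] at hiy
      exact hiy ▸ hδ
    · rw [zpow_add_one, zpow_mul, hxz, one_zpow, one_mul] at hiy
      exact absurd ((k.U.mul_mem_cancel_left (hD'U hδ)).1 (hiy.symm ▸ hiU)) hxU
  have heU : k.e ∈ k.U := k.T_le_U (c.Q_le_T (d.E_le k.he))
  have heM : k.e ∉ M := fun h => heD' (hMU _ h heU)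
  have hM64 : Nat.card M = 64 := by
    obtain ⟨b, -, hb⟩ := D.card_le_of_two (D.S.2.to_le hMS)
    have hlt : Nat.card D' < Nat.card M := (Set.toFinite _).card_lt_card
      (show D' < M from lt_of_le_of_ne le_sup_left fun e =>
        hxU (hD'U (e.ge (mem_sup_right (mem_zpowers x)))))
    have hlt2 : Nat.card M < 2 ^ 7 := by
      rw [← D.card_S]
      exact (Set.toFinite _).card_lt_card
        (show M < D.S from lt_of_le_of_ne hMS fun e => heM (e ▸ k.U_le heU))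
    rw [hD'32, hb] at hlt
    rw [hb] at hlt2 ⊢
    have h5 : 5 < b := (Nat.pow_lt_pow_iff_right (a := 2) (by norm_num)).1 (by omega)
    have h7 : b < 7 := (Nat.pow_lt_pow_iff_right (a := 2) (by norm_num)).1 hlt2
    obtain rfl : b = 6 := by omega
    norm_num
  have hinvM : ∀ i ∈ (D.S : Subgroup G), i * i = 1 → i ∈ M := by
    intro i hi hi2
    by_cases hiU : i ∈ k.U
    · obtain ⟨δ, hδ, h | h⟩ := k.inv_dec hx hxU hiU hi2
      · exact h ▸ mem_sup_left (mem_sup_left hδ)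
      · exact h ▸ mem_sup_left (mul_mem (mem_sup_left hδ) (mem_sup_right (mem_zpowers _)))
    · have hy : x * i ∈ k.U := mul_mem_half k.U_le k.card_U hx hi hxU hiU
      have hii : i⁻¹ = i := inv_eq_of_mul_eq_one_right hi2
      have h := k.inverted hx hxU hx2 hy (by
        calc x * (x * i) * x⁻¹ = (x * x) * i * x⁻¹ := by group
          _ = (x * i)⁻¹ := by rw [hx2, one_mul, mul_inv_rev, hii])
      have : x * (x * i) ∈ M := mul_mem (mem_sup_right (mem_zpowers x)) (mem_sup_left h)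
      rwa [← mul_assoc, hx2, one_mul] at this
  refine false_of_fixed D.na D.S (index_subgroupOf_half hMS hM64) (e := k.e) (n := 2)
    (by rw [show (2 : ℕ) ^ 2 = 4 by norm_num, ← k.orderOf_e, pow_orderOf_eq_one]) c.T_two
    (c.Q_le_T (d.E_le k.he))
    (fun p hp => (d.M_central d.E_comm (d.E_le k.he) (d.E_Qu k.he) hp).symm)
    (fun g j hj h => ?_) (fun g hP h => ?_)
  · show g⁻¹ * k.e ^ j * g ∈ M
    refine hinvM _ h ?_
    obtain ⟨m, rfl⟩ := hj
    calc g⁻¹ * k.e ^ (m + m) * g * (g⁻¹ * k.e ^ (m + m) * g)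
        = g⁻¹ * (k.e ^ (m + m) * k.e ^ (m + m)) * g := by group
      _ = 1 := by
        rw [← pow_add, show m + m + (m + m) = orderOf k.e * m by rw [k.orderOf_e]; ring, pow_mul,
          pow_orderOf_eq_one, one_pow]
        group
  show g⁻¹ * k.e * g ∉ M
  set e' := g⁻¹ * k.e * g with he'
  set w' := e' * e' with hw'
  have hw'U : w' ∈ k.U := by
    by_cases h' : e' ∈ k.U
    · exact mul_mem h' h'
    · exact mul_mem_half k.U_le k.card_U h h h' h'
  have hw'2 : w' * w' = 1 := by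
    calc w' * w' = g⁻¹ * (k.w * k.w) * g := by simp only [hw', he', w]; group
      _ = 1 := by rw [k.w_sq]; group
  have hw'g : w' = g⁻¹ * k.w * g := by simp only [hw', he', w]; group
  have hw'1 : w' ≠ 1 := fun e => k.w_ne (by
    calc k.w = g * w' * g⁻¹ := by rw [hw'g]; group
      _ = 1 := by rw [e]; group)
  have hw'z : w' ≠ D.z := fun e => d.not_conj_z k.w_mem g⁻¹ (by rw [inv_inv, ← hw'g]; exact e)
  set K := cj g⁻¹ c.T
  have hKS : K ≤ D.S := fun y hy => by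
    have := mem_cj.1 hy
    rw [inv_inv] at this
    simpa [mul_assoc] using hP _ this
  have hKe : ∀ y ∈ K, y * e' = e' * y := fun y hy => by
    have h' := mem_cj.1 hy
    rw [inv_inv] at h'
    have hc := d.M_central d.E_comm (d.E_le k.he) (d.E_Qu k.he) h'
    calc y * e' = g⁻¹ * (g * y * g⁻¹ * k.e) * g := by simp only [he']; group
      _ = g⁻¹ * (k.e * (g * y * g⁻¹)) * g := by rw [hc]
      _ = e' * y := by simp only [he']; group
  have hKw : ∀ y ∈ K, y * w' = w' * y := fun y hy =>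
    ((show Commute y e' from hKe y hy).mul_right (hKe y hy)).eq
  have hK32 : Nat.card K = 32 := by rw [card_cj, k.card_T]
  rcases k.hinv hx hxU hw'U hw'2 with hc | ⟨s, hs, f', hf', hf'u, he⟩
  swap
  · exfalso
    have hle : K ≤ cj s c.Q := fun y hy => by
      refine mem_cj.2 (d.cent_S d.E_comm hf' hf'u (mul_mem (mul_mem (inv_mem hs) (hKS hy)) hs) ?_)
      have h2 := hKw y hy
      rw [he] at h2
      calc s⁻¹ * y * s * f' = s⁻¹ * (y * (s * f' * s⁻¹)) * s := by group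
        _ = s⁻¹ * (s * f' * s⁻¹ * y) * s := by rw [h2]
        _ = f' * (s⁻¹ * y * s) := by group
    have := card_le_of_le hle
    rw [hK32, card_cj, k.card_Q] at this
    omega
  have hout := (k.hcen hw'U hw'2 hw'1 hw'z hc).2
  have he'U : e' ∈ k.U := by
    by_contra h'
    exact hout e' h h' (mul_assoc e' e' e').symm
  have hKU : K ≤ k.U := fun y hy => by
    by_contra h'
    exact hout y (hKS hy) h' (hKw y hy)
  obtain ⟨he'T, hor⟩ := k.lemma_X he'U hc
    (hK32 ▸ card_le_of_le (le_inf hKU fun y hy => mem_centralizer_singleton_iff.2 (hKe y hy)))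
  intro hmem
  have hmem' := hMU _ hmem he'U
  rcases hor with ⟨h1, h2⟩ | ⟨h1, h2⟩
  · obtain ⟨ε, hε, h'⟩ := d.M_dec h1 h2
    have hεD : ε ∈ D' := by
      rcases h' with h' | h'
      · exact h' ▸ hmem'
      · have := D'.mul_mem (mem_sup_left (k.n₀_D hx hxU)) hmem'
        rwa [h', ← mul_assoc, d.n₀_sq, one_mul] at this
    rcases k.sq_E hε with ⟨hε2, -⟩ | ⟨-, rfl | rfl⟩
    · refine hw'1 ?_
      rcases h' with h' | h'
      · rw [hw', h', hε2]
      · rw [hw', h', show d.n₀ * ε * (d.n₀ * ε) = d.n₀ * (ε * d.n₀) * ε by group, d.n₀_comm (d.E_le hε),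
          show d.n₀ * (d.n₀ * ε) * ε = (d.n₀ * d.n₀) * (ε * ε) by group, d.n₀_sq, one_mul, hε2]
    · exact heD' hεD
    · refine heD' ?_
      have := D'.mul_mem (mem_sup_right (mem_zpowers k.w)) hεD
      rwa [← mul_assoc, k.w_sq, one_mul] at this
  · obtain ⟨hrT, hr1, hr2, hr4⟩ := k.rho_sq hx hxU
    set r := d.f * (x * d.f * x⁻¹) * (d.f * (x * d.f * x⁻¹))
    obtain ⟨hc1, hc2⟩ := k.pair_M (inv_mem hrT) he'T (fun h => hr1 (inv_mem_iff.1 h))
      (fun h => hr2 (inv_mem_iff.1 h)) h1 h2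
    have hrD : r ∈ D₀ := mul_mem
      (mul_mem (subset_closure (by simp)) (subset_closure (by simp)))
      (mul_mem (subset_closure (by simp)) (subset_closure (by simp)))
    set c₀ := r⁻¹ * e'
    have hc0D : c₀ ∈ D' := mul_mem (inv_mem (mem_sup_left hrD)) hmem'
    have hrc : r * c₀ = c₀ * r := (d.M_central d.E_comm hc1 hc2 hrT).symm
    have hc02 : c₀ * c₀ = 1 := by
      obtain ⟨ε, hε, h'⟩ := d.sq_M d.E_comm hc1 hc2
      rcases k.sq_E hε with ⟨hε2, -⟩ | ⟨hε2, -⟩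
      · exact h'.trans hε2
      exfalso
      obtain ⟨ε', hε', h''⟩ := d.M_dec hc1 hc2
      have hεD : ε' ∈ D' := by
        rcases h'' with h'' | h''
        · exact h'' ▸ hc0D
        · have := D'.mul_mem (mem_sup_left (k.n₀_D hx hxU)) hc0D
          rwa [show c₀ = d.n₀ * ε' from h'', ← mul_assoc, d.n₀_sq, one_mul] at this
      have hsq : c₀ * c₀ = ε' * ε' := by
        rcases h'' with h'' | h'' <;> (change c₀ = _ at h'')
        · rw [h'']
        · rw [h'', show d.n₀ * ε' * (d.n₀ * ε') = d.n₀ * (ε' * d.n₀) * ε' by group,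
            d.n₀_comm (d.E_le hε'), show d.n₀ * (d.n₀ * ε') * ε' = (d.n₀ * d.n₀) * (ε' * ε') by group,
            d.n₀_sq, one_mul]
      rcases k.sq_E hε' with ⟨he2, -⟩ | ⟨-, rfl | rfl⟩
      · exact k.w_ne (by rw [← hε2, ← h', hsq, he2])
      · exact heD' hεD
      · refine heD' ?_
        have := D'.mul_mem (mem_sup_right (mem_zpowers k.w)) hεD
        rwa [← mul_assoc, k.w_sq, one_mul] at this
    refine hw'z ?_
    calc w' = r * c₀ * (r * c₀) := by simp only [hw', c₀]; group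
      _ = r * (c₀ * r) * c₀ := by group
      _ = (r * r) * (c₀ * c₀) := by rw [← hrc]; group
      _ = D.z := by rw [hc02, mul_one, hr4, hz]

end Four

theorem Dec.false_of_four [IsSimpleGroup G] {D : Setting G} {c : Cfg D} (d : Dec c)
    (h4 : Nat.card d.E = 4) (he : ∃ e ∈ d.E, e * e ≠ 1) : False := by
  obtain ⟨e, he, hne⟩ := he
  exact Four.contradiction (⟨e, he, h4, hne⟩ : Four d)

end Cfsg.Agent.LengthEight
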