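import Cfsg.Agent.Lib.LengthEight.Gen

/-!
# The case `E = 1`: `S` is dihedral (helper98)

`Dec.dihedral_of_one` : two involutions generate `S`.
-/

set_option autoImplicit false
set_option linter.style.haveILetI false
set_option linter.unusedSectionVars false

namespace Cfsg.Agent.LengthEight

open Subgroup
open scoped commutatorElement

variable {G : Type*} [Group G] [Finite G]

namespace Dec

variable [IsSimpleGroup G] {D : Setting G} {c : Cfg D} (d : Dec c)
include d

theorem U_eq_one (h1 : Nat.card d.E = 1) {U : Subgroup G} (hUS : U ≤ D.S) (h64 : Nat.card U = 64)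
    (hTU : c.T ≤ U) {v : G} (hv : v ∈ (D.S : Subgroup G)) (hvU : v ∉ U) :
    closure ({d.f, v * d.f * v⁻¹} : Set G) = U := by
  have hab := d.E_comm
  have hUn := S_le_normalizer_half hUS h64
  have hQ4 : Nat.card c.Q = 4 := by rw [d.card_Q, h1]
  have hcent : U ⊓ centralizer ({d.f} : Set G) = c.Q := le_antisymm
    (fun x hx => d.cent_S hab d.f_Q d.f_not_Qu (hUS hx.1) (mem_centralizer_singleton_iff.1 hx.2))
    (fun x hx => ⟨hTU (c.Q_le_T hx), mem_centralizer_singleton_iff.2 (d.Q_comm hab hx d.f_Q)⟩)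
  have h := two_gen (D.S.2.to_le hUS) h64 (f := d.f) (g := v * d.f * v⁻¹) (v := v) (W := ⊥) bot_le
    (fun u _ w hw => by rw [mem_bot] at hw; rw [hw, mul_one, one_mul]) (by rw [card_bot]; norm_num)
    (d.f_mem_U hTU) d.f_sq (fun h => d.f_ne (mem_bot.1 h)) (d.g_mem_U hTU hUn hv)
    (fun u _ hu => mul_inv_eq_iff_eq_mul.1 (mul_inv_eq_one.1 (mem_bot.1 hu)))
    (by rw [hcent, hQ4, card_bot]) (fun u hu w hw heq => ?_) rfl ?_
  · rwa [sup_bot_eq] at h
  · rw [mem_bot] at hw
    rw [hw, mul_one] at heq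
    have hQ : u⁻¹ * v ∈ c.Q := d.cent_S hab d.f_Q d.f_not_Qu (mul_mem (inv_mem (hUS hu)) hv) (by
      calc u⁻¹ * v * d.f = u⁻¹ * (v * d.f * v⁻¹) * v := by group
        _ = u⁻¹ * (u * d.f * u⁻¹) * v := by rw [heq]
        _ = d.f * (u⁻¹ * v) := by group)
    refine hvU ?_
    simpa using U.mul_mem hu (hTU (c.Q_le_T hQ))
  · rw [sup_bot_eq, ← cj_eq_iff_mem_normalizer]
    show map _ ⁅U, U⁆ = _
    rw [map_commutator]
    show ⁅cj v U, cj v U⁆ = _
    rw [cj_eq_iff_mem_normalizer.2 (hUn hv)]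

theorem dihedral_of_one (h1 : Nat.card d.E = 1) :
    ∃ f x : G, orderOf f = 2 ∧ orderOf x = 2 ∧ f ≠ x ∧ closure ({f, x} : Set G) = (D.S : Subgroup G) := by
  classical
  haveI := Fact.mk Nat.prime_two
  have hab := d.E_comm
  have hE : d.E = ⊥ := eq_bot_of_card_eq d.E h1
  obtain ⟨U₀, hU₀, hTU₀⟩ : ∃ U₀ : Subgroup (D.S : Subgroup G), IsCoatom U₀ ∧ c.T.subgroupOf D.S ≤ U₀ := by
    refine (eq_top_or_exists_le_coatom (c.T.subgroupOf D.S)).resolve_left fun e => ?_
    obtain ⟨u, hu, -, huT, -⟩ := c.exists_outside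
    exact huT ((subgroupOf_eq_top.1 e) hu)
  set U := U₀.map (D.S : Subgroup G).subtype
  have hUS : U ≤ D.S := map_subtype_le _
  have h64 : Nat.card U = 64 := by
    have h := U₀.card_mul_index
    rw [PGroup.isCoatom_index D.S.2 hU₀, D.card_S] at h
    rw [Nat.card_congr (U₀.equivMapOfInjective _ (D.S : Subgroup G).subtype_injective).toEquiv.symm]
    omega
  have hTU : c.T ≤ U := fun x hx => ⟨⟨x, c.T_le_S hx⟩, hTU₀ hx, rfl⟩
  have hUn := S_le_normalizer_half hUS h64
  obtain ⟨v, hv, hvU⟩ := SetLike.exists_of_lt (show U < D.S from lt_of_le_of_ne hUS fun e => by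
    rw [e, D.card_S] at h64; omega)
  have hgen := d.U_eq_one h1 hUS h64 hTU hv hvU
  have hcentral : ∀ i ∈ U, (∀ u ∈ U, u * i = i * u) → i ≠ 1 → i = D.z := by
    intro i _ hi hi1
    obtain ⟨hQ, hQu⟩ := d.central_mem hTU hi
    obtain ⟨hzQ, hzu⟩ := d.z_M
    have key : ∀ x ∈ c.Q, x ∈ cj d.u c.Q → x ≠ 1 → x = d.n₀ := by
      intro x hx hxu hx1
      obtain ⟨e, he, h⟩ := d.M_dec hx hxu
      rw [hE, mem_bot] at he
      subst he
      rcases h with h | h
      · exact absurd h hx1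
      · rw [h, mul_one]
    rw [key i hQ hQu hi1, key D.z hzQ hzu D.z_ne_one]
  obtain ⟨x, hxS, hxU, hx2⟩ := d.exists_involution_outside hUS h64 hTU (fun i hi hi2 _ => by
      refine d.inv_cases hUS hTU hUn hv (fun y hyf hyg _ u hu => ?_) (w := 1)
        (fun u _ => by rw [mul_one, one_mul]) (one_mul 1) (δ := i) (hgen.ge hi) (mul_one i).symm hi2
      have hle : closure ({d.f, v * d.f * v⁻¹} : Set G) ≤ centralizer ({y} : Set G) := (closure_le _).2
        (Set.insert_subset (mem_centralizer_singleton_iff.2 hyf.symm)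
          (Set.singleton_subset_iff.2 (mem_centralizer_singleton_iff.2 hyg.symm)))
      exact mem_centralizer_singleton_iff.1 (hle (hgen.ge hu)))
    (fun i hi _ hi1 hiz hc => absurd (hcentral i hi hc hi1) hiz)
  have hx1 : x ≠ 1 := fun e => hxU (e ▸ one_mem _)
  have hxo := Involution.orderOf_of_sq hx2 hx1
  refine ⟨d.f, x, d.orderOf_f, hxo, fun e => hxU (e ▸ d.f_mem_U hTU), ?_⟩
  set L := closure ({d.f, x} : Set G)
  have hxL : x ∈ L := subset_closure (by simp)
  have hfL : d.f ∈ L := subset_closure (by simp)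
  have hLS : L ≤ D.S :=
    (closure_le _).2 (Set.insert_subset (c.Q_le_S d.f_Q) (Set.singleton_subset_iff.2 hxS))
  have hlt : U < L := by
    refine lt_of_le_of_ne ?_ fun e => hxU (e ▸ hxL)
    rw [← d.U_eq_one h1 hUS h64 hTU hxS hxU]
    exact (closure_le _).2 (Set.insert_subset hfL
      (Set.singleton_subset_iff.2 (mul_mem (mul_mem hxL hfL) (inv_mem hxL))))
  exact eq_of_lt_of_half hlt hLS (by rw [D.card_S, h64]; norm_num)

end Dec

end Cfsg.Agent.LengthEight
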