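import Cfsg.Agent.Lib.LengthEight.Gen

/-!
# The case `|E| = 2` does not occur (helper98)

The centralizer `U` of the involution `w` of `E` has index two in `S` and is `D × ⟨w⟩` with `D` dihedral; the
transfer of `w` into `D⟨x⟩`, for an involution `x` outside `U`, is not trivial.
-/

set_option autoImplicit false
set_option linter.style.haveILetI false
set_option linter.unusedSectionVars false

namespace Cfsg.Agent.LengthEight

open Subgroup
open scoped commutatorElement

variable {G : Type*} [Group G] [Finite G]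

namespace Dec

variable [IsSimpleGroup G] {D : Setting G} {c : Cfg D} (d : Dec c)
include d

theorem n₀_commutator {U : Subgroup G} (hTU : c.T ≤ U) : d.n₀ ∈ ⁅U, U⁆ := by
  have e : d.n₀ = ⁅d.f, d.a⁆ := by
    rw [commutatorElement_def]
    calc d.n₀ = (d.f * d.f) * d.n₀ * (d.a * d.a⁻¹) := by rw [d.f_sq, mul_inv_cancel, one_mul, mul_one]
      _ = d.f * (d.f * d.n₀ * d.a) * d.a⁻¹ := by group
      _ = d.f * (d.a * d.f) * d.a⁻¹ := by rw [d.a_f]
      _ = d.f * d.a * d.f⁻¹ * d.a⁻¹ := by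
        rw [inv_eq_of_mul_eq_one_right d.f_sq]; group
  rw [e]
  exact commutator_mem_commutator (d.f_mem_U hTU) (hTU d.a_mem)

/-- The involutions `f` and `f w` are not conjugate when `w ∈ E` is moved to `w z`. -/
theorem not_conj_fw {w : G} (hw : w ∈ d.E) (hw2 : w * w = 1) {v : G}
    (hvw : v * w * v⁻¹ = w * D.z) (hnz : D.z = d.n₀ ∨ D.z = d.n₀ * w) (g : G) :
    g * d.f * g⁻¹ ≠ d.f * w := by
  intro heq
  have hhw : d.h * w * d.h⁻¹ = w := by rw [← d.E_h w hw]; group
  have h1 : (d.h⁻¹ * g * d.h) * d.n₀ * (d.h⁻¹ * g * d.h)⁻¹ = d.n₀ * w := by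
    calc (d.h⁻¹ * g * d.h) * d.n₀ * (d.h⁻¹ * g * d.h)⁻¹ = d.h⁻¹ * (g * (d.h * d.n₀ * d.h⁻¹) * g⁻¹) * d.h := by
          group
      _ = d.h⁻¹ * (d.f * w) * d.h := by rw [d.h_conj, heq]
      _ = d.h⁻¹ * ((d.h * d.n₀ * d.h⁻¹) * (d.h * w * d.h⁻¹)) * d.h := by rw [d.h_conj, hhw]
      _ = d.n₀ * w := by group
  set k := d.h⁻¹ * g * d.h
  have hnw : d.n₀ * w = w * d.n₀ := (d.n₀_comm (d.E_le hw)).symm
  rcases hnz with hz | hz
  · refine d.not_conj_z hw (k⁻¹ * v) ?_
    calc k⁻¹ * v * w * (k⁻¹ * v)⁻¹ = k⁻¹ * (v * w * v⁻¹) * k := by group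
      _ = k⁻¹ * (d.n₀ * w) * k := by rw [hvw, hz, hnw]
      _ = k⁻¹ * (k * d.n₀ * k⁻¹) * k := by rw [h1]
      _ = D.z := by rw [hz]; group
  · refine d.not_conj_z hw (k * v) ?_
    calc k * v * w * (k * v)⁻¹ = k * (v * w * v⁻¹) * k⁻¹ := by group
      _ = k * (w * w * d.n₀) * k⁻¹ := by rw [hvw, hz, hnw]; group
      _ = k * d.n₀ * k⁻¹ := by rw [hw2, one_mul]
      _ = D.z := by rw [hz, h1]

theorem false_of_two (h2 : Nat.card d.E = 2) : False := by
  classical
  haveI := Fact.mk Nat.prime_two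
  have hab := d.E_comm
  obtain ⟨⟨w, hw⟩, hwo⟩ := exists_prime_orderOf_dvd_card' (G := d.E) 2 (by rw [h2])
  have hwo' : orderOf w = 2 := (orderOf_coe (⟨w, hw⟩ : d.E)).trans hwo
  have hw2 : w * w = 1 := Involution.mul_self hwo'
  have hw1 : w ≠ 1 := Involution.ne_one hwo'
  have hEw : d.E = zpowers w :=
    (eq_of_le_of_card_ge (zpowers_le.2 hw) (by rw [Nat.card_zpowers, hwo', h2])).symm
  have hEmem : ∀ e ∈ d.E, e = 1 ∨ e = w := by
    intro e he
    obtain ⟨j, rfl⟩ := mem_zpowers_iff.1 (hEw ▸ he)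
    rcases Int.even_or_odd j with ⟨m, rfl⟩ | ⟨m, rfl⟩
    · left; rw [← two_mul, zpow_mul, zpow_two, hw2, one_zpow]
    · right; rw [zpow_add_one, zpow_mul, zpow_two, hw2, one_zpow, one_mul]
  have hwQ : w ∈ c.Q := d.E_le hw
  have hwS : w ∈ (D.S : Subgroup G) := c.Q_le_S hwQ
  have hnw : d.n₀ * w = w * d.n₀ := (d.n₀_comm hwQ).symm
  have hzw : D.z ≠ w := fun e => d.not_conj_z hw 1 (by rw [e]; group)
  have hz : D.z = d.n₀ ∨ D.z = d.n₀ * w := by
    obtain ⟨e, he, h⟩ := d.M_dec d.z_M.1 d.z_M.2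
    rcases hEmem e he with rfl | rfl <;> rcases h with h | h
    · exact absurd h D.z_ne_one
    · exact Or.inl (h.trans (mul_one _))
    · exact absurd h hzw
    · exact Or.inr h
  -- involutions of `Q ∩ Qᵘ`
  have hthird : ∀ i ∈ c.Q, i ∈ cj d.u c.Q → i ≠ 1 → i ≠ D.z → i = w ∨ i = w * D.z := by
    intro i hi hiu hi1 hiz
    obtain ⟨e, he, h⟩ := d.M_dec hi hiu
    rcases hEmem e he with rfl | rfl <;> rcases h with h | h
    · exact absurd h hi1
    · right
      rcases hz with hz | hz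
      · exact absurd (h.trans ((mul_one _).trans hz.symm)) hiz
      · rw [h, hz, mul_one, hnw, ← mul_assoc, hw2, one_mul]
    · exact Or.inl h
    · right
      rcases hz with hz | hz
      · rw [h, hz, hnw]
      · exact absurd (h.trans hz.symm) hiz
  have hQ8 : Nat.card c.Q = 8 := by rw [d.card_Q, h2]
  have hT16 : Nat.card c.T = 16 := by rw [d.card_T_eq, h2]
  set U := (D.S : Subgroup G) ⊓ centralizer ({w} : Set G) with hU
  have hUS : U ≤ D.S := inf_le_left
  have hTU : c.T ≤ U := fun t ht =>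
    ⟨c.T_le_S ht, mem_centralizer_singleton_iff.2 (d.M_central hab hwQ (d.E_Qu hw) ht).symm⟩
  have hzc : ∀ s ∈ (D.S : Subgroup G), s * D.z * s⁻¹ = D.z := fun s hs => by
    rw [D.z_comm s hs, mul_inv_cancel_right]
  -- the stabilizer of `{w, w z}`
  let T2 : Subgroup G :=
    { carrier := {s | s ∈ (D.S : Subgroup G) ∧ (s * w * s⁻¹ = w ∨ s * w * s⁻¹ = w * D.z)}
      one_mem' := ⟨one_mem _, Or.inl (by group)⟩
      mul_mem' := by
        rintro s t ⟨hs, hs'⟩ ⟨ht, ht'⟩
        refine ⟨mul_mem hs ht, ?_⟩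
        have e : s * t * w * (s * t)⁻¹ = s * (t * w * t⁻¹) * s⁻¹ := by group
        rcases ht' with h | h <;> rw [e, h]
        · exact hs'
        · rw [show s * (w * D.z) * s⁻¹ = s * w * s⁻¹ * (s * D.z * s⁻¹) by group, hzc s hs]
          rcases hs' with h' | h' <;> rw [h']
          · exact Or.inr rfl
          · left; rw [mul_assoc, D.z_mul_self, mul_one]
      inv_mem' := by
        rintro s ⟨hs, hs'⟩
        refine ⟨inv_mem hs, ?_⟩
        have hz' := hzc s⁻¹ (inv_mem hs)
        rcases hs' with h | h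
        · left
          calc s⁻¹ * w * s⁻¹⁻¹ = s⁻¹ * (s * w * s⁻¹) * s := by rw [h]; group
            _ = w := by group
        · right
          calc s⁻¹ * w * s⁻¹⁻¹ = s⁻¹ * (w * D.z * D.z) * s := by rw [mul_assoc w, D.z_mul_self]; group
            _ = s⁻¹ * (s * w * s⁻¹ * D.z) * s := by rw [h]
            _ = w * (s⁻¹ * D.z * s⁻¹⁻¹) := by group
            _ = w * D.z := by rw [hz'] }
  have hUT2 : U ≤ T2 := fun x hx =>
    ⟨hx.1, Or.inl (by rw [mem_centralizer_singleton_iff.1 hx.2, mul_inv_cancel_right])⟩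
  have hT2S : T2 ≤ D.S := fun x hx => hx.1
  -- conjugates of `Q` inside the stabilizer centralize `w`
  have hkey : ∀ s ∈ (D.S : Subgroup G), cj s c.Q ≤ T2 → ∀ x ∈ cj s c.Q, x * w = w * x := by
    intro s hs hle x hx
    by_contra hxw
    have hwn : w ∈ normalizer ((cj s c.Q : Subgroup G) : Set G) := by
      rw [← cj_eq_iff_mem_normalizer]
      refine eq_of_le_of_card_ge (fun y hy => ?_) (card_cj w (cj s c.Q)).ge
      have hk := mem_cj.1 hy
      have hzs : D.z ∈ cj s c.Q := by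
        rw [← hzc s hs]; exact conj_mem_cj c.z_mem_Q
      set k := w⁻¹ * y * w
      have hy' : y = w * k * w⁻¹ := by simp only [k]; group
      rcases (hle hk).2 with h | h
      · have : y = k := by
          calc y = w * k * w⁻¹ := hy'
            _ = (k * w * k⁻¹) * k * w⁻¹ := by rw [h]
            _ = k := by group
        rw [this]; exact hk
      · have : y = D.z * k := by
          calc y = D.z * (D.z⁻¹ * (w * k * w⁻¹)) := by rw [hy']; group
            _ = D.z * ((w * D.z)⁻¹ * (w * w) * k * w⁻¹) := by group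
            _ = D.z * ((k * w * k⁻¹)⁻¹ * k * w⁻¹) := by rw [hw2, h, mul_one]
            _ = D.z * (k * (w * w)⁻¹) := by group
            _ = D.z * k := by rw [hw2, inv_one, mul_one]
        rw [this]; exact mul_mem hzs hk
    set w' := s⁻¹ * w * s
    have hw'S : w' ∈ (D.S : Subgroup G) := mul_mem (mul_mem (inv_mem hs) hwS) hs
    have hw'T : w' ∈ c.T := by
      refine c.mem_T_of_norm_Q hw'S (cj_eq_iff_mem_normalizer.1 ?_)
      calc cj w' c.Q = cj s⁻¹ (cj w (cj s c.Q)) := by simp only [cj_cj, w', mul_assoc]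
        _ = cj s⁻¹ (cj s c.Q) := by rw [cj_eq_iff_mem_normalizer.2 hwn]
        _ = c.Q := by rw [cj_cj, inv_mul_cancel, cj_eq_iff_mem_normalizer]; exact one_mem _
    have hw'2 : w' * w' = 1 := by
      calc w' * w' = s⁻¹ * (w * w) * s := by simp only [w']; group
        _ = 1 := by rw [hw2]; group
    have hw'Q : w' ∉ c.Q := fun h => hxw (by
      have := d.Q_comm hab (mem_cj.1 hx) h
      calc x * w = s * (s⁻¹ * x * s * w') * s⁻¹ := by simp only [w']; group
        _ = s * (w' * (s⁻¹ * x * s)) * s⁻¹ := by rw [this]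
        _ = w * x := by simp only [w']; group)
    have hle2 : cj s⁻¹ U ≤ cj d.u c.Q := fun y hy => by
      have hy' := mem_cj.1 hy
      rw [inv_inv] at hy'
      refine d.cent_S' hab (d.invol_T hw'T hw'Q hw'2) hw'Q ?_ ?_
      · have := mul_mem (mul_mem (inv_mem hs) (hUS hy')) hs
        simpa [mul_assoc] using this
      · have h := mem_centralizer_singleton_iff.1 hy'.2
        calc y * w' = s⁻¹ * (s * y * s⁻¹ * w) * s := by simp only [w']; group
          _ = s⁻¹ * (w * (s * y * s⁻¹)) * s := by rw [h]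
          _ = w' * y := by simp only [w']; group
    have := card_le_of_le hle2
    rw [card_cj, card_cj, hQ8] at this
    have := card_le_of_le hTU
    omega
  have hT2 : T2 = (D.S : Subgroup G) := by
    by_contra hne
    obtain ⟨s, ⟨hsS, hsN⟩, hsT⟩ := SetLike.exists_of_lt
      (SubnormalizerCount.lt_inf_normalizer D.S.2 (lt_of_le_of_ne hT2S hne))
    refine hsT ?_
    have hcs : ∀ K : Subgroup G, K ≤ c.T → cj s K ≤ T2 := fun K hK =>
      (cj_le_cj (hK.trans (hTU.trans hUT2))).trans (cj_eq_iff_mem_normalizer.2 hsN).le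
    have h1 := hkey s hsS (hcs _ c.Q_le_T)
    have h2' := hkey (s * d.u) (mul_mem hsS d.u_mem) (by
      rw [← cj_cj]; exact hcs _ (c.Qu_le_T d.u_mem d.u_norm d.u_not d.u_sq))
    set w' := s⁻¹ * w * s
    have hQ' : ∀ q ∈ c.Q, q * w' = w' * q := fun q hq => by
      have h := h1 _ (conj_mem_cj (g := s) hq)
      calc q * w' = s⁻¹ * (s * q * s⁻¹ * w) * s := by simp only [w']; group
        _ = s⁻¹ * (w * (s * q * s⁻¹)) * s := by rw [h]
        _ = w' * q := by simp only [w']; group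
    have ha' : d.a * w' = w' * d.a := by
      have h := h2' (s * d.a * s⁻¹) (by rw [← cj_cj]; exact conj_mem_cj d.a_Qu)
      calc d.a * w' = s⁻¹ * (s * d.a * s⁻¹ * w) * s := by simp only [w']; group
        _ = s⁻¹ * (w * (s * d.a * s⁻¹)) * s := by rw [h]
        _ = w' * d.a := by simp only [w']; group
    obtain ⟨hM1, hM2⟩ := d.mem_M_of_central hab (x := w') fun t ht => by
      rcases d.T_dec ht with h | h
      · exact hQ' t h
      · have e : t = t * d.a * d.a := by rw [mul_assoc, d.a_sq, mul_one]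
        rw [e]
        exact ((show Commute (t * d.a) w' from hQ' _ h).mul_left ha').eq
    have hw'1 : w' ≠ 1 := fun e => hw1 (by
      calc w = s * w' * s⁻¹ := by simp only [w']; group
        _ = 1 := by rw [e]; group)
    have hw'z : w' ≠ D.z := fun e => d.not_conj_z hw s⁻¹ (by rw [inv_inv]; exact e)
    have hs' : s⁻¹ ∈ T2 := by
      refine ⟨inv_mem hsS, ?_⟩
      rw [inv_inv]
      exact hthird w' hM1 hM2 hw'1 hw'z
    exact inv_inv s ▸ T2.inv_mem hs'
  have hmove : ∀ v ∈ (D.S : Subgroup G), v ∉ U → v * w * v⁻¹ = w * D.z := fun v hv hvU =>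
    ((hT2.ge hv).2).resolve_left fun h => hvU ⟨hv, mem_centralizer_singleton_iff.2 (by
      conv_rhs => rw [← h]
      group)⟩
  have hUne : U ≠ (D.S : Subgroup G) := by
    intro e
    have hS : (D.S : Subgroup G) ≤ centralizer ({w} : Set G) := e.ge.trans inf_le_right
    have hne : centralizer ({w} : Set G) ≠ ⊤ := by
      intro h
      have hwz : w ∈ center G :=
        mem_center_iff.2 fun g => mem_centralizer_singleton_iff.1 (h ▸ mem_top g)
      rw [SmallOrders.center_eq_bot D.na, mem_bot] at hwz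
      exact hw1 hwz
    refine c.loc.notTwo (D.S.2.to_le ?_)
    rw [← D.eq_S hS hne]
    exact fun x hx => mem_centralizer_singleton_iff.2 (d.H_comm_E hw hx)
  obtain ⟨v, hvS, hvU⟩ := SetLike.exists_of_lt (lt_of_le_of_ne hUS hUne)
  have h64 : Nat.card U = 64 := by
    have hidx : (U.subgroupOf (D.S : Subgroup G)).index = 2 := by
      rw [index_eq_two_iff]
      refine ⟨⟨v, hvS⟩, fun b => ?_⟩
      by_cases hb : (b : G) ∈ U
      · refine Or.inr ⟨hb, fun h => hvU ?_⟩
        exact (U.mul_mem_cancel_left hb).1 h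
      · refine Or.inl ⟨⟨mul_mem b.2 hvS, mem_centralizer_singleton_iff.2 ?_⟩, hb⟩
        have h1 := hmove v hvS hvU
        have h2 := hmove b b.2 hb
        have e : (b : G) * v * w * ((b : G) * v)⁻¹ = w := by
          calc (b : G) * v * w * ((b : G) * v)⁻¹ = b * (v * w * v⁻¹) * (b : G)⁻¹ := by group
            _ = (b * w * (b : G)⁻¹) * ((b : G) * D.z * (b : G)⁻¹) := by rw [h1]; group
            _ = w := by rw [h2, hzc b b.2, mul_assoc, D.z_mul_self, mul_one]
        show (b : G) * v * w = w * ((b : G) * v)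
        conv_rhs => rw [← e]
        group
    have h := (U.subgroupOf (D.S : Subgroup G)).card_mul_index
    rw [hidx, Nat.card_congr (subgroupOfEquivOfLe hUS).toEquiv, D.card_S] at h
    omega
  have hUn := S_le_normalizer_half hUS h64
  have hwc : ∀ u ∈ U, u * w = w * u := fun u hu => mem_centralizer_singleton_iff.1 hu.2
  have hwU : w ∈ U := hTU (c.Q_le_T hwQ)
  have hfU : d.f ∈ U := d.f_mem_U hTU
  have hQcent : U ⊓ centralizer ({d.f} : Set G) = c.Q := le_antisymm
    (fun x hx => d.cent_S hab d.f_Q d.f_not_Qu (hUS hx.1) (mem_centralizer_singleton_iff.1 hx.2))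
    (fun x hx => ⟨hTU (c.Q_le_T hx), mem_centralizer_singleton_iff.2 (d.Q_comm hab hx d.f_Q)⟩)
  have hgen : ∀ v ∈ (D.S : Subgroup G), v ∉ U → closure ({d.f, v * d.f * v⁻¹} : Set G) ⊔ zpowers w = U := by
    intro v hv hvU
    have hmv := hmove v hv hvU
    refine two_gen (D.S.2.to_le hUS) h64 (zpowers_le.2 hwU) ?_ (by rw [Nat.card_zpowers, hwo']; norm_num) hfU
      d.f_sq (fun h => d.f_not (hEw ▸ h)) (d.g_mem_U hTU hUn hv) ?_ ?_ ?_ rfl ?_
    · intro u hu e he
      obtain ⟨j, rfl⟩ := mem_zpowers_iff.1 he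
      exact ((show Commute u w from hwc u hu).zpow_right j).eq
    · intro u hu h
      rcases hEmem _ (hEw ▸ h) with e | e
      · exact mul_inv_eq_iff_eq_mul.1 (mul_inv_eq_one.1 e)
      · exfalso
        refine d.not_conj_fw hw hw2 hmv hz u ?_
        calc u * d.f * u⁻¹ = u * d.f * u⁻¹ * d.f⁻¹ * d.f := by group
          _ = w * d.f := by rw [e]
          _ = d.f * w := d.f_comm hwQ
    · rw [hQcent, hQ8, Nat.card_zpowers, hwo']
    · intro u hu e he heq
      rcases hEmem e (hEw ▸ he) with rfl | rfl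
      · rw [mul_one] at heq
        have hQ : u⁻¹ * v ∈ c.Q := d.cent_S hab d.f_Q d.f_not_Qu (mul_mem (inv_mem (hUS hu)) hv) (by
          calc u⁻¹ * v * d.f = u⁻¹ * (v * d.f * v⁻¹) * v := by group
            _ = u⁻¹ * (u * d.f * u⁻¹) * v := by rw [heq]
            _ = d.f * (u⁻¹ * v) := by group)
        refine hvU ?_
        simpa using U.mul_mem hu (hTU (c.Q_le_T hQ))
      · refine d.not_conj_fw hw hw2 hmv hz (u⁻¹ * v) ?_
        calc u⁻¹ * v * d.f * (u⁻¹ * v)⁻¹ = u⁻¹ * (v * d.f * v⁻¹) * u := by group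
          _ = u⁻¹ * (u * d.f * u⁻¹ * e) * u := by rw [heq]
          _ = d.f * u⁻¹ * (e * u) := by group
          _ = d.f * u⁻¹ * (u * e) := by rw [hwc u hu]
          _ = d.f * e := by group
    · have hwD : w ∈ ⁅U, U⁆ ⊔ zpowers w := mem_sup_right (mem_zpowers w)
      have hnD : d.n₀ ∈ ⁅U, U⁆ ⊔ zpowers w := mem_sup_left (d.n₀_commutator hTU)
      have hzD : D.z ∈ ⁅U, U⁆ ⊔ zpowers w := by
        rcases hz with h | h <;> rw [h]
        · exact hnD
        · exact mul_mem hnD hwD
      rw [← cj_eq_iff_mem_normalizer]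
      refine eq_of_le_of_card_ge ?_ (card_cj v _).ge
      show map _ (⁅U, U⁆ ⊔ zpowers w) ≤ _
      rw [Subgroup.map_sup, MonoidHom.map_zpowers, map_commutator]
      show ⁅cj v U, cj v U⁆ ⊔ zpowers (v * w * v⁻¹) ≤ _
      rw [cj_eq_iff_mem_normalizer.2 (hUn hv), hmv]
      exact sup_le le_sup_left (zpowers_le.2 (mul_mem hwD hzD))
  have hdecU : ∀ v ∈ (D.S : Subgroup G), v ∉ U → ∀ i ∈ U, ∃ δ ∈ closure ({d.f, v * d.f * v⁻¹} : Set G),
      i = δ ∨ i = δ * w := by
    intro v hv hvU i hi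
    have hn : zpowers w ≤ normalizer ((closure ({d.f, v * d.f * v⁻¹} : Set G) : Subgroup G) : Set G) := by
      rw [zpowers_le]
      refine centralizer_le_normalizer _ (mem_centralizer_iff.2 fun x hx => hwc x ?_)
      exact (hgen v hv hvU).le (mem_sup_left hx)
    have hi' : i ∈ closure ({d.f, v * d.f * v⁻¹} : Set G) ⊔ zpowers w := (hgen v hv hvU).ge hi
    rw [← SetLike.mem_coe, coe_mul_of_right_le_normalizer_left _ _ hn] at hi'
    obtain ⟨δ, hδ, e, he, rfl⟩ := hi'
    refine ⟨δ, hδ, ?_⟩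
    rcases hEmem e (hEw ▸ he) with rfl | rfl
    · exact Or.inl (mul_one δ)
    · exact Or.inr rfl
  have hinv : ∀ v ∈ (D.S : Subgroup G), v ∉ U → ∀ i ∈ U, i * i = 1 → (∀ u ∈ U, u * i = i * u) ∨
      ∃ s ∈ (D.S : Subgroup G), ∃ f' ∈ c.Q, f' ∉ cj d.u c.Q ∧ i = s * f' * s⁻¹ := by
    intro v hv hvU i hi hi2
    have hcentgen : ∀ x : G, x * d.f = d.f * x → x * (v * d.f * v⁻¹) = v * d.f * v⁻¹ * x →
        x ∈ U → ∀ u ∈ U, u * x = x * u := by
      intro x hxf hxg hxU u hu
      have hle : closure ({d.f, v * d.f * v⁻¹} : Set G) ⊔ zpowers w ≤ centralizer ({x} : Set G) := by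
        refine sup_le ((closure_le _).2 (Set.insert_subset (mem_centralizer_singleton_iff.2 hxf.symm)
          (Set.singleton_subset_iff.2 (mem_centralizer_singleton_iff.2 hxg.symm))))
          (zpowers_le.2 (mem_centralizer_singleton_iff.2 (hwc x hxU).symm))
      exact mem_centralizer_singleton_iff.1 (hle ((hgen v hv hvU).ge hu))
    obtain ⟨δ, hδ, rfl | rfl⟩ := hdecU v hv hvU i hi
    · exact d.inv_cases hUS hTU hUn hv hcentgen (w := 1) (fun u _ => by rw [mul_one, one_mul]) (one_mul 1)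
        hδ (mul_one _).symm hi2
    · exact d.inv_cases hUS hTU hUn hv hcentgen hwc hw2 hδ rfl hi2
  have hcen : ∀ i ∈ U, i * i = 1 → i ≠ 1 → i ≠ D.z → (∀ u ∈ U, u * i = i * u) →
      (∀ g : G, g * i * g⁻¹ ≠ D.z) ∧ ∀ v ∈ (D.S : Subgroup G), v ∉ U → v * i ≠ i * v := by
    intro i hi _ hi1 hiz hc
    obtain ⟨hQ, hQu⟩ := d.central_mem hTU hc
    rcases hthird i hQ hQu hi1 hiz with rfl | rfl
    · exact ⟨d.not_conj_z hw, fun v hv hvU h => hvU ⟨hv, mem_centralizer_singleton_iff.2 h⟩⟩
    · refine ⟨fun g h => d.not_conj_z hw (g * v) ?_,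
        fun b hb hbU h => hbU ⟨hb, mem_centralizer_singleton_iff.2 ?_⟩⟩
      · rw [← h, ← hmove v hvS hvU]; group
      · have hzb := D.z_comm b hb
        calc b * w = b * (w * D.z) * D.z := by rw [mul_assoc b, mul_assoc w, D.z_mul_self, mul_one]
          _ = w * D.z * b * D.z := by rw [h]
          _ = w * D.z * (b * D.z) := by group
          _ = w * (D.z * D.z) * b := by rw [hzb]; group
          _ = w * b := by rw [D.z_mul_self, mul_one]
  obtain ⟨x, hxS, hxU, hx2⟩ := d.exists_involution_outside hUS h64 hTU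
    (fun i hi hi2 _ => hinv v hvS hvU i hi hi2) hcen
  set g := x * d.f * x⁻¹ with hg
  set D' := closure ({d.f, g} : Set G) with hD'
  have hD'U : D' ≤ U := le_sup_left.trans (hgen x hxS hxU).le
  have hxi : x⁻¹ = x := inv_eq_of_mul_eq_one_right hx2
  -- the rotation of order two is `z`
  obtain ⟨k, hk2, hk1⟩ := d.rot_invol hxS hUS hTU hxU
  set ρ := d.f * g
  set r := ρ ^ k
  have hρD : ρ ∈ D' := mul_mem (subset_closure (by simp)) (subset_closure (by simp))
  have hrD : r ∈ D' := pow_mem hρD k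
  have hri : r⁻¹ = r := inv_eq_of_mul_eq_one_right hk2
  have hxρ : x * ρ * x⁻¹ = ρ⁻¹ := by
    have hgi : g⁻¹ = g := by
      simp only [hg]; rw [mul_inv_rev, mul_inv_rev, inv_inv, inv_eq_of_mul_eq_one_right d.f_sq]; group
    show x * (d.f * g) * x⁻¹ = (d.f * g)⁻¹
    rw [mul_inv_rev, hgi, inv_eq_of_mul_eq_one_right d.f_sq]
    simp only [hg]
    calc x * (d.f * (x * d.f * x⁻¹)) * x⁻¹ = x * d.f * x * d.f * (x * x)⁻¹ := by group
      _ = x * d.f * x⁻¹ * d.f := by rw [hx2, inv_one, mul_one, hxi]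
  have hxr : x * r = r * x := by
    have : x * r * x⁻¹ = r := by
      show x * ρ ^ k * x⁻¹ = ρ ^ k
      rw [← conj_pow, hxρ, inv_pow]; exact hri
    conv_rhs => rw [← this]
    group
  have hrρ : r * ρ = ρ * r := (Commute.pow_self ρ k).eq
  have hfg : d.f * d.f = 1 := d.f_sq
  have hrz : r = D.z := by
    have hfρ : d.f * ρ * d.f⁻¹ = ρ⁻¹ := by
      have hgi : g⁻¹ = g := by
        simp only [hg]; rw [mul_inv_rev, mul_inv_rev, inv_inv, inv_eq_of_mul_eq_one_right d.f_sq]; group
      show d.f * (d.f * g) * d.f⁻¹ = (d.f * g)⁻¹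
      rw [mul_inv_rev, hgi, ← mul_assoc, d.f_sq, one_mul]
    have hrf : r * d.f = d.f * r := by
      have : d.f * r * d.f⁻¹ = r := by
        show d.f * ρ ^ k * d.f⁻¹ = ρ ^ k
        rw [← conj_pow, hfρ, inv_pow]; exact hri
      conv_lhs => rw [← this]
      group
    have hrg : r * g = g * r := by
      have e : g = d.f⁻¹ * ρ := by simp only [ρ]; group
      rw [e]
      exact ((show Commute r d.f from hrf).inv_right.mul_right hrρ).eq
    have hrc : ∀ u ∈ U, u * r = r * u := by
      intro u hu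
      have hle : closure ({d.f, g} : Set G) ⊔ zpowers w ≤ centralizer ({r} : Set G) := sup_le
        ((closure_le _).2 (Set.insert_subset (mem_centralizer_singleton_iff.2 hrf.symm)
          (Set.singleton_subset_iff.2 (mem_centralizer_singleton_iff.2 hrg.symm))))
        (zpowers_le.2 (mem_centralizer_singleton_iff.2 (hwc r (hD'U hrD)).symm))
      exact mem_centralizer_singleton_iff.1 (hle ((hgen x hxS hxU).ge hu))
    by_contra hne
    exact (hcen r (hD'U hrD) hk2 hk1 hne hrc).2 x hxS hxU hxr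
  have hzD : D.z ∈ D' := hrz ▸ hrD
  have hwD : w ∉ D' := by
    intro h
    rcases involution_cases d.orderOf_f (d.orderOf_conj_f x) h hw2 with ⟨⟨j, hj⟩, -, -⟩ | ⟨b, hb, he⟩ | ⟨b, hb, he⟩
    · exact hzw (hrz ▸ (eq_of_zpow_involutions (pow_mem (mem_zpowers ρ) k)
        (mem_zpowers_iff.2 ⟨j, hj.symm⟩) hk2 hw2 hk1 hw1))
    · refine d.f_not ?_
      have e : d.f = w := by
        calc d.f = b⁻¹ * (b * d.f * b⁻¹) * b := by group
          _ = b⁻¹ * (w * b) := by rw [← he]; group
          _ = b⁻¹ * (b * w) := by rw [hwc b (hD'U hb)]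
          _ = w := by group
      exact e ▸ hw
    · have e : g = w := by
        calc g = b⁻¹ * (b * g * b⁻¹) * b := by group
          _ = b⁻¹ * (w * b) := by rw [← he]; group
          _ = b⁻¹ * (b * w) := by rw [hwc b (hD'U hb)]
          _ = w := by group
      exact d.not_comm_g hxS hUS hTU hxU (by rw [← hg, e]; exact (d.f_comm hwQ).symm)
  set M := D' ⊔ zpowers x with hM
  have hMS : M ≤ D.S := sup_le (hD'U.trans hUS) (zpowers_le.2 hxS)
  have hnD : zpowers x ≤ normalizer (D' : Set G) := by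
    rw [zpowers_le, ← cj_eq_iff_mem_normalizer]
    refine eq_of_le_of_card_ge ?_ (card_cj x D').ge
    refine map_le_iff_le_comap.2 ((closure_le _).2 (Set.insert_subset ?_ (Set.singleton_subset_iff.2 ?_)))
    · show x * d.f * x⁻¹ ∈ D'
      exact subset_closure (by simp [hg])
    · show x * g * x⁻¹ ∈ D'
      have e : x * g * x⁻¹ = d.f := by
        calc x * g * x⁻¹ = (x * x) * d.f * (x * x)⁻¹ := by simp only [hg]; group
          _ = d.f := by rw [hx2]; group
      rw [e]; exact subset_closure (by simp)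
  have hMU : ∀ i ∈ M, i ∈ U → i ∈ D' := by
    intro i hi hiU
    rw [← SetLike.mem_coe, coe_mul_of_right_le_normalizer_left D' _ hnD] at hi
    obtain ⟨δ, hδ, y, hy, hiy⟩ := hi
    change δ * y = i at hiy
    obtain ⟨j, rfl⟩ := mem_zpowers_iff.1 hy
    have hxz : x ^ (2 : ℤ) = 1 := by rw [zpow_two, hx2]
    rcases Int.even_or_odd j with ⟨m, rfl⟩ | ⟨m, rfl⟩
    · rw [← two_mul, zpow_mul, hxz, one_zpow, mul_one] at hiy
      exact hiy ▸ hδ
    · rw [zpow_add_one, zpow_mul, hxz, one_zpow, one_mul] at hiy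
      exact absurd ((U.mul_mem_cancel_left (hD'U hδ)).1 (hiy.symm ▸ hiU)) hxU
  have hwM : w ∉ M := fun h => hwD (hMU w h hwU)
  have hD32 : 32 ≤ Nat.card D' := by
    have hn : zpowers w ≤ normalizer (D' : Set G) := by
      rw [zpowers_le]
      exact centralizer_le_normalizer _ (mem_centralizer_iff.2 fun y hy => hwc y (hD'U hy))
    have h := PLocal.card_sup_mul_card_inf hn
    rw [hD', hgen x hxS hxU, ← hD', h64, Nat.card_zpowers, hwo'] at h
    have : 0 < Nat.card ↥(D' ⊓ zpowers w) := Nat.card_pos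
    nlinarith
  have hM64 : Nat.card M = 64 := by
    obtain ⟨b, hb7, hb⟩ := D.card_le_of_two (D.S.2.to_le hMS)
    have hlt : Nat.card D' < Nat.card M := (Set.toFinite _).card_lt_card
      (show D' < M from lt_of_le_of_ne le_sup_left fun e => hxU (hD'U (e.ge (mem_sup_right (mem_zpowers x)))))
    have hlt2 : Nat.card M < 2 ^ 7 := by
      rw [← D.card_S]
      exact (Set.toFinite _).card_lt_card (show M < D.S from lt_of_le_of_ne hMS fun e => hwM (e ▸ hwS))
    rw [hb] at hlt hlt2 ⊢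
    have h5 : 5 < b := (Nat.pow_lt_pow_iff_right (a := 2) (by norm_num)).1 (by omega)
    have h7 : b < 7 := (Nat.pow_lt_pow_iff_right (a := 2) (by norm_num)).1 hlt2
    obtain rfl : b = 6 := by omega
    norm_num
  refine false_of_fixed D.na D.S (index_subgroupOf_half hMS hM64) (e := w) (n := 1)
    (by rw [pow_one, pow_two, hw2]) (D.S.2.to_le hUS) hwU hwc (fun g k hk h => ?_) (fun g hP h => ?_)
  · show g⁻¹ * w ^ k * g ∈ M
    obtain ⟨j, rfl⟩ := hk
    rw [← two_mul, pow_mul, pow_two, hw2, one_pow]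
    simp
  · show g⁻¹ * w * g ∉ M
    set w' := g⁻¹ * w * g with hw'
    have hw'2 : w' * w' = 1 := by
      calc w' * w' = g⁻¹ * (w * w) * g := by simp only [hw']; group
        _ = 1 := by rw [hw2]; group
    have hU'S : cj g⁻¹ U ≤ D.S := fun y hy => by
      have := mem_cj.1 hy
      rw [inv_inv] at this
      have h2 := hP _ this
      simpa [mul_assoc] using h2
    have hU'c : ∀ y ∈ cj g⁻¹ U, y * w' = w' * y := fun y hy => by
      have h' := mem_cj.1 hy
      rw [inv_inv] at h'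
      calc y * w' = g⁻¹ * (g * y * g⁻¹ * w) * g := by simp only [hw']; group
        _ = g⁻¹ * (w * (g * y * g⁻¹)) * g := by rw [hwc _ h']
        _ = w' * y := by simp only [hw']; group
    have hU'64 : Nat.card ↥(cj g⁻¹ U) = 64 := by rw [card_cj, h64]
    by_cases hw'U : w' ∈ U
    · have hw'1 : w' ≠ 1 := fun e => hw1 (by
        calc w = g * w' * g⁻¹ := by simp only [hw']; group
          _ = 1 := by rw [e]; group)
      rcases hinv v hvS hvU w' hw'U hw'2 with hc | ⟨s, hs, f', hf', hf'u, he⟩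
      · obtain ⟨hQ, hQu⟩ := d.central_mem hTU hc
        have hw'z : w' ≠ D.z := fun e => d.not_conj_z hw g⁻¹ (by rw [inv_inv]; exact e)
        intro hmem
        have hmem' := hMU w' hmem hw'U
        rcases hthird w' hQ hQu hw'1 hw'z with e | e
        · exact hwD (e ▸ hmem')
        · refine hwD ?_
          have := D'.mul_mem hmem' (D'.inv_mem hzD)
          rwa [e, mul_inv_cancel_right] at this
      · exfalso
        have hle : cj g⁻¹ U ≤ cj s c.Q := fun y hy => by
          refine mem_cj.2 (d.cent_S hab hf' hf'u (mul_mem (mul_mem (inv_mem hs) (hU'S hy)) hs) ?_)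
          have h2 := hU'c y hy
          rw [he] at h2
          calc s⁻¹ * y * s * f' = s⁻¹ * (y * (s * f' * s⁻¹)) * s := by group
            _ = s⁻¹ * (s * f' * s⁻¹ * y) * s := by rw [h2]
            _ = f' * (s⁻¹ * y * s) := by group
        have := card_le_of_le hle
        rw [hU'64, card_cj, hQ8] at this
        omega
    · exfalso
      have hUU : cj g⁻¹ U ≤ normalizer (U : Set G) := hU'S.trans hUn
      have h1 := PLocal.card_sup_mul_card_inf hUU
      have hsup : Nat.card ↥(U ⊔ cj g⁻¹ U) ≤ 128 :=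
        (card_le_of_le (sup_le hUS hU'S)).trans (by rw [D.card_S]; norm_num)
      rw [h64, hU'64] at h1
      set C := U ⊓ cj g⁻¹ U
      have hC32 : 32 ≤ Nat.card C := by nlinarith
      -- a subgroup of `Q` centralizing `w'`
      have hCQ : 4 ≤ Nat.card ↥(c.Q ⊓ C) := by
        have hCn : c.Q ≤ normalizer (C : Set G) := by
          intro q hq
          have hqS := c.Q_le_S hq
          rw [← cj_eq_iff_mem_normalizer]
          have hU'n : (D.S : Subgroup G) ≤ normalizer ((cj g⁻¹ U : Subgroup G) : Set G) :=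
            S_le_normalizer_half hU'S hU'64
          rw [cj_inf, cj_eq_iff_mem_normalizer.2 (hUn hqS), cj_eq_iff_mem_normalizer.2 (hU'n hqS)]
        have h2 := PLocal.card_sup_mul_card_inf hCn
        have hsup2 : Nat.card ↥(C ⊔ c.Q) ≤ 64 :=
          h64 ▸ card_le_of_le (sup_le inf_le_left ((c.Q_le_T).trans hTU))
        rw [inf_comm, hQ8] at h2
        nlinarith
      by_cases hall : c.Q ⊓ C ≤ cj d.u c.Q
      · have hle : c.Q ⊓ C ≤ c.Q ⊓ cj d.u c.Q := le_inf inf_le_left hall
        have heq := eq_of_le_of_card_ge hle (by rw [d.card_M_eq, h2]; exact hCQ)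
        have hwC : w ∈ c.Q ⊓ C := heq.ge ⟨hwQ, d.E_Qu hw⟩
        exact hw'U ⟨h,
          mem_centralizer_singleton_iff.2 (hU'c w hwC.2.2).symm⟩
      · obtain ⟨p, hp, hpu⟩ := SetLike.not_le_iff_exists.1 hall
        refine hw'U (hTU (c.Q_le_T (d.cent_S hab hp.1 hpu h ?_)))
        exact (hU'c p hp.2.2).symm

end Dec

end Cfsg.Agent.LengthEight
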