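import Cfsg.Agent.Lib.LengthEight.Split

/-!
# The Sylow subgroup of the largest local subgroup (helper98)

Facts on `T = ⟨f, n₀, a⟩ × E` (`Dec`): its elements, the subgroup `M = Q ∩ Qᵘ = ⟨n₀⟩ × E`, the centralizers
in `S` of elements of `Q \ M` when `E` is abelian.
-/

set_option autoImplicit false
set_option linter.style.haveILetI false
set_option linter.unusedSectionVars false

namespace Cfsg.Agent.LengthEight

open Subgroup

variable {G : Type*} [Group G] [Finite G]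

theorem S_norm_of_half {D : Setting G} {U C : Subgroup G} (hU : U ≤ D.S) (h64 : 64 ≤ Nat.card U)
    (hn : U ≤ normalizer (C : Set G)) {v : G} (hv : v ∈ (D.S : Subgroup G)) (hvU : v ∉ U)
    (hvC : v ∈ normalizer (C : Set G)) : (D.S : Subgroup G) ≤ normalizer (C : Set G) := by
  set L := normalizer (C : Set G) ⊓ D.S
  have hlt : U < L := lt_of_le_of_ne (le_inf hn hU) fun e => hvU (e ▸ ⟨hvC, hv⟩)
  have := eq_of_lt_of_half hlt inf_le_right (by rw [D.card_S]; omega)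
  exact this ▸ inf_le_left

namespace Dec

variable [IsSimpleGroup G] {D : Setting G} {c : Cfg D} (d : Dec c)
include d

theorem f_Q : d.f ∈ c.Q := c.V_le_Q d.f_mem
theorem n₀_Q : d.n₀ ∈ c.Q := c.V_le_Q d.n₀_mem
theorem f_sq : d.f * d.f = 1 := c.V_sq d.f_mem
theorem n₀_sq : d.n₀ * d.n₀ = 1 := c.V_sq d.n₀_mem

theorem n₀_comm {q : G} (hq : q ∈ c.Q) : q * d.n₀ = d.n₀ * q := c.V_comm d.n₀_mem hq
theorem f_comm {q : G} (hq : q ∈ c.Q) : q * d.f = d.f * q := c.V_comm d.f_mem hq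

theorem n₀_a : d.n₀ * d.a = d.a * d.n₀ := by
  conv_lhs => rw [← d.an₀]
  group

theorem a_f : d.a * d.f = d.f * d.n₀ * d.a := by
  calc d.a * d.f = d.a * d.f * d.a⁻¹ * d.a := by group
    _ = d.f * d.n₀ * d.a := by rw [d.afa]

theorem a_inv : d.a⁻¹ = d.a := inv_eq_of_mul_eq_one_right d.a_sq

theorem half_Q : Nat.card c.Q ≤ 2 * Nat.card ↥(c.Q ⊓ cj d.u c.Q) :=
  (c.card_M d.u_mem d.u_norm d.u_not d.u_sq).ge

theorem n₀_Qu : d.n₀ ∈ cj d.u c.Q := d.cent_a _ d.n₀_Q d.n₀_a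

theorem M_dec {x : G} (hx : x ∈ c.Q) (hxu : x ∈ cj d.u c.Q) :
    ∃ e ∈ d.E, x = e ∨ x = d.n₀ * e := by
  obtain ⟨e, he, h⟩ := d.dec x hx
  rcases h with h | h | h | h
  · exact ⟨e, he, Or.inl h⟩
  · exact ⟨e, he, Or.inr h⟩
  all_goals
    exfalso
    have hc := d.a_cent x hx hxu
    have hea := d.E_a e he
    rw [h] at hc
  · refine d.n₀_ne ?_
    have h1 : d.f * d.a * e = d.f * d.n₀ * d.a * e := by
      calc d.f * d.a * e = d.f * (d.a * e) := mul_assoc _ _ _
        _ = d.f * (e * d.a) := by rw [hea]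
        _ = d.f * e * d.a := (mul_assoc _ _ _).symm
        _ = d.a * (d.f * e) := hc
        _ = d.a * d.f * e := (mul_assoc _ _ _).symm
        _ = _ := by rw [d.a_f]
    have h2 := mul_right_cancel h1
    exact left_eq_mul.1 (mul_right_cancel h2)
  · refine d.n₀_ne ?_
    have h1 : d.f * d.n₀ * d.a * e = d.f * d.a * e := by
      calc d.f * d.n₀ * d.a * e = d.f * d.n₀ * (d.a * e) := mul_assoc _ _ _
        _ = d.f * d.n₀ * (e * d.a) := by rw [hea]
        _ = d.f * d.n₀ * e * d.a := (mul_assoc _ _ _).symm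
        _ = d.a * (d.f * d.n₀ * e) := hc
        _ = d.a * d.f * d.n₀ * e := by group
        _ = d.f * (d.n₀ * (d.a * d.n₀)) * e := by rw [d.a_f]; group
        _ = d.f * d.a * e := by rw [← d.n₀_a, ← mul_assoc d.n₀, d.n₀_sq, one_mul]
    exact mul_eq_left.1 (mul_right_cancel (mul_right_cancel h1))

theorem T_dec {t : G} (ht : t ∈ c.T) : t ∈ c.Q ∨ t * d.a ∈ c.Q := by
  by_cases h : t ∈ c.Q
  · exact Or.inl h
  · exact Or.inr (mul_mem_of_half c.Q_le_T c.card_T_two_mul.le ht d.a_mem h d.a_not)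

/-- Subgroups of `E` are normalized by `H` once their elements commute with `E`. -/
theorem H_norm_of_le {C : Subgroup G} (hC : C ≤ d.E) (hcomm : ∀ e ∈ d.E, ∀ x ∈ C, e * x = x * e) :
    c.H ≤ normalizer (C : Set G) := by
  refine d.gen _ (le_trans (fun q hq => mem_centralizer_iff.2 fun x hx => ?_) (centralizer_le_normalizer _))
    (centralizer_le_normalizer _ (mem_centralizer_iff.2 fun x hx => d.E_a x (hC hx)))
    (centralizer_le_normalizer _ (mem_centralizer_iff.2 fun x hx => d.E_y x (hC hx)))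
  obtain ⟨e, he, h⟩ := d.dec q hq
  have hec : Commute x e := (hcomm e he x hx).symm
  have hxn : Commute x d.n₀ := d.n₀_comm (d.E_le (hC hx))
  have hxf : Commute x d.f := d.f_comm (d.E_le (hC hx))
  rcases h with rfl | rfl | rfl | rfl
  · exact hec.eq
  · exact (hxn.mul_right hec).eq
  · exact (hxf.mul_right hec).eq
  · exact ((hxf.mul_right hxn).mul_right hec).eq

section Abelian

variable (hab : ∀ x ∈ d.E, ∀ y ∈ d.E, x * y = y * x)
include hab

theorem E_comm_Q {e q : G} (he : e ∈ d.E) (hq : q ∈ c.Q) : e * q = q * e := by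
  obtain ⟨e', he', h⟩ := d.dec q hq
  have hee : Commute e e' := hab e he e' he'
  have hen : Commute e d.n₀ := d.n₀_comm (d.E_le he)
  have hef : Commute e d.f := d.f_comm (d.E_le he)
  rcases h with rfl | rfl | rfl | rfl
  · exact hee.eq
  · exact (hen.mul_right hee).eq
  · exact (hef.mul_right hee).eq
  · exact ((hef.mul_right hen).mul_right hee).eq

theorem Q_comm {p q : G} (hp : p ∈ c.Q) (hq : q ∈ c.Q) : p * q = q * p := by
  obtain ⟨e, he, h⟩ := d.dec p hp
  have hec : Commute e q := d.E_comm_Q hab he hq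
  have hnc : Commute d.n₀ q := (d.n₀_comm hq).symm
  have hfc : Commute d.f q := (d.f_comm hq).symm
  rcases h with rfl | rfl | rfl | rfl
  · exact hec.eq
  · exact (hnc.mul_left hec).eq
  · exact (hfc.mul_left hec).eq
  · exact ((hfc.mul_left hnc).mul_left hec).eq

theorem M_central {x t : G} (hx : x ∈ c.Q) (hxu : x ∈ cj d.u c.Q) (ht : t ∈ c.T) : x * t = t * x := by
  rcases d.T_dec ht with h | h
  · exact d.Q_comm hab hx h
  · have e : t = t * d.a * d.a := by rw [mul_assoc, d.a_sq, mul_one]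
    rw [e]
    exact ((show Commute x (t * d.a) from d.Q_comm hab hx h).mul_right (d.a_cent x hx hxu)).eq

theorem mem_M_of_central {x : G} (hT : ∀ t ∈ c.T, t * x = x * t) : x ∈ c.Q ∧ x ∈ cj d.u c.Q := by
  have hxQ : x ∈ c.Q := c.loc.cent (mem_centralizer_iff.2 fun q hq => hT q (c.Q_le_T hq))
  exact ⟨hxQ, d.cent_a x hxQ (hT d.a d.a_mem).symm⟩

/-- An element of `S` commuting with an element of `Q \ M` lies in `Q`. -/
theorem cent_S {f' s : G} (hf : f' ∈ c.Q) (hfu : f' ∉ cj d.u c.Q) (hs : s ∈ (D.S : Subgroup G))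
    (hcomm : s * f' = f' * s) : s ∈ c.Q := by
  haveI := Fact.mk Nat.prime_two
  set C := (D.S : Subgroup G) ⊓ centralizer ({f'} : Set G) with hC
  have hQC : c.Q ≤ C := fun q hq =>
    ⟨c.Q_le_S hq, mem_centralizer_singleton_iff.2 (d.Q_comm hab hq hf)⟩
  by_contra hsQ
  have hlt : c.Q < C := lt_of_le_of_ne hQC fun e => hsQ (e ▸ ⟨hs, mem_centralizer_singleton_iff.2 hcomm⟩)
  obtain ⟨x, ⟨hxC, hxN⟩, hxQ⟩ := SetLike.exists_of_lt
    (SubnormalizerCount.lt_inf_normalizer (D.S.2.to_le inf_le_left) hlt)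
  have hxT : x ∈ c.T := c.mem_T_of_norm_Q hxC.1 hxN
  have hxa : x * d.a ∈ c.Q := (d.T_dec hxT).resolve_left hxQ
  have h1 : Commute f' (x * d.a) := d.Q_comm hab hf hxa
  have h2 : Commute f' x := (mem_centralizer_singleton_iff.1 hxC.2).symm
  have h3 : Commute f' d.a := by
    have e : d.a = x⁻¹ * (x * d.a) := by group
    rw [e]
    exact h2.inv_right.mul_right h1
  exact hfu (d.cent_a f' hf h3.eq)

/-- An element of `S` commuting with an element of `Qᵘ \ M` lies in `Qᵘ`. -/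
theorem cent_S' {f' s : G} (hf : f' ∈ cj d.u c.Q) (hfQ : f' ∉ c.Q) (hs : s ∈ (D.S : Subgroup G))
    (hcomm : s * f' = f' * s) : s ∈ cj d.u c.Q := by
  refine mem_cj.2 (d.cent_S hab (mem_cj.1 hf) (fun h => hfQ ?_) ?_ ?_)
  · have := conj_mem_cj (g := d.u) h
    rw [show d.u * (d.u⁻¹ * f' * d.u) * d.u⁻¹ = f' by group,
      c.cj_u_Qu d.u_mem d.u_norm d.u_not d.u_sq] at this
    exact this
  · exact mul_mem (mul_mem (inv_mem d.u_mem) hs) d.u_mem
  · calc d.u⁻¹ * s * d.u * (d.u⁻¹ * f' * d.u) = d.u⁻¹ * (s * f') * d.u := by group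
      _ = d.u⁻¹ * (f' * s) * d.u := by rw [hcomm]
      _ = d.u⁻¹ * f' * d.u * (d.u⁻¹ * s * d.u) := by group

theorem sq_M {x : G} (hx : x ∈ c.Q) (hxu : x ∈ cj d.u c.Q) : ∃ e ∈ d.E, x * x = e * e := by
  obtain ⟨e, he, h⟩ := d.M_dec hx hxu
  refine ⟨e, he, ?_⟩
  rcases h with rfl | rfl
  · rfl
  · calc d.n₀ * e * (d.n₀ * e) = d.n₀ * (e * d.n₀) * e := by group
      _ = (d.n₀ * d.n₀) * (e * e) := by rw [d.n₀_comm (d.E_le he)]; group
      _ = e * e := by rw [d.n₀_sq, one_mul]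

end Abelian

theorem z_M : D.z ∈ c.Q ∧ D.z ∈ cj d.u c.Q := by
  refine ⟨c.z_mem_Q, mem_cj.2 ?_⟩
  rw [show d.u⁻¹ * D.z * d.u = D.z by rw [mul_assoc, ← D.z_comm _ d.u_mem]; group]
  exact c.z_mem_Q

end Dec

end Cfsg.Agent.LengthEight
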