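import Cfsg.Agent.Lib.LengthEight.Gen

/-!
# The centralizer of the square of a generator of a cyclic `E` of order four (helper98)

`Four d` : a generator `e` of `E`, `|E| = 4`; `w = e²`. The centralizer `U` of `w` in `S` has order 64 and, for
`g = v f v⁻¹` with `v ∈ S \ U`, is `⟨f, g⟩ E` with `e` normalizing `⟨f, g⟩`.
-/

set_option autoImplicit false
set_option linter.style.haveILetI false
set_option linter.unusedSectionVars false

namespace Cfsg.Agent.LengthEight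

open Subgroup

variable {G : Type*} [Group G] [Finite G]

/-- A generator of `E` when `E` is cyclic of order four. -/
structure Four {D : Setting G} {c : Cfg D} (d : Dec c) where
  e : G
  he : e ∈ d.E
  h4 : Nat.card d.E = 4
  hne : e * e ≠ 1

namespace Four

variable [IsSimpleGroup G] {D : Setting G} {c : Cfg D} {d : Dec c} (k : Four d)

/-- The involution of `E`. -/
def w : G := k.e * k.e

/-- The centralizer of `w` in `S`. -/
def U : Subgroup G := (D.S : Subgroup G) ⊓ centralizer ({k.w} : Set G)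

include k

theorem orderOf_e : orderOf k.e = 4 := by
  haveI := Fact.mk Nat.prime_two
  have h : k.e ^ 4 = 1 :=
    orderOf_dvd_iff_pow_eq_one.1 (k.h4 ▸ Subgroup.orderOf_dvd_natCard d.E k.he)
  exact orderOf_eq_prime_pow (p := 2) (n := 1) (by rw [pow_one, pow_two]; exact k.hne) h

theorem w_sq : k.w * k.w = 1 := by
  have h := pow_orderOf_eq_one k.e
  rw [k.orderOf_e] at h
  calc k.w * k.w = k.e ^ 4 := by simp only [w, pow_succ, pow_zero, one_mul, mul_assoc]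
    _ = 1 := h

theorem w_ne : k.w ≠ 1 := k.hne

theorem w_mem : k.w ∈ d.E := mul_mem k.he k.he

theorem E_eq : d.E = zpowers k.e :=
  (eq_of_le_of_card_ge (zpowers_le.2 k.he) (by rw [Nat.card_zpowers, k.orderOf_e, k.h4])).symm

theorem E_cases {ε : G} (h : ε ∈ d.E) : ε = 1 ∨ ε = k.e ∨ ε = k.w ∨ ε = k.w * k.e := by
  classical
  rw [k.E_eq, mem_zpowers_iff_mem_range_orderOf, k.orderOf_e, Finset.mem_image] at h
  obtain ⟨j, hj, rfl⟩ := h
  rw [Finset.mem_range] at hj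
  interval_cases j <;> simp [w, pow_succ]

theorem sq_E {ε : G} (h : ε ∈ d.E) :
    (ε * ε = 1 ∧ (ε = 1 ∨ ε = k.w)) ∨ (ε * ε = k.w ∧ (ε = k.e ∨ ε = k.w * k.e)) := by
  have hwe : k.e * k.w = k.w * k.e := d.E_comm _ k.he _ k.w_mem
  rcases k.E_cases h with rfl | rfl | rfl | rfl
  · exact Or.inl ⟨one_mul 1, Or.inl rfl⟩
  · exact Or.inr ⟨rfl, Or.inl rfl⟩
  · exact Or.inl ⟨k.w_sq, Or.inr rfl⟩
  · refine Or.inr ⟨?_, Or.inr rfl⟩
    calc k.w * k.e * (k.w * k.e) = k.w * (k.e * k.w) * k.e := by group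
      _ = (k.w * k.w) * (k.e * k.e) := by rw [hwe]; group
      _ = k.w := by rw [k.w_sq, one_mul]; rfl

theorem card_T : Nat.card c.T = 32 := by rw [d.card_T_eq, k.h4]
theorem card_Q : Nat.card c.Q = 16 := by rw [d.card_Q, k.h4]
theorem card_M : Nat.card ↥(c.Q ⊓ cj d.u c.Q) = 8 := by rw [d.card_M_eq, k.h4]

theorem w_Q : k.w ∈ c.Q := d.E_le k.w_mem

theorem z_ne_w : D.z ≠ k.w := fun e => d.not_conj_z k.w_mem 1 (by rw [e]; group)

theorem u_w : d.u * k.w = k.w * d.u := by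
  set i := d.u * k.e * d.u⁻¹
  have hi : i ∈ c.Q ⊓ cj d.u c.Q :=
    (mem_normalizer_iff.1 (c.u_norm_M d.u_mem d.u_norm d.u_not d.u_sq) k.e).1 (d.E_le_M k.he)
  obtain ⟨ε, hε, h⟩ := d.sq_M d.E_comm hi.1 hi.2
  have e1 : d.u * k.w * d.u⁻¹ = i * i := by simp only [i, w]; group
  rcases k.sq_E hε with ⟨h', -⟩ | ⟨h', -⟩
  · exact absurd (conj_eq_one_iff.1 (e1.trans (h.trans h'))) k.w_ne
  · exact mul_inv_eq_iff_eq_mul.1 (e1.trans (h.trans h'))

theorem U_le : k.U ≤ D.S := inf_le_left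

theorem w_comm {x : G} (hx : x ∈ k.U) : x * k.w = k.w * x := mem_centralizer_singleton_iff.1 hx.2

theorem T_le_U : c.T ≤ k.U := fun _ ht =>
  ⟨c.T_le_S ht, mem_centralizer_singleton_iff.2 (d.M_central d.E_comm k.w_Q (d.E_Qu k.w_mem) ht).symm⟩

theorem u_mem_U : d.u ∈ k.U := ⟨d.u_mem, mem_centralizer_singleton_iff.2 k.u_w⟩

theorem w_mem_U : k.w ∈ k.U := k.T_le_U (c.Q_le_T k.w_Q)

theorem card_U : Nat.card k.U = 64 := by
  obtain ⟨b, -, hb⟩ := D.card_le_of_two (D.S.2.to_le k.U_le)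
  have h1 : Nat.card c.T < Nat.card k.U := (Set.toFinite _).card_lt_card
    (show c.T < k.U from lt_of_le_of_ne k.T_le_U fun e => d.u_not (e ▸ k.u_mem_U))
  have hne : k.U ≠ (D.S : Subgroup G) := by
    intro e
    have hS : (D.S : Subgroup G) ≤ centralizer ({k.w} : Set G) := e.ge.trans inf_le_right
    have hne : centralizer ({k.w} : Set G) ≠ ⊤ := by
      intro h
      have hwz : k.w ∈ center G :=
        mem_center_iff.2 fun g => mem_centralizer_singleton_iff.1 (h ▸ mem_top g)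
      rw [SmallOrders.center_eq_bot D.na, mem_bot] at hwz
      exact k.w_ne hwz
    refine c.loc.notTwo (D.S.2.to_le ?_)
    rw [← D.eq_S hS hne]
    exact fun x hx => mem_centralizer_singleton_iff.2 (d.H_comm_E k.w_mem hx)
  have h2 : Nat.card k.U < 2 ^ 7 := by
    rw [← D.card_S]
    exact (Set.toFinite _).card_lt_card (show k.U < D.S from lt_of_le_of_ne k.U_le hne)
  rw [k.card_T, hb] at h1
  rw [hb] at h2 ⊢
  have h5 : 5 < b := (Nat.pow_lt_pow_iff_right (a := 2) (by norm_num)).1 (by omega)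
  have h7 : b < 7 := (Nat.pow_lt_pow_iff_right (a := 2) (by norm_num)).1 h2
  obtain rfl : b = 6 := by omega
  norm_num

theorem U_norm : (D.S : Subgroup G) ≤ normalizer (k.U : Set G) := S_le_normalizer_half k.U_le k.card_U

theorem hzc {x : G} (hx : x ∈ k.U) : x * D.z = D.z * x := D.z_comm x (k.U_le hx)

theorem third {i : G} (hi : i ∈ c.Q) (hiu : i ∈ cj d.u c.Q) (hi2 : i * i = 1) (hi1 : i ≠ 1)
    (hiz : i ≠ D.z) : i = k.w ∨ i = k.w * D.z := by
  have key : ∀ i ∈ c.Q, i ∈ cj d.u c.Q → i * i = 1 → i ≠ 1 → i = d.n₀ ∨ i = k.w ∨ i = d.n₀ * k.w := by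
    intro i hi hiu hi2 hi1
    obtain ⟨ε, hε, h | h⟩ := d.M_dec hi hiu
    · rcases k.sq_E hε with ⟨-, rfl | rfl⟩ | ⟨h', -⟩
      · exact absurd h hi1
      · exact Or.inr (Or.inl h)
      · exact absurd (h'.symm.trans (by rw [← h, hi2])) k.w_ne
    · have e1 : ε * ε = 1 := by
        rw [h, show d.n₀ * ε * (d.n₀ * ε) = d.n₀ * (ε * d.n₀) * ε by group, d.n₀_comm (d.E_le hε),
          show d.n₀ * (d.n₀ * ε) * ε = (d.n₀ * d.n₀) * (ε * ε) by group, d.n₀_sq, one_mul] at hi2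
        exact hi2
      rcases k.sq_E hε with ⟨-, rfl | rfl⟩ | ⟨h', -⟩
      · exact Or.inl (h.trans (mul_one _))
      · exact Or.inr (Or.inr h)
      · exact absurd (h'.symm.trans e1) k.w_ne
  have hnw : d.n₀ * k.w = k.w * d.n₀ := (d.n₀_comm k.w_Q).symm
  rcases key i hi hiu hi2 hi1 with h | h | h <;>
    rcases key D.z d.z_M.1 d.z_M.2 D.z_mul_self D.z_ne_one with hz | hz | hz
  all_goals first
    | exact absurd hz k.z_ne_w
    | exact absurd (h.trans hz.symm) hiz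
    | exact Or.inl h
    | (right; rw [h, hz, hnw]; done)
    | (right; rw [h, hz, hnw, ← mul_assoc, k.w_sq, one_mul])

theorem move {v : G} (hv : v ∈ (D.S : Subgroup G)) (hvU : v ∉ k.U) : v * k.w * v⁻¹ = k.w * D.z := by
  set i := v * k.w * v⁻¹
  have hc : ∀ x ∈ k.U, x * i = i * x := by
    intro x hx
    have hx' : v⁻¹ * x * v ∈ k.U := by
      have := (mem_normalizer_iff.1 (k.U_norm (inv_mem hv)) x).1 hx
      simpa using this
    have h := k.w_comm hx'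
    calc x * i = v * (v⁻¹ * x * v * k.w) * v⁻¹ := by simp only [i]; group
      _ = v * (k.w * (v⁻¹ * x * v)) * v⁻¹ := by rw [h]
      _ = i * x := by simp only [i]; group
  obtain ⟨hQ, hQu⟩ := d.central_mem k.T_le_U hc
  have hi2 : i * i = 1 := by
    calc i * i = v * (k.w * k.w) * v⁻¹ := by simp only [i]; group
      _ = 1 := by rw [k.w_sq]; group
  refine ((k.third hQ hQu hi2 (fun e => k.w_ne (conj_eq_one_iff.1 e)) (d.not_conj_z k.w_mem v)).resolve_left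
    fun e => hvU ⟨hv, mem_centralizer_singleton_iff.2 (mul_inv_eq_iff_eq_mul.1 e)⟩)

theorem hcen {i : G} (hiU : i ∈ k.U) (hi2 : i * i = 1) (hi1 : i ≠ 1) (hiz : i ≠ D.z)
    (hc : ∀ u ∈ k.U, u * i = i * u) :
    (∀ g : G, g * i * g⁻¹ ≠ D.z) ∧ ∀ v ∈ (D.S : Subgroup G), v ∉ k.U → v * i ≠ i * v := by
  obtain ⟨hQ, hQu⟩ := d.central_mem k.T_le_U hc
  obtain ⟨v, hvS, hvU⟩ := SetLike.exists_of_lt (lt_of_le_of_ne k.U_le fun e => by
    have := k.card_U
    rw [e, D.card_S] at this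
    omega)
  rcases k.third hQ hQu hi2 hi1 hiz with rfl | rfl
  · exact ⟨d.not_conj_z k.w_mem, fun v hv hvU h => hvU ⟨hv, mem_centralizer_singleton_iff.2 h⟩⟩
  · refine ⟨fun g h => d.not_conj_z k.w_mem (g * v) ?_,
      fun b hb hbU h => hbU ⟨hb, mem_centralizer_singleton_iff.2 ?_⟩⟩
    · rw [← h, ← k.move hvS hvU]; group
    · have hzb := D.z_comm b hb
      calc b * k.w = b * (k.w * D.z) * D.z := by
            rw [mul_assoc b, mul_assoc k.w, D.z_mul_self, mul_one]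
        _ = k.w * D.z * b * D.z := by rw [h]
        _ = k.w * D.z * (b * D.z) := by group
        _ = k.w * (D.z * D.z) * b := by rw [hzb]; group
        _ = k.w * b := by rw [D.z_mul_self, mul_one]

/-- Two elements of `T` outside `Q ∪ Qᵘ` multiply into `M`. -/
theorem pair_M {p q : G} (hp : p ∈ c.T) (hq : q ∈ c.T) (hp1 : p ∉ c.Q) (hp2 : p ∉ cj d.u c.Q)
    (hq1 : q ∉ c.Q) (hq2 : q ∉ cj d.u c.Q) : p * q ∈ c.Q ∧ p * q ∈ cj d.u c.Q :=
  ⟨mul_mem_of_half c.Q_le_T (by rw [k.card_T, k.card_Q]) hp hq hp1 hq1,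
    mul_mem_of_half (c.Qu_le_T d.u_mem d.u_norm d.u_not d.u_sq) (by rw [k.card_T, card_cj, k.card_Q])
      hp hq hp2 hq2⟩

theorem mul_u {x : G} (hx : x ∈ k.U) (hxT : x ∉ c.T) : x * d.u ∈ c.T :=
  mul_mem_of_half k.T_le_U (by rw [k.card_U, k.card_T]) hx k.u_mem_U hxT d.u_not

theorem cj_outside {x : G} (hx : x ∈ k.U) (hxT : x ∉ c.T) :
    cj x c.Q = cj d.u c.Q ∧ x ∈ normalizer ((c.Q ⊓ cj d.u c.Q : Subgroup G) : Set G) := by
  have ht := k.mul_u hx hxT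
  refine ⟨?_, ?_⟩
  · have h1 : cj d.u⁻¹ c.Q = cj d.u c.Q := by
      conv_lhs => rw [← c.cj_u_Qu d.u_mem d.u_norm d.u_not d.u_sq]
      rw [cj_cj, inv_mul_cancel, cj_eq_iff_mem_normalizer]
      exact one_mem _
    calc cj x c.Q = cj (x * d.u) (cj d.u⁻¹ c.Q) := by rw [cj_cj, mul_inv_cancel_right]
      _ = cj d.u c.Q := by
        rw [h1, cj_eq_iff_mem_normalizer]; exact c.T_norm_Qu d.u_mem d.u_norm d.u_not d.u_sq ht
  · have := mul_mem (c.T_norm_M d.u_mem d.u_norm d.u_not d.u_sq ht)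
      (inv_mem (c.u_norm_M d.u_mem d.u_norm d.u_not d.u_sq))
    rwa [mul_inv_cancel_right] at this

theorem conj_f_outside {x : G} (hx : x ∈ k.U) (hxT : x ∉ c.T) :
    x * d.f * x⁻¹ ∈ cj d.u c.Q ∧ x * d.f * x⁻¹ ∉ c.Q := by
  obtain ⟨h1, h2⟩ := k.cj_outside hx hxT
  have h : x * d.f * x⁻¹ ∈ cj d.u c.Q := h1 ▸ conj_mem_cj d.f_Q
  exact ⟨h, fun hQ => d.f_not_Qu ((mem_normalizer_iff.1 h2 d.f).2 ⟨hQ, h⟩).2⟩

/-- An element of `U` with central square and a centralizer of index at most two in `U`. -/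
theorem lemma_X {x : G} (hx : x ∈ k.U) (hsq : ∀ y ∈ k.U, y * (x * x) = x * x * y)
    (h32 : 32 ≤ Nat.card ↥(k.U ⊓ centralizer ({x} : Set G))) :
    x ∈ c.T ∧ ((x ∈ c.Q ∧ x ∈ cj d.u c.Q) ∨ (x ∉ c.Q ∧ x ∉ cj d.u c.Q)) := by
  have hab := d.E_comm
  set C := k.U ⊓ centralizer ({x} : Set G)
  have hcC : ∀ y ∈ C, x * y = y * x := fun y hy => (mem_centralizer_singleton_iff.1 hy.2).symm
  have hQ' : ∀ y ∈ C, y ∈ c.Q → y ∉ cj d.u c.Q → x ∈ c.Q := fun y hy h1 h2 =>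
    d.cent_S hab h1 h2 (k.U_le hx) (hcC y hy)
  have hQu' : ∀ y ∈ C, y ∈ cj d.u c.Q → y ∉ c.Q → x ∈ cj d.u c.Q := fun y hy h1 h2 =>
    d.cent_S' hab h1 h2 (k.U_le hx) (hcC y hy)
  have hQuT := c.Qu_le_T d.u_mem d.u_norm d.u_not d.u_sq
  by_cases hQ : x ∈ c.Q
  · refine ⟨c.Q_le_T hQ, Or.inl ⟨hQ, ?_⟩⟩
    by_contra hu
    have := card_le_of_le (show C ≤ c.Q from fun y hy =>
      d.cent_S hab hQ hu (k.U_le hy.1) (hcC y hy).symm)
    rw [k.card_Q] at this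
    omega
  by_cases hu : x ∈ cj d.u c.Q
  · exfalso
    have := card_le_of_le (show C ≤ cj d.u c.Q from fun y hy =>
      d.cent_S' hab hu hQ (k.U_le hy.1) (hcC y hy).symm)
    rw [card_cj, k.card_Q] at this
    omega
  refine ⟨?_, Or.inr ⟨hQ, hu⟩⟩
  by_contra hxT
  have hUT : k.U ≤ normalizer (c.T : Set G) := fun y hy => by
    by_cases h : y ∈ c.T
    · exact le_normalizer h
    · have := mul_mem (le_normalizer (k.mul_u hy h)) (inv_mem d.u_norm)
      rwa [mul_inv_cancel_right] at this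
  have h1 := PLocal.card_sup_mul_card_inf (H := c.T) (K := C) (inf_le_left.trans hUT)
  have h1' : Nat.card ↥(c.T ⊔ C) ≤ 64 := k.card_U ▸ card_le_of_le (sup_le k.T_le_U inf_le_left)
  rw [k.card_T] at h1
  have hC16 : 16 ≤ Nat.card ↥(c.T ⊓ C) := by nlinarith
  have h2 := PLocal.card_sup_mul_card_inf (H := c.Q) (K := c.T ⊓ C) (inf_le_left.trans c.T_le_norm_Q)
  have h2' : Nat.card ↥(c.Q ⊔ (c.T ⊓ C)) ≤ 32 := k.card_T ▸ card_le_of_le (sup_le c.Q_le_T inf_le_left)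
  rw [k.card_Q] at h2
  have hC8 : 8 ≤ Nat.card ↥(c.Q ⊓ (c.T ⊓ C)) := by nlinarith
  have hle : c.Q ⊓ (c.T ⊓ C) ≤ c.Q ⊓ cj d.u c.Q := fun y hy =>
    ⟨hy.1, by_contra fun h => hQ (hQ' y hy.2.2 hy.1 h)⟩
  have hMC : c.Q ⊓ cj d.u c.Q ≤ C :=
    (eq_of_le_of_card_ge hle (k.card_M.trans_le hC8)).ge.trans (inf_le_right.trans inf_le_right)
  obtain ⟨p, hp, hpM⟩ := SetLike.not_le_iff_exists.1 (show ¬ c.T ⊓ C ≤ c.Q ⊓ cj d.u c.Q from fun h => by
    have := card_le_of_le h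
    rw [k.card_M] at this
    omega)
  have hp1 : p ∉ c.Q := fun h => hQ (hQ' p hp.2 h fun h' => hpM ⟨h, h'⟩)
  have hp2 : p ∉ cj d.u c.Q := fun h => hu (hQu' p hp.2 h hp1)
  obtain ⟨hg, hgQ⟩ := k.conj_f_outside hx hxT
  set g := x * d.f * x⁻¹ with hg'
  set r := d.f * g
  have hrT : r ∈ c.T := mul_mem (c.Q_le_T d.f_Q) (hQuT hg)
  have hr1 : r ∉ c.Q := fun h => hgQ ((c.Q.mul_mem_cancel_left d.f_Q).1 h)
  have hr2 : r ∉ cj d.u c.Q := fun h => d.f_not_Qu (((cj d.u c.Q).mul_mem_cancel_right hg).1 h)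
  have hrC : r ∈ C := by
    have h := hMC (k.pair_M hp.1 hrT hp1 hp2 hr1 hr2)
    exact (C.mul_mem_cancel_left hp.2).1 h
  refine hgQ (d.cent_S hab d.f_Q d.f_not_Qu (c.T_le_S (hQuT hg)) ?_)
  have hxr := hcC r hrC
  have hf2 := hsq d.f (k.T_le_U (c.Q_le_T d.f_Q))
  calc g * d.f = g * (d.f * (x * x) * (x * x)⁻¹) := by group
    _ = g * (x * x * d.f * (x * x)⁻¹) := by rw [hf2]
    _ = x * r * x⁻¹ := by simp only [r, hg']; group
    _ = d.f * g := by rw [hxr, mul_inv_cancel_right]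

section Conj

variable {v : G} (hv : v ∈ (D.S : Subgroup G)) (hvU : v ∉ k.U)
include hv hvU

theorem g_mem : v * d.f * v⁻¹ ∈ k.U := d.g_mem_U k.T_le_U k.U_norm hv

theorem mem_cj_of_commute {y : G} (hy : y ∈ (D.S : Subgroup G))
    (h : y * (v * d.f * v⁻¹) = v * d.f * v⁻¹ * y) : y ∈ cj v c.Q := by
  refine mem_cj.2 (d.cent_S d.E_comm d.f_Q d.f_not_Qu (mul_mem (mul_mem (inv_mem hv) hy) hv) ?_)
  calc v⁻¹ * y * v * d.f = v⁻¹ * (y * (v * d.f * v⁻¹)) * v := by group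
    _ = v⁻¹ * (v * d.f * v⁻¹ * y) * v := by rw [h]
    _ = d.f * (v⁻¹ * y * v) := by group

theorem g_not_T : v * d.f * v⁻¹ ∉ c.T := by
  intro hgT
  have hab := d.E_comm
  set g := v * d.f * v⁻¹ with hg
  have hg2 : g * g = 1 := by
    calc g * g = v * (d.f * d.f) * v⁻¹ := by simp only [hg]; group
      _ = 1 := by rw [d.f_sq]; group
  have hcent : ∀ y ∈ cj v c.Q, y * g = g * y := fun y hy => by
    have h := d.Q_comm hab (mem_cj.1 hy) d.f_Q
    calc y * g = v * (v⁻¹ * y * v * d.f) * v⁻¹ := by simp only [hg]; group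
      _ = v * (d.f * (v⁻¹ * y * v)) * v⁻¹ := by rw [h]
      _ = g * y := by simp only [hg]; group
  have hle : cj v c.Q ≤ D.S := fun y hy => by
    have := mul_mem (mul_mem hv (c.Q_le_S (mem_cj.1 hy))) (inv_mem hv)
    simpa [mul_assoc] using this
  by_cases h1 : g ∈ c.Q
  · by_cases h2 : g ∈ cj d.u c.Q
    · have := card_le_of_le (show c.T ≤ cj v c.Q from fun t ht =>
        k.mem_cj_of_commute hv hvU (c.T_le_S ht) (d.M_central hab h1 h2 ht).symm)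
      rw [k.card_T, card_cj, k.card_Q] at this
      omega
    · refine hvU (k.T_le_U (c.mem_T_of_norm_Q hv (cj_eq_iff_mem_normalizer.1 ?_)))
      exact eq_of_le_of_card_ge (fun y hy => d.cent_S hab h1 h2 (hle hy) (hcent y hy)) (card_cj v c.Q).ge
  · have h2 := d.invol_T hgT h1 hg2
    have e : cj v c.Q = cj d.u c.Q := eq_of_le_of_card_ge
      (fun y hy => d.cent_S' hab h2 h1 (hle hy) (hcent y hy)) (by rw [card_cj, card_cj])
    have ht : d.u⁻¹ * v ∈ c.T := by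
      refine c.mem_T_of_norm_Q (mul_mem (inv_mem d.u_mem) hv) (cj_eq_iff_mem_normalizer.1 ?_)
      rw [← cj_cj, e, cj_cj, inv_mul_cancel, cj_eq_iff_mem_normalizer]
      exact one_mem _
    have := mul_mem k.u_mem_U (k.T_le_U ht)
    rw [mul_inv_cancel_left] at this
    exact hvU this

theorem g_inv : (v * d.f * v⁻¹)⁻¹ = v * d.f * v⁻¹ := by
  rw [mul_inv_rev, mul_inv_rev, inv_inv, inv_eq_of_mul_eq_one_right d.f_sq, ← mul_assoc]

/-- The square of the rotation. -/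
theorem rho_sq : d.f * (v * d.f * v⁻¹) * (d.f * (v * d.f * v⁻¹)) ∈ c.T ∧
    d.f * (v * d.f * v⁻¹) * (d.f * (v * d.f * v⁻¹)) ∉ c.Q ∧
    d.f * (v * d.f * v⁻¹) * (d.f * (v * d.f * v⁻¹)) ∉ cj d.u c.Q ∧
    d.f * (v * d.f * v⁻¹) * (d.f * (v * d.f * v⁻¹)) * (d.f * (v * d.f * v⁻¹) * (d.f * (v * d.f * v⁻¹)))
      = d.n₀ := by
  set g := v * d.f * v⁻¹ with hg
  obtain ⟨h1, h2⟩ := k.conj_f_outside (k.g_mem hv hvU) (k.g_not_T hv hvU)
  rw [← hg] at h1 h2
  set h := g * d.f * g⁻¹ with hh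
  have hr : d.f * g * (d.f * g) = d.f * h := by
    rw [hh, show g⁻¹ = g from k.g_inv hv hvU]; group
  rw [hr]
  have hQuT := c.Qu_le_T d.u_mem d.u_norm d.u_not d.u_sq
  refine ⟨mul_mem (c.Q_le_T d.f_Q) (hQuT h1), fun h' => h2 ((c.Q.mul_mem_cancel_left d.f_Q).1 h'),
    fun h' => d.f_not_Qu (((cj d.u c.Q).mul_mem_cancel_right h1).1 h'), ?_⟩
  set m := h * d.a
  have hmQ : m ∈ c.Q := (d.T_dec (hQuT h1)).resolve_left h2
  have hmu : m ∈ cj d.u c.Q := mul_mem h1 d.a_Qu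
  have hma : m * d.a = d.a * m := d.a_cent m hmQ hmu
  have hmf : m * d.f = d.f * m := d.f_comm hmQ
  have hh2 : h * h = 1 := by
    calc h * h = g * (d.f * d.f) * g⁻¹ := by simp only [hh]; group
      _ = 1 := by rw [d.f_sq]; group
  have he : h = m * d.a := by simp only [m]; rw [mul_assoc, d.a_sq, mul_one]
  rw [he] at hh2 ⊢
  have hm2 : m * m = 1 := by
    calc m * m = m * m * (d.a * d.a) := by rw [d.a_sq, mul_one]
      _ = m * (m * d.a) * d.a := by group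
      _ = m * (d.a * m) * d.a := by rw [hma]
      _ = m * d.a * (m * d.a) := by group
      _ = 1 := hh2
  calc d.f * (m * d.a) * (d.f * (m * d.a)) = d.f * m * (d.a * d.f) * m * d.a := by group
    _ = d.f * m * (d.f * d.n₀ * d.a) * m * d.a := by rw [d.a_f]
    _ = d.f * (m * d.f) * d.n₀ * (d.a * m) * d.a := by group
    _ = d.f * (d.f * m) * d.n₀ * (m * d.a) * d.a := by rw [hmf, hma]
    _ = (d.f * d.f) * (m * d.n₀) * m * (d.a * d.a) := by group
    _ = d.n₀ * (m * m) := by rw [d.f_sq, d.a_sq, d.n₀_comm hmQ]; group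
    _ = d.n₀ := by rw [hm2, mul_one]

theorem n₀_rho : d.n₀ ∈ zpowers (d.f * (v * d.f * v⁻¹)) := by
  rw [← (k.rho_sq hv hvU).2.2.2]
  exact mul_mem (mul_mem (mem_zpowers _) (mem_zpowers _)) (mul_mem (mem_zpowers _) (mem_zpowers _))

theorem g_n₀ : v * d.f * v⁻¹ * d.n₀ = d.n₀ * (v * d.f * v⁻¹) := by
  have hgi := k.g_inv hv hvU
  set g := v * d.f * v⁻¹
  obtain ⟨j, hj⟩ := mem_zpowers_iff.1 (k.n₀_rho hv hvU)
  have h : g * (d.f * g) * g⁻¹ = (d.f * g)⁻¹ := by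
    calc g * (d.f * g) * g⁻¹ = g * d.f := by group
      _ = g⁻¹ * d.f⁻¹ := by rw [hgi, inv_eq_of_mul_eq_one_right d.f_sq]
      _ = (d.f * g)⁻¹ := by group
  have h2 : g * d.n₀ * g⁻¹ = d.n₀ := by
    rw [← hj, ← conj_zpow, h, inv_zpow, hj, inv_eq_of_mul_eq_one_right d.n₀_sq]
  exact mul_inv_eq_iff_eq_mul.1 h2

/-- `e` moves `g` to `n₀ g`. -/
theorem e_g : k.e * (v * d.f * v⁻¹) * k.e⁻¹ = d.n₀ * (v * d.f * v⁻¹) := by
  obtain ⟨hrT, hr1, hr2, hr4⟩ := k.rho_sq hv hvU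
  have hgi := k.g_inv hv hvU
  have hgn := k.g_n₀ hv hvU
  have hgU := k.g_mem hv hvU
  set g := v * d.f * v⁻¹ with hg
  set r := d.f * g * (d.f * g)
  set e' := v * k.e * v⁻¹ with he'
  have heU : k.e ∈ k.U := k.T_le_U (c.Q_le_T (d.E_le k.he))
  have he'U : e' ∈ k.U := (mem_normalizer_iff.1 (k.U_norm hv) k.e).1 heU
  have he'2 : e' * e' = k.w * D.z := by
    rw [← k.move hv hvU]; simp only [he', w]; group
  have hsq : ∀ y ∈ k.U, y * (e' * e') = e' * e' * y := fun y hy => by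
    rw [he'2]
    exact ((show Commute y k.w from k.w_comm hy).mul_right (k.hzc hy)).eq
  have h32 : 32 ≤ Nat.card ↥(k.U ⊓ centralizer ({e'} : Set G)) := by
    rw [← k.card_T, ← card_cj v c.T]
    refine card_le_of_le fun y hy => ⟨?_, mem_centralizer_singleton_iff.2 ?_⟩
    · have := (cj_le_cj (g := v) k.T_le_U) hy
      rwa [cj_eq_iff_mem_normalizer.2 (k.U_norm hv)] at this
    · have h := d.M_central d.E_comm (d.E_le k.he) (d.E_Qu k.he) (mem_cj.1 hy)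
      calc y * e' = v * (v⁻¹ * y * v * k.e) * v⁻¹ := by simp only [he']; group
        _ = v * (k.e * (v⁻¹ * y * v)) * v⁻¹ := by rw [h]
        _ = e' * y := by simp only [he']; group
  obtain ⟨heT, hor⟩ := k.lemma_X he'U hsq h32
  have hnot : ¬ (e' ∈ c.Q ∧ e' ∈ cj d.u c.Q) := fun ⟨h1, h2⟩ => by
    obtain ⟨ε, hε, h⟩ := d.sq_M d.E_comm h1 h2
    rw [he'2] at h
    rcases k.sq_E hε with ⟨h', -⟩ | ⟨h', -⟩ <;> rw [h'] at h
    · exact k.z_ne_w ((eq_inv_of_mul_eq_one_right h).trans (inv_eq_of_mul_eq_one_right k.w_sq))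
    · exact D.z_ne_one (mul_eq_left.1 h)
  obtain ⟨he1, he2⟩ := hor.resolve_left hnot
  set c₀ := r⁻¹ * e'
  obtain ⟨hc1, hc2⟩ := k.pair_M (inv_mem hrT) heT (fun h => hr1 (inv_mem_iff.1 h))
    (fun h => hr2 (inv_mem_iff.1 h)) he1 he2
  have hge : g * e' = e' * g := by
    have h := d.f_comm (d.E_le k.he)
    calc g * e' = v * (d.f * k.e) * v⁻¹ := by simp only [hg, he']; group
      _ = v * (k.e * d.f) * v⁻¹ := by rw [h]
      _ = e' * g := by simp only [hg, he']; group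
  have hgr : g * r * g⁻¹ = r⁻¹ := by
    simp only [r, mul_inv_rev, inv_eq_of_mul_eq_one_right d.f_sq, hgi]
    calc g * (d.f * g * (d.f * g)) * g = g * d.f * g * d.f * (g * g) := by group
      _ = g * d.f * (g * d.f) := by
        rw [show g * g = 1 by rw [← mul_inv_cancel g, hgi]]; group
  have hrn : r = d.n₀ * r⁻¹ := by rw [← hr4, mul_inv_cancel_right]
  have hgc : g * c₀ * g⁻¹ = d.n₀ * c₀ := by
    calc g * c₀ * g⁻¹ = (g * r * g⁻¹)⁻¹ * (g * e' * g⁻¹) := by simp only [c₀]; group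
      _ = r * e' := by rw [hgr, inv_inv, hge, mul_inv_cancel_right]
      _ = d.n₀ * r⁻¹ * e' := by rw [← hrn]
      _ = d.n₀ * c₀ := by simp only [c₀]; group
  have hgn' : g * d.n₀ * g⁻¹ = d.n₀ := by rw [hgn, mul_inv_cancel_right]
  obtain ⟨ε, hε, hc⟩ := d.M_dec hc1 hc2
  have hgε : g * ε * g⁻¹ = d.n₀ * ε := by
    rcases hc with h | h <;> (change c₀ = _ at h; rw [h] at hgc)
    · exact hgc
    · rw [show g * (d.n₀ * ε) * g⁻¹ = (g * d.n₀ * g⁻¹) * (g * ε * g⁻¹) by group, hgn'] at hgc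
      exact mul_left_cancel hgc
  have hgw : g * k.w * g⁻¹ = k.w := by rw [k.w_comm hgU, mul_inv_cancel_right]
  have hnw : d.n₀ * k.w = k.w * d.n₀ := (d.n₀_comm k.w_Q).symm
  have hge2 : g * k.e * g⁻¹ = d.n₀ * k.e := by
    rcases k.E_cases hε with rfl | rfl | rfl | rfl
    · exfalso; simp at hgε; exact d.n₀_ne hgε.symm
    · exact hgε
    · exact absurd (right_eq_mul.1 (hgw.symm.trans hgε)) d.n₀_ne
    · refine mul_left_cancel (a := k.w) ?_
      calc k.w * (g * k.e * g⁻¹) = (g * k.w * g⁻¹) * (g * k.e * g⁻¹) := by rw [hgw]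
        _ = g * (k.w * k.e) * g⁻¹ := by group
        _ = d.n₀ * (k.w * k.e) := hgε
        _ = k.w * (d.n₀ * k.e) := by rw [← mul_assoc, hnw, mul_assoc]
  have h3 : g * k.e = d.n₀ * k.e * g := mul_inv_eq_iff_eq_mul.1 hge2
  calc k.e * g * k.e⁻¹ = (d.n₀ * d.n₀) * k.e * g * k.e⁻¹ := by rw [d.n₀_sq, one_mul]
    _ = d.n₀ * (d.n₀ * k.e * g) * k.e⁻¹ := by group
    _ = d.n₀ * (g * k.e) * k.e⁻¹ := by rw [h3]
    _ = d.n₀ * g := by group

theorem n₀_D : d.n₀ ∈ closure ({d.f, v * d.f * v⁻¹} : Set G) :=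
  (zpowers_le.2 (mul_mem (subset_closure (by simp)) (subset_closure (by simp)))) (k.n₀_rho hv hvU)

theorem D_le_U : closure ({d.f, v * d.f * v⁻¹} : Set G) ≤ k.U := (closure_le _).2
  (Set.insert_subset (d.f_mem_U k.T_le_U) (Set.singleton_subset_iff.2 (k.g_mem hv hvU)))

theorem E_norm_D : d.E ≤ normalizer (closure ({d.f, v * d.f * v⁻¹} : Set G) : Set G) := by
  rw [k.E_eq, zpowers_le, ← cj_eq_iff_mem_normalizer]
  refine eq_of_le_of_card_ge ?_ (card_cj _ _).ge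
  refine map_le_iff_le_comap.2 ((closure_le _).2 (Set.insert_subset ?_ (Set.singleton_subset_iff.2 ?_)))
  · show k.e * d.f * k.e⁻¹ ∈ closure ({d.f, v * d.f * v⁻¹} : Set G)
    rw [d.f_comm (d.E_le k.he), mul_inv_cancel_right]
    exact subset_closure (by simp)
  · show k.e * (v * d.f * v⁻¹) * k.e⁻¹ ∈ closure ({d.f, v * d.f * v⁻¹} : Set G)
    rw [k.e_g hv hvU]
    exact mul_mem (k.n₀_D hv hvU) (subset_closure (by simp))

theorem gen_U : closure ({d.f, v * d.f * v⁻¹} : Set G) ⊔ d.E = k.U := by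
  set g := v * d.f * v⁻¹ with hg
  set L := closure ({d.f, g} : Set G) ⊔ d.E
  have hf : d.f ∈ L := mem_sup_left (subset_closure (by simp))
  have hgL : g ∈ L := mem_sup_left (subset_closure (by simp))
  have hn : d.n₀ ∈ L := mem_sup_left (k.n₀_D hv hvU)
  have hQL : c.Q ≤ L := fun q hq => by
    obtain ⟨ε, hε, h⟩ := d.dec q hq
    have hεL : ε ∈ L := mem_sup_right hε
    rcases h with rfl | rfl | rfl | rfl
    · exact hεL
    · exact mul_mem hn hεL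
    · exact mul_mem hf hεL
    · exact mul_mem (mul_mem hf hn) hεL
  obtain ⟨h1, h2⟩ := k.conj_f_outside (k.g_mem hv hvU) (k.g_not_T hv hvU)
  have hQuT := c.Qu_le_T d.u_mem d.u_norm d.u_not d.u_sq
  have hTL : c.T ≤ L := by
    have hlt : c.Q < c.T ⊓ L := lt_of_le_of_ne (le_inf c.Q_le_T hQL) fun e => h2 (by
      rw [e]
      exact mem_inf.2 ⟨hQuT h1, L.mul_mem (L.mul_mem hgL hf) (L.inv_mem hgL)⟩)
    exact (eq_of_lt_of_half hlt inf_le_left (by rw [k.card_T, k.card_Q])).ge.trans inf_le_right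
  have hLU : L ≤ k.U := sup_le (k.D_le_U hv hvU) ((d.E_le.trans c.Q_le_T).trans k.T_le_U)
  exact eq_of_lt_of_half (lt_of_le_of_ne hTL fun e => k.g_not_T hv hvU (e.ge hgL)) hLU
    (by rw [k.card_U, k.card_T])

theorem w_not_D : k.w ∉ closure ({d.f, v * d.f * v⁻¹} : Set G) := by
  intro h
  have hD := k.D_le_U hv hvU
  rcases involution_cases d.orderOf_f (d.orderOf_conj_f v) h k.w_sq with
    ⟨⟨j, hj⟩, -, -⟩ | ⟨b, hb, he⟩ | ⟨b, hb, he⟩
  · have := eq_of_zpow_involutions (k.n₀_rho hv hvU) (mem_zpowers_iff.2 ⟨j, hj.symm⟩) d.n₀_sq k.w_sq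
      d.n₀_ne k.w_ne
    exact d.n₀_not (this ▸ k.w_mem)
  · refine d.f_not ?_
    have e : d.f = k.w := by
      calc d.f = b⁻¹ * (b * d.f * b⁻¹) * b := by group
        _ = b⁻¹ * (k.w * b) := by rw [← he]; group
        _ = b⁻¹ * (b * k.w) := by rw [k.w_comm (hD hb)]
        _ = k.w := by group
    exact e ▸ k.w_mem
  · refine k.g_not_T hv hvU ?_
    have e : v * d.f * v⁻¹ = k.w := by
      calc v * d.f * v⁻¹ = b⁻¹ * (b * (v * d.f * v⁻¹) * b⁻¹) * b := by group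
        _ = b⁻¹ * (k.w * b) := by rw [← he]; group
        _ = b⁻¹ * (b * k.w) := by rw [k.w_comm (hD hb)]
        _ = k.w := by group
    rw [e]; exact c.Q_le_T k.w_Q

theorem U_dec {i : G} (hi : i ∈ k.U) :
    ∃ δ ∈ closure ({d.f, v * d.f * v⁻¹} : Set G), ∃ ε ∈ d.E, i = δ * ε := by
  have h := (k.gen_U hv hvU).ge hi
  rw [← SetLike.mem_coe, coe_mul_of_right_le_normalizer_left _ _ (k.E_norm_D hv hvU)] at h
  obtain ⟨δ, hδ, ε, hε, rfl⟩ := h
  exact ⟨δ, hδ, ε, hε, rfl⟩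

theorem inv_dec {i : G} (hi : i ∈ k.U) (hi2 : i * i = 1) :
    ∃ δ ∈ closure ({d.f, v * d.f * v⁻¹} : Set G), i = δ ∨ i = δ * k.w := by
  obtain ⟨δ, hδ, ε, hε, rfl⟩ := k.U_dec hv hvU hi
  refine ⟨δ, hδ, ?_⟩
  rcases k.sq_E hε with ⟨-, rfl | rfl⟩ | ⟨h', -⟩
  · exact Or.inl (mul_one δ)
  · exact Or.inr rfl
  · refine absurd ?_ (k.w_not_D hv hvU)
    have e : ε * ε = (δ * (ε * δ * ε⁻¹))⁻¹ := eq_inv_of_mul_eq_one_right (by rw [← hi2]; group)
    rw [← h', e]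
    exact inv_mem (mul_mem hδ ((mem_normalizer_iff.1 (k.E_norm_D hv hvU hε) δ).1 hδ))

theorem hinv {i : G} (hi : i ∈ k.U) (hi2 : i * i = 1) : (∀ u ∈ k.U, u * i = i * u) ∨
    ∃ s ∈ (D.S : Subgroup G), ∃ f' ∈ c.Q, f' ∉ cj d.u c.Q ∧ i = s * f' * s⁻¹ := by
  have hcg : ∀ x : G, x * d.f = d.f * x → x * (v * d.f * v⁻¹) = v * d.f * v⁻¹ * x →
      x ∈ k.U → ∀ u ∈ k.U, u * x = x * u := by
    intro x hxf hxg hxU u hu
    have hxQ : x ∈ c.Q := d.cent_S d.E_comm d.f_Q d.f_not_Qu (k.U_le hxU) hxf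
    have hle : closure ({d.f, v * d.f * v⁻¹} : Set G) ⊔ d.E ≤ centralizer ({x} : Set G) :=
      sup_le ((closure_le _).2 (Set.insert_subset (mem_centralizer_singleton_iff.2 hxf.symm)
        (Set.singleton_subset_iff.2 (mem_centralizer_singleton_iff.2 hxg.symm))))
        fun ε hε => mem_centralizer_singleton_iff.2 (d.E_comm_Q d.E_comm hε hxQ)
    exact mem_centralizer_singleton_iff.1 (hle ((k.gen_U hv hvU).ge hu))
  obtain ⟨δ, hδ, rfl | rfl⟩ := k.inv_dec hv hvU hi hi2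
  · exact d.inv_cases k.U_le k.T_le_U k.U_norm hv hcg (w := 1) (fun u _ => by rw [mul_one, one_mul])
      (one_mul 1) hδ (mul_one _).symm hi2
  · exact d.inv_cases k.U_le k.T_le_U k.U_norm hv hcg (fun u hu => k.w_comm hu) k.w_sq hδ rfl hi2

end Conj

end Four

end Cfsg.Agent.LengthEight
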