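import Cfsg.Agent.Lib.LengthEight.Half

/-!
# The dihedral part of a subgroup of index two (helper98)

* `Dec.inv_cases` : involutions of `D ∪ D w` are central or conjugate into `Q \ M`, for `D = ⟨f, v f v⁻¹⟩`.
* `Dec.not_comm_g`, `Dec.rot_invol` : `D` is not abelian, its rotation of order two.
-/

set_option autoImplicit false
set_option linter.style.haveILetI false
set_option linter.unusedSectionVars false

namespace Cfsg.Agent.LengthEight

open Subgroup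

variable {G : Type*} [Group G] [Finite G]

namespace Dec

variable [IsSimpleGroup G] {D : Setting G} {c : Cfg D} (d : Dec c)
include d

theorem orderOf_f : orderOf d.f = 2 := Involution.orderOf_of_sq d.f_sq d.f_ne

theorem orderOf_conj_f (v : G) : orderOf (v * d.f * v⁻¹) = 2 := by
  rw [Involution.orderOf_conj, d.orderOf_f]

theorem f_mem_U {U : Subgroup G} (hTU : c.T ≤ U) : d.f ∈ U := hTU (c.Q_le_T d.f_Q)

theorem g_mem_U {U : Subgroup G} (hTU : c.T ≤ U) (hUn : (D.S : Subgroup G) ≤ normalizer (U : Set G)) {v : G}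
    (hv : v ∈ (D.S : Subgroup G)) : v * d.f * v⁻¹ ∈ U :=
  (mem_normalizer_iff.1 (hUn hv) _).1 (d.f_mem_U hTU)

/-- An involution of `T` outside `Q` lies in `Qᵘ`. -/
theorem invol_T {t : G} (ht : t ∈ c.T) (htQ : t ∉ c.Q) (ht2 : t * t = 1) : t ∈ cj d.u c.Q := by
  have hab := d.E_comm
  have hta : t * d.a ∈ c.Q := (d.T_dec ht).resolve_left htQ
  set q := t * d.a
  have hq : t = q * d.a := by simp only [q]; rw [mul_assoc, d.a_sq, mul_one]
  by_cases hqu : q ∈ cj d.u c.Q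
  · rw [hq]; exact mul_mem hqu d.a_Qu
  exfalso
  have hfq : d.f * q ∈ c.Q ⊓ cj d.u c.Q :=
    mul_mem_of_half inf_le_left d.half_Q d.f_Q hta (fun h => d.f_not_Qu h.2) (fun h => hqu h.2)
  set m := d.f * q
  have hqm : q = d.f * m := by simp only [m]; rw [← mul_assoc, d.f_sq, one_mul]
  have hma : m * d.a = d.a * m := d.a_cent m hfq.1 hfq.2
  have hmf : m * d.f = d.f * m := d.f_comm hfq.1
  have hsq := d.sq_M hab hfq.1 hfq.2
  obtain ⟨e, he, hme⟩ := hsq
  have h1 : t * t = d.n₀ * (m * m) := by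
    calc t * t = d.f * m * (d.a * d.f) * m * d.a := by rw [hq, hqm]; group
      _ = d.f * m * (d.f * d.n₀ * d.a) * m * d.a := by rw [d.a_f]
      _ = d.f * (m * d.f) * d.n₀ * (d.a * m) * d.a := by group
      _ = d.f * (d.f * m) * d.n₀ * (m * d.a) * d.a := by rw [hmf, hma]
      _ = (d.f * d.f) * (m * d.n₀) * m * (d.a * d.a) := by group
      _ = d.n₀ * (m * m) := by rw [d.f_sq, d.a_sq, d.n₀_comm hfq.1]; group
  rw [ht2, hme] at h1
  refine d.n₀_not ?_
  rw [eq_inv_of_mul_eq_one_left h1.symm]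
  exact inv_mem (mul_mem he he)

theorem not_comm_g {v : G} (hv : v ∈ (D.S : Subgroup G)) {U : Subgroup G} (hUS : U ≤ D.S) (hTU : c.T ≤ U)
    (hvU : v ∉ U) : d.f * (v * d.f * v⁻¹) ≠ v * d.f * v⁻¹ * d.f := by
  intro h
  have hgS : v * d.f * v⁻¹ ∈ (D.S : Subgroup G) := mul_mem (mul_mem hv (c.Q_le_S d.f_Q)) (inv_mem hv)
  have hgQ : v * d.f * v⁻¹ ∈ c.Q := d.cent_S d.E_comm d.f_Q d.f_not_Qu hgS h.symm
  have hle : cj v⁻¹ c.Q ≤ c.Q := fun x hx => by
    have hx' := mem_cj.1 hx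
    rw [inv_inv] at hx'
    refine d.cent_S d.E_comm d.f_Q d.f_not_Qu ?_ ?_
    · have := mul_mem (mul_mem (inv_mem hv) (c.Q_le_S hx')) hv
      simpa [mul_assoc] using this
    · have e := d.Q_comm d.E_comm hx' hgQ
      calc x * d.f = v⁻¹ * (v * x * v⁻¹ * (v * d.f * v⁻¹)) * v := by group
        _ = v⁻¹ * (v * d.f * v⁻¹ * (v * x * v⁻¹)) * v := by rw [e]
        _ = d.f * x := by group
  have hn : v⁻¹ ∈ normalizer (c.Q : Set G) :=
    cj_eq_iff_mem_normalizer.1 (eq_of_le_of_card_ge hle (card_cj v⁻¹ c.Q).ge)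
  exact hvU (by simpa using inv_mem (hTU (c.mem_T_of_norm_Q (inv_mem hv) hn)))

/-- A rotation of order two in `⟨f, g⟩`. -/
theorem rot_invol {v : G} (hv : v ∈ (D.S : Subgroup G)) {U : Subgroup G} (hUS : U ≤ D.S) (hTU : c.T ≤ U)
    (hvU : v ∉ U) : ∃ k : ℕ, (d.f * (v * d.f * v⁻¹)) ^ k * (d.f * (v * d.f * v⁻¹)) ^ k = 1 ∧
      (d.f * (v * d.f * v⁻¹)) ^ k ≠ 1 := by
  haveI := Fact.mk Nat.prime_two
  set ρ := d.f * (v * d.f * v⁻¹)
  have hρS : ρ ∈ (D.S : Subgroup G) :=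
    mul_mem (c.Q_le_S d.f_Q) (mul_mem (mul_mem hv (c.Q_le_S d.f_Q)) (inv_mem hv))
  obtain ⟨n, hn⟩ := IsPGroup.iff_orderOf.1 D.S.2 ⟨ρ, hρS⟩
  have hn' : orderOf ρ = 2 ^ n := (orderOf_coe (⟨ρ, hρS⟩ : (D.S : Subgroup G))).trans hn
  rcases n with _ | n
  · exfalso
    rw [pow_zero, orderOf_eq_one_iff] at hn'
    exact d.not_comm_g hv hUS hTU hvU (hn'.trans (mul_eq_one_comm.1 hn').symm)
  · refine ⟨2 ^ n, ?_, fun e => ?_⟩
    · rw [← pow_add, ← two_mul, ← pow_succ', ← hn', pow_orderOf_eq_one]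
    · have := Nat.le_of_dvd (by positivity) (orderOf_dvd_of_pow_eq_one e)
      rw [hn', pow_succ] at this
      have : 0 < 2 ^ n := by positivity
      omega

theorem inv_cases {U : Subgroup G} (hUS : U ≤ D.S) (hTU : c.T ≤ U)
    (hUn : (D.S : Subgroup G) ≤ normalizer (U : Set G)) {v : G} (hv : v ∈ (D.S : Subgroup G))
    (hcent : ∀ x : G, x * d.f = d.f * x → x * (v * d.f * v⁻¹) = v * d.f * v⁻¹ * x →
      x ∈ U → ∀ u ∈ U, u * x = x * u)
    {w : G} (hwc : ∀ u ∈ U, u * w = w * u) (hw2 : w * w = 1)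
    {i δ : G} (hδ : δ ∈ closure ({d.f, v * d.f * v⁻¹} : Set G)) (hi : i = δ * w) (hi2 : i * i = 1) :
    (∀ u ∈ U, u * i = i * u) ∨
      ∃ s ∈ (D.S : Subgroup G), ∃ f' ∈ c.Q, f' ∉ cj d.u c.Q ∧ i = s * f' * s⁻¹ := by
  set g := v * d.f * v⁻¹ with hg
  have hDU : closure ({d.f, g} : Set G) ≤ U := (closure_le _).2
    (Set.insert_subset (d.f_mem_U hTU) (Set.singleton_subset_iff.2 (d.g_mem_U hTU hUn hv)))
  have hδU : δ ∈ U := hDU hδ
  have hδ2 : δ * δ = 1 := by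
    have e : i * i = δ * δ * (w * w) := by
      rw [hi, show δ * w * (δ * w) = δ * (w * δ) * w by group, ← hwc δ hδU]; group
    rw [hi2, hw2, mul_one] at e
    exact e.symm
  have hwM := d.central_mem hTU hwc
  rcases involution_cases d.orderOf_f (d.orderOf_conj_f v) hδ hδ2 with ⟨-, hf, hg'⟩ | ⟨b, hb, he⟩ | ⟨b, hb, he⟩
  · left
    intro u hu
    rw [hi]
    exact ((show Commute u δ from hcent δ hf hg' hδU u hu).mul_right (hwc u hu)).eq
  · refine Or.inr ⟨b, hUS (hDU hb), d.f * w, mul_mem d.f_Q hwM.1, fun h => d.f_not_Qu ?_, ?_⟩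
    · have := (cj d.u c.Q).mul_mem h ((cj d.u c.Q).inv_mem hwM.2)
      rwa [mul_inv_cancel_right] at this
    · calc i = b * d.f * b⁻¹ * w := by rw [hi, he]
        _ = b * d.f * (b⁻¹ * w) := by group
        _ = b * d.f * (w * b⁻¹) := by rw [hwc _ (inv_mem (hDU hb))]
        _ = b * (d.f * w) * b⁻¹ := by group
  · have hw'c : ∀ u ∈ U, u * (v⁻¹ * w * v) = v⁻¹ * w * v * u := by
      intro u hu
      have h := hwc _ ((mem_normalizer_iff.1 (hUn hv) u).1 hu)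
      calc u * (v⁻¹ * w * v) = v⁻¹ * (v * u * v⁻¹ * w) * v := by group
        _ = v⁻¹ * (w * (v * u * v⁻¹)) * v := by rw [h]
        _ = v⁻¹ * w * v * u := by group
    have hw'M := d.central_mem hTU hw'c
    refine Or.inr ⟨b * v, mul_mem (hUS (hDU hb)) hv, d.f * (v⁻¹ * w * v), mul_mem d.f_Q hw'M.1,
      fun h => d.f_not_Qu ?_, ?_⟩
    · have := (cj d.u c.Q).mul_mem h ((cj d.u c.Q).inv_mem hw'M.2)
      rwa [mul_inv_cancel_right] at this
    · calc i = b * g * b⁻¹ * w := by rw [hi, he]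
        _ = b * g * (b⁻¹ * w) := by group
        _ = b * g * (w * b⁻¹) := by rw [hwc _ (inv_mem (hDU hb))]
        _ = b * v * (d.f * (v⁻¹ * w * v)) * (b * v)⁻¹ := by simp only [hg]; group

end Dec

end Cfsg.Agent.LengthEight
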