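import Cfsg.Agent.Lib.LengthEight.ShapeSix
import Cfsg.Agent.Lib.Involution.Basic

/-!
# Conjugates of `Q` under the normalizer of `T` (helper98)

With `u ∈ N_S(T) \ T`, some element of the conjugate of `V` by `u` lies outside `Q`
(`Cfg.exists_swap_outside`): otherwise a noncentral element of that conjugate has a centralizer of index 2
in `Q`, and this forces `Q` to have exponent 2.
-/

set_option autoImplicit false
set_option linter.style.haveILetI false
set_option linter.unusedSectionVars false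

namespace Cfsg.Agent.LengthEight

open Subgroup

variable {G : Type*} [Group G]

/-- The conjugate of `K` by `g`. -/
def cj (g : G) (K : Subgroup G) : Subgroup G := K.map (MulAut.conj g).toMonoidHom

theorem mem_cj {g x : G} {K : Subgroup G} : x ∈ cj g K ↔ g⁻¹ * x * g ∈ K := by
  constructor
  · rintro ⟨y, hy, rfl⟩
    simpa [mul_assoc] using hy
  · exact fun h => ⟨g⁻¹ * x * g, h, by simp [mul_assoc]⟩

theorem conj_mem_cj {g x : G} {K : Subgroup G} (h : x ∈ K) : g * x * g⁻¹ ∈ cj g K :=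
  ⟨x, h, by simp⟩

theorem card_cj (g : G) (K : Subgroup G) : Nat.card ↥(cj g K) = Nat.card K :=
  (Nat.card_congr (K.equivMapOfInjective (MulAut.conj g).toMonoidHom (MulAut.conj g).injective).toEquiv).symm

theorem cj_le_cj {g : G} {K L : Subgroup G} (h : K ≤ L) : cj g K ≤ cj g L := map_mono h

theorem cj_cj (g h : G) (K : Subgroup G) : cj g (cj h K) = cj (g * h) K := by
  ext x
  simp only [mem_cj, mul_inv_rev, mul_assoc]

theorem cj_eq_iff_mem_normalizer {g : G} {K : Subgroup G} : cj g K = K ↔ g ∈ normalizer (K : Set G) :=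
  mem_normalizer_iff_map_conj_eq.symm

theorem cj_inf (g : G) (K L : Subgroup G) : cj g (K ⊓ L) = cj g K ⊓ cj g L := by
  ext x; simp [mem_cj]

variable [Finite G]

/-- A subgroup of index at most two is closed under products of two elements outside it. -/
theorem mul_mem_of_half {M Q : Subgroup G} (hMQ : M ≤ Q) (h : Nat.card Q ≤ 2 * Nat.card M)
    {x y : G} (hx : x ∈ Q) (hy : y ∈ Q) (hxM : x ∉ M) (hyM : y ∉ M) : x * y ∈ M := by
  have h1 := (M.subgroupOf Q).card_mul_index
  rw [Nat.card_congr (subgroupOfEquivOfLe hMQ).toEquiv] at h1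
  have h2 : (M.subgroupOf Q).index ≤ 2 :=
    Nat.le_of_mul_le_mul_left (by rw [h1, mul_comm]; exact h) Nat.card_pos
  have h3 : (M.subgroupOf Q).index ≠ 0 := index_ne_zero_of_finite
  have h4 : (M.subgroupOf Q).index ≠ 1 := fun e => hxM ((subgroupOf_eq_top.1 (index_eq_one.1 e)) hx)
  have h5 : (M.subgroupOf Q).index = 2 := by omega
  exact (mul_mem_iff_of_index_two h5 (a := ⟨x, hx⟩) (b := ⟨y, hy⟩)).2
    (iff_of_false hxM hyM)

theorem eq_of_lt_of_half {M L Q : Subgroup G} (h1 : M < L) (h2 : L ≤ Q) (h : Nat.card Q ≤ 2 * Nat.card M) :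
    L = Q := by
  obtain ⟨x, hxL, hxM⟩ := SetLike.exists_of_lt h1
  refine le_antisymm h2 fun y hy => ?_
  by_cases hyM : y ∈ M
  · exact h1.le hyM
  · have := L.mul_mem (L.inv_mem hxL) (h1.le (mul_mem_of_half (h1.le.trans h2) h (h2 hxL) hy hxM hyM))
    simpa using this

namespace Cfg

variable {D : Setting G} (c : Cfg D)
include c

theorem mem_T_of_norm_Q [IsSimpleGroup G] {s : G} (hs : s ∈ (D.S : Subgroup G))
    (hn : s ∈ normalizer (c.Q : Set G)) : s ∈ c.T :=
  c.mem_of_normalizes c.Q_le_T c.z_mem_Q c.loc.norm hs hn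

theorem T_le_norm_Q : c.T ≤ normalizer (c.Q : Set G) := c.T_le_H.trans c.loc.norm

theorem card_T_two_mul [IsSimpleGroup G] : Nat.card c.T = 2 * Nat.card c.Q := c.shape.2.1

/-- A subgroup of `T` of index 2 with an element of `N_S(T) \ T` generates `S` when `|T| = 64`. -/
theorem S_le_normalizer_of [IsSimpleGroup G] (h64 : 64 ≤ Nat.card c.T) {C : Subgroup G}
    (hT : c.T ≤ normalizer (C : Set G)) {u : G} (hu : u ∈ (D.S : Subgroup G)) (huT : u ∉ c.T)
    (huC : u ∈ normalizer (C : Set G)) : (D.S : Subgroup G) ≤ normalizer (C : Set G) := by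
  set L := normalizer (C : Set G) ⊓ D.S
  have hlt : c.T < L := lt_of_le_of_ne (le_inf hT c.T_le_S) fun e => huT (e ▸ ⟨huC, hu⟩)
  have := eq_of_lt_of_half hlt inf_le_right (by rw [D.card_S]; omega)
  exact this ▸ inf_le_left

variable [IsSimpleGroup G] {u : G} (huS : u ∈ (D.S : Subgroup G)) (huN : u ∈ normalizer (c.T : Set G))
  (huT : u ∉ c.T) (hu2 : u * u ∈ c.T)
include huS huN huT hu2

theorem Qu_le_T : cj u c.Q ≤ c.T := (cj_le_cj c.Q_le_T).trans (cj_eq_iff_mem_normalizer.2 huN).le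

theorem Qu_ne : cj u c.Q ≠ c.Q := fun e => huT (c.mem_T_of_norm_Q huS (cj_eq_iff_mem_normalizer.1 e))

theorem cj_u_Qu : cj u (cj u c.Q) = c.Q := by
  rw [cj_cj, cj_eq_iff_mem_normalizer]; exact c.T_le_norm_Q hu2

theorem u_norm_M : u ∈ normalizer ((c.Q ⊓ cj u c.Q : Subgroup G) : Set G) := by
  rw [← cj_eq_iff_mem_normalizer, cj_inf, c.cj_u_Qu huS huN huT hu2, inf_comm]

theorem T_norm_Qu : c.T ≤ normalizer ((cj u c.Q : Subgroup G) : Set G) := by
  intro t ht
  rw [← cj_eq_iff_mem_normalizer, cj_cj]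
  have hm : u⁻¹ * t * u ∈ normalizer (c.Q : Set G) := c.T_le_norm_Q (by
    have := (mem_normalizer_iff.1 (inv_mem huN) t).1 ht
    simpa using this)
  calc cj (t * u) c.Q = cj u (cj (u⁻¹ * t * u) c.Q) := by rw [cj_cj]; congr 1; group
    _ = cj u c.Q := by rw [cj_eq_iff_mem_normalizer.2 hm]

theorem T_norm_M : c.T ≤ normalizer ((c.Q ⊓ cj u c.Q : Subgroup G) : Set G) := fun t ht => by
  rw [← cj_eq_iff_mem_normalizer, cj_inf, cj_eq_iff_mem_normalizer.2 (c.T_le_norm_Q ht),
    cj_eq_iff_mem_normalizer.2 (c.T_norm_Qu huS huN huT hu2 ht)]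

theorem card_M : 2 * Nat.card ↥(c.Q ⊓ cj u c.Q) = Nat.card c.Q := by
  have h := PLocal.card_sup_mul_card_inf (H := c.Q) (K := cj u c.Q)
    ((c.Qu_le_T huS huN huT hu2).trans c.T_le_norm_Q)
  rw [card_cj] at h
  have hlt : c.Q < c.Q ⊔ cj u c.Q := lt_of_le_of_ne le_sup_left fun e => by
    refine c.Qu_ne huS huN huT hu2 (eq_of_le_of_card_ge (le_sup_right.trans e.ge) ?_)
    rw [card_cj]
  rw [eq_of_lt_of_half hlt (sup_le c.Q_le_T (c.Qu_le_T huS huN huT hu2)) c.card_T_two_mul.le,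
    c.card_T_two_mul] at h
  exact Nat.eq_of_mul_eq_mul_left Nat.card_pos (by rw [← h]; ring)

theorem Qu_comm {v x : G} (hv : v ∈ c.V) (hx : x ∈ cj u c.Q) : x * (u * v * u⁻¹) = u * v * u⁻¹ * x := by
  have h := c.V_comm hv (mem_cj.1 hx)
  calc x * (u * v * u⁻¹) = u * (u⁻¹ * x * u * v) * u⁻¹ := by group
    _ = u * (v * (u⁻¹ * x * u)) * u⁻¹ := by rw [h]
    _ = u * v * u⁻¹ * x := by group

theorem exists_swap_outside : ∃ v ∈ c.V, u * v * u⁻¹ ∉ c.Q := by
  by_contra! hall
  haveI := Fact.mk Nat.prime_two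
  set M := c.Q ⊓ cj u c.Q with hM
  have hMcard := c.card_M huS huN huT hu2
  rw [← hM] at hMcard
  -- a noncentral element `r`
  obtain ⟨v, hv, hr⟩ : ∃ v ∈ c.V, ∃ q ∈ c.Q, q * (u * v * u⁻¹) ≠ u * v * u⁻¹ * q := by
    by_contra! hh
    refine c.Qu_ne huS huN huT hu2 (eq_of_le_of_card_ge (fun x hx => ?_) (card_cj u c.Q).le).symm |>.elim
    refine mem_cj.2 (c.mem_Q_of_fix_V (c.T_le_H ?_) fun w hw => ?_)
    · have := (mem_normalizer_iff.1 (inv_mem huN) x).1 (c.Q_le_T hx)
      simpa using this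
    · have := hh w hw x hx
      calc w * (u⁻¹ * x * u) = u⁻¹ * (u * w * u⁻¹ * x) * u := by group
        _ = u⁻¹ * (x * (u * w * u⁻¹)) * u := by rw [this]
        _ = u⁻¹ * x * u * w := by group
  set r := u * v * u⁻¹
  have hrQ : r ∈ c.Q := hall v hv
  have hrM : r ∈ M := ⟨hrQ, conj_mem_cj (c.V_le_Q hv)⟩
  have hr2 : r * r = 1 := by
    calc r * r = u * (v * v) * u⁻¹ := by simp only [r]; group
      _ = 1 := by rw [c.V_sq hv]; group
  obtain ⟨q₀, hq₀, hq₀r⟩ := hr
  have hcentr : ∀ q ∈ c.Q, q * r = r * q → q ∈ M := by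
    intro q hq hqr
    by_contra hqM
    have hle : M < c.Q ⊓ centralizer ({r} : Set G) := lt_of_le_of_ne
      (fun x hx => ⟨hx.1, mem_centralizer_singleton_iff.2 (c.Qu_comm huS huN huT hu2 hv hx.2)⟩)
      fun e => hqM (e ▸ ⟨hq, mem_centralizer_singleton_iff.2 hqr⟩)
    have := eq_of_lt_of_half hle inf_le_left hMcard.ge
    exact hq₀r (mem_centralizer_singleton_iff.1 (this.ge hq₀).2)
  have hMr : ∀ x ∈ M, x * r = r * x := fun x hx => c.Qu_comm huS huN huT hu2 hv hx.2
  -- an element of order three moves `M`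
  haveI : Fact (Nat.Prime 3) := ⟨Nat.prime_three⟩
  obtain ⟨⟨g, hgH⟩, hg⟩ := exists_prime_orderOf_dvd_card' (G := c.H) 3 (by rw [c.shape.1]; exact Dvd.intro _ rfl)
  have hg3 : g ^ 3 = 1 := by
    have := pow_orderOf_eq_one (⟨g, hgH⟩ : c.H)
    rw [hg] at this
    exact congrArg Subtype.val this
  set Z := centralizer (c.Q : Set G) with hZ
  have hVM : c.V ≤ M := fun w hw => hcentr w (c.V_le_Q hw) (c.V_comm hw hrQ).symm
  have hZM : Z ≤ M := fun x hx => hcentr x (c.loc.cent hx) (mem_centralizer_iff.1 hx r hrQ).symm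
  have hHZ : c.H ≤ normalizer (Z : Set G) :=
    c.loc.norm.trans (normalizer_le_normalizer_centralizer _)
  have hzM : D.z ∈ M := hVM c.z_mem_V
  have hMne : cj g M ≠ M := by
    intro e
    refine huT (c.mem_of_normalizes (inf_le_left.trans c.Q_le_T) hzM ?_ huS (c.u_norm_M huS huN huT hu2))
    have h1 := c.eq_T_or_H (L := normalizer (M : Set G) ⊓ c.H)
      (le_inf (c.T_norm_M huS huN huT hu2) c.T_le_H) inf_le_right
    rcases h1 with h | h
    · exfalso
      have : g ∈ c.T := h ▸ ⟨cj_eq_iff_mem_normalizer.1 e, hgH⟩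
      obtain ⟨k, hk⟩ := c.T_two ⟨g, this⟩
      have hk' : g ^ 2 ^ k = 1 := congrArg Subtype.val hk
      have hd : orderOf g ∣ 2 ^ k := orderOf_dvd_of_pow_eq_one hk'
      rw [show orderOf g = 3 from (orderOf_coe (⟨g, hgH⟩ : c.H)).trans hg] at hd
      exact absurd (Nat.prime_three.dvd_of_dvd_pow hd) (by norm_num)
    · exact h ▸ inf_le_left
  have hM1Q : cj g M ≤ c.Q := (cj_le_cj inf_le_left).trans (cj_eq_iff_mem_normalizer.2 (c.loc.norm hgH)).le
  set r₁ := g * r * g⁻¹
  have hr₁M1 : r₁ ∈ cj g M := conj_mem_cj hrM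
  have hcentr₁ : ∀ q ∈ c.Q, q * r₁ = r₁ * q → q ∈ cj g M := by
    intro q hq hqr
    refine mem_cj.2 (hcentr _ ?_ ?_)
    · simpa using (mem_normalizer_iff.1 (c.loc.norm (inv_mem hgH)) q).1 hq
    · calc g⁻¹ * q * g * r = g⁻¹ * (q * r₁) * g := by simp only [r₁]; group
        _ = g⁻¹ * (r₁ * q) * g := by rw [hqr]
        _ = r * (g⁻¹ * q * g) := by simp only [r₁]; group
  have hM1r : ∀ x ∈ cj g M, x * r₁ = r₁ * x := by
    intro x hx
    have h := hMr _ (mem_cj.1 hx)
    calc x * r₁ = g * (g⁻¹ * x * g * r) * g⁻¹ := by simp only [r₁]; group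
      _ = g * (r * (g⁻¹ * x * g)) * g⁻¹ := by rw [h]
      _ = r₁ * x := by simp only [r₁]; group
  set I := M ⊓ cj g M
  have hI4 : 4 * Nat.card I = Nat.card c.Q := by
    have hn : cj g M ≤ normalizer (M : Set G) :=
      (hM1Q.trans c.Q_le_T).trans (c.T_norm_M huS huN huT hu2)
    have h := PLocal.card_sup_mul_card_inf hn
    rw [card_cj] at h
    have hlt : M < M ⊔ cj g M := lt_of_le_of_ne le_sup_left fun e =>
      hMne (eq_of_le_of_card_ge (le_sup_right.trans e.ge) (card_cj g M).ge)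
    rw [eq_of_lt_of_half hlt (sup_le inf_le_left hM1Q) hMcard.ge] at h
    have h2 : Nat.card c.Q * (4 * Nat.card I) = Nat.card c.Q * Nat.card c.Q := by
      calc Nat.card c.Q * (4 * Nat.card I) = 4 * (Nat.card c.Q * Nat.card I) := by ring
        _ = 4 * (Nat.card M * Nat.card M) := by rw [h]
        _ = _ := by rw [← hMcard]; ring
    exact Nat.eq_of_mul_eq_mul_left Nat.card_pos h2
  have hZI : Z ≤ I := le_inf hZM fun x hx => by
    refine mem_cj.2 (hZM ?_)
    simpa using (mem_normalizer_iff.1 (hHZ (inv_mem hgH)) x).1 hx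
  have hVZ : c.V ≤ Z := c.V_le_cent
  have hZ4 : 4 ≤ Nat.card Z := c.card_V_ge.trans (card_le_of_le hVZ)
  have hQ32 : Nat.card c.Q ≤ 32 := by
    have := c.card_T_le
    have := c.card_T_two_mul
    omega
  have hIZhalf : Nat.card I ≤ 2 * Nat.card Z := by omega
  have hrZ : r ∉ Z := fun h => hq₀r (mem_centralizer_iff.1 h q₀ hq₀)
  have hrI : r ∉ I := by
    intro hrI
    have h1 : r₁ ∈ M := hcentr r₁ (hM1Q hr₁M1) (hM1r r hrI.2).symm
    have hr₁Z : r₁ ∉ Z := fun h => hrZ (by
      have := (mem_normalizer_iff.1 (hHZ (inv_mem hgH)) r₁).1 h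
      simpa [r₁, mul_assoc] using this)
    have hrel := mul_mem_of_half hZI hIZhalf hrI ⟨h1, hr₁M1⟩ hrZ hr₁Z
    refine hMne (eq_of_le_of_card_ge (fun x hx => hcentr x (hM1Q hx) ?_) (card_cj g M).ge)
    have hxc : x * (r * r₁) = r * r₁ * x := mem_centralizer_iff.1 hrel x (hM1Q hx)
    have hr' : r = r * r₁ * r₁⁻¹ := by group
    have hxr₁ : x * r₁⁻¹ = r₁⁻¹ * x := ((show Commute x r₁ from hM1r x hx).inv_right).eq
    calc x * r = x * (r * r₁ * r₁⁻¹) := by rw [← hr']
      _ = (x * (r * r₁)) * r₁⁻¹ := by group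
      _ = r * r₁ * (x * r₁⁻¹) := by rw [hxc]; group
      _ = r * r₁ * r₁⁻¹ * x := by rw [hxr₁]; group
      _ = r * x := by rw [← hr']
  have hr₁M : r₁ ∉ M := fun h => hrI ⟨hrM, hcentr₁ r hrQ ((hMr r₁ h).symm)⟩
  have hIhalf : Nat.card M ≤ 2 * Nat.card I := by omega
  -- `I` is central in `Q`
  have hIeq : I ≤ Z := by
    intro x hx
    have hle : M < c.Q ⊓ centralizer ({x} : Set G) := by
      refine lt_of_le_of_ne (fun m hm => ⟨hm.1, mem_centralizer_singleton_iff.2 ?_⟩) fun e =>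
        hr₁M (e ▸ ⟨hM1Q hr₁M1, mem_centralizer_singleton_iff.2 (hM1r x hx.2).symm⟩)
      -- `M` is generated by `I` and `r`, and `I` is abelian
      have hxI : ∀ i ∈ I, i * x = x * i := by
        intro i hi
        by_cases hiZ : i ∈ Z
        · exact (mem_centralizer_iff.1 hiZ x (hM1Q hx.2)).symm
        · by_cases hxZ : x ∈ Z
          · exact mem_centralizer_iff.1 hxZ i (hM1Q hi.2)
          · have h := mul_mem_of_half hZI hIZhalf hi hx hiZ hxZ
            have h2 := mem_centralizer_iff.1 h i (hM1Q hi.2)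
            calc i * x = i⁻¹ * (i * (i * x)) := by group
              _ = i⁻¹ * (i * x * i) := by rw [h2]
              _ = x * i := by group
      by_cases hmI : m ∈ I
      · exact hxI m hmI
      · have h := mul_mem_of_half (M := I) inf_le_left hIhalf hrM hm hrI hmI
        have h1 := hxI _ h
        have h2 := hMr x hx.1
        calc m * x = r⁻¹ * (r * m * x) := by group
          _ = r⁻¹ * (x * (r * m)) := by rw [h1]
          _ = r⁻¹ * (x * r) * m := by group
          _ = r⁻¹ * (r * x) * m := by rw [h2]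
          _ = x * m := by group
    have := eq_of_lt_of_half hle inf_le_left hMcard.ge
    exact mem_centralizer_iff.2 fun q hq => mem_centralizer_singleton_iff.1 (this.ge hq).2
  have hMdec : ∀ m ∈ M, m ∈ Z ∨ r * m ∈ Z := fun m hm => by
    by_cases hmI : m ∈ I
    · exact Or.inl (hIeq hmI)
    · exact Or.inr (hIeq (mul_mem_of_half (M := I) inf_le_left hIhalf hrM hm hrI hmI))
  -- the squares of `Z` form a trivial group
  have hZsq : ∀ x ∈ Z, x * x = 1 := by
    by_contra! hne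
    obtain ⟨x₀, hx₀, hx₀2⟩ := hne
    have hZ8 : 8 ≤ Nat.card Z := by
      have hlt : c.V < Z := lt_of_le_of_ne hVZ fun e => hx₀2 (c.V_sq (e ▸ hx₀))
      obtain ⟨i, hi⟩ := IsPGroup.iff_card.1 (c.loc.two.to_le c.loc.cent)
      have : Nat.card c.V < Nat.card Z := (Set.toFinite _).card_lt_card hlt
      have := c.card_V_ge
      rw [hi] at *
      have : 2 < i := (Nat.pow_lt_pow_iff_right (a := 2) (by norm_num)).1 (by omega)
      exact le_trans (by norm_num) (Nat.pow_le_pow_right (by norm_num) this)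
    have h64 : 64 ≤ Nat.card c.T := by
      have := card_le_of_le hZI
      have := c.card_T_two_mul
      omega
    -- the group of squares
    let sq : Z →* G := MonoidHom.mk' (fun x => (x : G) * x) (fun x y => by
      have : (y : G) * x = (x : G) * y := mem_centralizer_iff.1 x.2 y (c.loc.cent y.2)
      calc ((x : G) * y) * ((x : G) * y) = (x : G) * ((y : G) * x) * y := by group
        _ = (x : G) * ((x : G) * y) * y := by rw [this]
        _ = (x : G) * x * ((y : G) * y) := by group)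
    set C := sq.range
    have hCQ : C ≤ c.Q := by
      rintro _ ⟨x, rfl⟩; exact c.Q.mul_mem (c.loc.cent x.2) (c.loc.cent x.2)
    have hCne : C ≠ ⊥ := fun e => hx₀2 ((mem_bot (G := G)).1 (e ▸ ⟨⟨x₀, hx₀⟩, rfl⟩))
    have hinv : ∀ g' : G, (∀ x ∈ Z, g' * (x * x) * g'⁻¹ ∈ C) → g' ∈ normalizer (C : Set G) := by
      intro g' hg'
      rw [← cj_eq_iff_mem_normalizer]
      refine eq_of_le_of_card_ge (fun y hy => ?_) (card_cj g' C).ge
      obtain ⟨x, hx⟩ := mem_cj.1 hy
      have := hg' x x.2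
      rw [show (x : G) * x = g'⁻¹ * y * g' from hx] at this
      simpa [mul_assoc] using this
    have hH : c.H ≤ normalizer (C : Set G) := fun g' hg' => hinv g' fun x hx =>
      ⟨⟨g' * x * g'⁻¹, (mem_normalizer_iff.1 (hHZ hg') x).1 hx⟩, by
        show g' * x * g'⁻¹ * (g' * x * g'⁻¹) = _; group⟩
    refine c.not_normalized (hCQ.trans c.Q_le_S) hCne hH
      (c.S_le_normalizer_of h64 (c.T_le_H.trans hH) huS huT (hinv u fun x hx => ?_))
    have hm : u * x * u⁻¹ ∈ M := (mem_normalizer_iff.1 (c.u_norm_M huS huN huT hu2) x).1 (hZM hx)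
    have e : u * (x * x) * u⁻¹ = u * x * u⁻¹ * (u * x * u⁻¹) := by group
    rw [e]
    set m := u * x * u⁻¹
    rcases hMdec m hm with h | h
    · exact ⟨⟨m, h⟩, rfl⟩
    · refine ⟨⟨r * m, h⟩, ?_⟩
      show r * m * (r * m) = m * m
      have hc := hMr m hm
      calc r * m * (r * m) = r * (m * r) * m := by group
        _ = (r * r) * (m * m) := by rw [hc]; group
        _ = m * m := by rw [hr2, one_mul]
  -- so `Q` has exponent two
  have hMsq : ∀ m ∈ M, m * m = 1 := by
    intro m hm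
    rcases hMdec m hm with h | h
    · exact hZsq m h
    · have hc := hMr m hm
      calc m * m = (r * r) * (m * m) := by rw [hr2, one_mul]
        _ = r * (m * r) * m := by rw [hc]; group
        _ = r * m * (r * m) := by group
        _ = 1 := hZsq _ h
  have hQsq : ∀ q ∈ c.Q, q * q = 1 := by
    intro q hq
    have hM1sq : ∀ m ∈ cj g M, m * m = 1 := fun m hm => by
      have := hMsq _ (mem_cj.1 hm)
      calc m * m = g * (g⁻¹ * m * g * (g⁻¹ * m * g)) * g⁻¹ := by group
        _ = 1 := by rw [this]; group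
    have hM2sq : ∀ m ∈ cj g (cj g M), m * m = 1 := fun m hm => by
      have := hM1sq _ (mem_cj.1 hm)
      calc m * m = g * (g⁻¹ * m * g * (g⁻¹ * m * g)) * g⁻¹ := by group
        _ = 1 := by rw [this]; group
    by_cases hqM : q ∈ M
    · exact hMsq q hqM
    by_cases hqM1 : q ∈ cj g M
    · exact hM1sq q hqM1
    refine hM2sq q ?_
    -- an element of the third conjugate outside the first two
    set r₂ := g * r₁ * g⁻¹
    have hr₂M2 : r₂ ∈ cj g (cj g M) := conj_mem_cj hr₁M1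
    have hM2Q : cj g (cj g M) ≤ c.Q :=
      (cj_le_cj hM1Q).trans (cj_eq_iff_mem_normalizer.2 (c.loc.norm hgH)).le
    have hIinv : ∀ x ∈ I, x ∈ cj g (cj g M) := fun x hx => by
      refine mem_cj.2 (hZI ?_).2
      simpa using (mem_normalizer_iff.1 (hHZ (inv_mem hgH)) x).1 (hIeq hx)
    have hr₂M1 : r₂ ∉ cj g M := fun h => hr₁M (by simpa [r₂, mul_assoc] using mem_cj.1 h)
    have hr₂M : r₂ ∉ M := fun h => by
      have h3 : g * r₂ * g⁻¹ ∈ cj g M := conj_mem_cj h
      have e : g * r₂ * g⁻¹ = r := by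
        calc g * r₂ * g⁻¹ = g ^ 3 * r * (g ^ 3)⁻¹ := by simp only [r₂, r₁, pow_succ, pow_zero, one_mul]; group
          _ = r := by rw [hg3]; group
      rw [e] at h3
      exact hrI ⟨hrM, h3⟩
    have h1 := mul_mem_of_half inf_le_left hMcard.ge (hM2Q hr₂M2) hq hr₂M hqM
    have h2 := mul_mem_of_half hM1Q (by rw [card_cj]; exact hMcard.ge) (hM2Q hr₂M2) hq hr₂M1 hqM1
    have := (cj g (cj g M)).mul_mem ((cj g (cj g M)).inv_mem hr₂M2) (hIinv _ ⟨h1, h2⟩)
    simpa using this
  exact hq₀r (comm_of_sq hQsq hq₀ hrQ)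

end Cfg

end Cfsg.Agent.LengthEight
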