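import Cfsg.Agent.Lib.LengthEight.Facts

/-!
# The complement `E` is small (helper98)

`Dec.E_comm`: `E` is abelian.  `Dec.E_small`: `|E| ≤ 2`, or `E` is cyclic of order 4.  In the other cases a
nontrivial subgroup of `E` would be normal in `S`.
-/

set_option autoImplicit false
set_option linter.style.haveILetI false
set_option linter.unusedSectionVars false

namespace Cfsg.Agent.LengthEight

open Subgroup
open scoped commutatorElement

variable {G : Type*} [Group G] [Finite G]

namespace Dec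

variable [IsSimpleGroup G] {D : Setting G} {c : Cfg D} (d : Dec c)
include d

theorem card_T_eq : Nat.card c.T = 8 * Nat.card d.E := by
  rw [c.card_T_two_mul, d.card_Q]; ring

theorem card_E_le : Nat.card d.E ≤ 8 := by
  have h1 := d.card_T_eq
  have h2 := c.card_T_le
  omega

theorem card_E_cases : Nat.card d.E = 1 ∨ Nat.card d.E = 2 ∨ Nat.card d.E = 4 ∨ Nat.card d.E = 8 := by
  haveI := Fact.mk Nat.prime_two
  obtain ⟨n, hn⟩ := IsPGroup.iff_card.1 (c.loc.two.to_le d.E_le)
  have h := d.card_E_le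
  have : n ≤ 3 := (Nat.pow_le_pow_iff_right (a := 2) (by norm_num)).1 (by omega)
  interval_cases n <;> simp_all

theorem E_comm : ∀ x ∈ d.E, ∀ y ∈ d.E, x * y = y * x := by
  haveI := Fact.mk Nat.prime_two
  by_contra hne
  push Not at hne
  obtain ⟨x₀, hx₀, y₀, hy₀, hxy⟩ := hne
  have h8 : Nat.card d.E = 8 := by
    rcases d.card_E_cases with h | h | h | h
    · rw [eq_bot_of_card_eq d.E h, mem_bot] at hx₀
      exact absurd (by rw [hx₀, one_mul, mul_one]) hxy
    · haveI := isCyclic_of_prime_card (p := 2) h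
      exact absurd (congrArg Subtype.val (IsCyclic.isMulCommutative.is_comm.comm (⟨x₀, hx₀⟩ : d.E) ⟨y₀, hy₀⟩)) hxy
    · have := IsPGroup.isMulCommutative_of_card_eq_prime_sq (p := 2) (h.trans (by norm_num) : Nat.card d.E = 2 ^ 2)
      exact absurd (congrArg Subtype.val (this.is_comm.comm (⟨x₀, hx₀⟩ : d.E) ⟨y₀, hy₀⟩)) hxy
    · exact h
  set C := ⁅d.E, d.E⁆ with hC
  have hCE : C ≤ d.E := commutator_le.2 fun p hp q hq => by
    rw [commutatorElement_def]
    exact mul_mem (mul_mem (mul_mem hp hq) (inv_mem hp)) (inv_mem hq)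
  have hCne : C ≠ ⊥ := fun e => hxy (commutatorElement_eq_one_iff_mul_comm.1
    (mem_bot.1 (e ▸ commutator_mem_commutator hx₀ hy₀)))
  have hHC : c.H ≤ normalizer (C : Set G) := by
    intro g hg
    rw [← cj_eq_iff_mem_normalizer, hC]
    show map _ ⁅d.E, d.E⁆ = _
    rw [map_commutator]
    show ⁅cj g d.E, cj g d.E⁆ = _
    rw [cj_eq_iff_mem_normalizer.2 (d.E_norm hg)]
  -- a decomposition of the elements of `Qᵘ`
  have hdec : ∀ x ∈ cj d.u c.Q, ∃ e ∈ d.E, ∃ k ∈ centralizer (d.E : Set G),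
      Commute k d.a ∧ Commute k d.n₀ ∧ (k = 1 ∨ k = d.n₀ ∨ k = d.a ∨ k = d.n₀ * d.a) ∧ x = k * e := by
    intro x hx
    have hn0E : d.n₀ ∈ centralizer (d.E : Set G) :=
      mem_centralizer_iff.2 fun e he => d.n₀_comm (d.E_le he)
    have haE : d.a ∈ centralizer (d.E : Set G) := mem_centralizer_iff.2 fun e he => d.E_a e he
    have hna : Commute d.n₀ d.a := d.n₀_a
    by_cases hxQ : x ∈ c.Q
    · obtain ⟨e, he, h | h⟩ := d.M_dec hxQ hx
      · exact ⟨e, he, 1, one_mem _, Commute.one_left _, Commute.one_left _, Or.inl rfl, by rw [h, one_mul]⟩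
      · exact ⟨e, he, d.n₀, hn0E, hna, Commute.refl _, Or.inr (Or.inl rfl), h⟩
    · have hh : Nat.card ↥(cj d.u c.Q) ≤ 2 * Nat.card ↥(c.Q ⊓ cj d.u c.Q) := by
        rw [card_cj]; exact d.half_Q
      have hm : x * d.a ∈ c.Q ⊓ cj d.u c.Q :=
        mul_mem_of_half inf_le_right hh hx d.a_Qu (fun h => hxQ h.1) (fun h => d.a_not h.1)
      obtain ⟨e, he, h⟩ := d.M_dec hm.1 hm.2
      have hx' : x = x * d.a * d.a := by rw [mul_assoc, d.a_sq, mul_one]
      rcases h with h | h
      · refine ⟨e, he, d.a, haE, Commute.refl _, hna.symm, Or.inr (Or.inr (Or.inl rfl)), ?_⟩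
        rw [hx', h, d.E_a e he]
      · refine ⟨e, he, d.n₀ * d.a, mul_mem hn0E haE, hna.mul_left (Commute.refl _),
          (Commute.refl d.n₀).mul_left hna.symm, Or.inr (Or.inr (Or.inr rfl)), ?_⟩
        rw [hx', h, mul_assoc, d.E_a e he, mul_assoc]
  have huC : d.u ∈ normalizer (C : Set G) := by
    rw [← cj_eq_iff_mem_normalizer]
    refine eq_of_le_of_card_ge ?_ (card_cj d.u C).ge
    show map _ ⁅d.E, d.E⁆ ≤ _
    rw [map_commutator]
    refine commutator_le.2 fun p hp q hq => ?_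
    obtain ⟨e₁, he₁, k₁, hk₁, hk₁a, hk₁n, -, rfl⟩ := hdec p (cj_le_cj d.E_le hp)
    obtain ⟨e₂, he₂, k₂, hk₂, hk₂a, hk₂n, hk₂c, rfl⟩ := hdec q (cj_le_cj d.E_le hq)
    have hk : Commute k₁ k₂ := by
      rcases hk₂c with rfl | rfl | rfl | rfl
      exacts [Commute.one_right _, hk₁n, hk₁a, hk₁n.mul_right hk₁a]
    have c11 := mem_centralizer_iff.1 hk₁ e₁ he₁
    have c12 := mem_centralizer_iff.1 hk₁ e₂ he₂
    have c21 := mem_centralizer_iff.1 hk₂ e₁ he₁
    have hce : ⁅e₁, e₂⁆ ∈ C := commutator_mem_commutator he₁ he₂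
    have hkc : ⁅e₁, e₂⁆ * (k₁ * k₂) = k₁ * k₂ * ⁅e₁, e₂⁆ :=
      mem_centralizer_iff.1 (mul_mem hk₁ hk₂) _ (hCE hce)
    have h1 : k₁ * e₁ * (k₂ * e₂) = k₁ * k₂ * (e₁ * e₂) := by
      calc k₁ * e₁ * (k₂ * e₂) = k₁ * (e₁ * k₂) * e₂ := by group
        _ = k₁ * (k₂ * e₁) * e₂ := by rw [c21]
        _ = _ := by group
    have h2 : k₂ * e₂ * (k₁ * e₁) = k₁ * k₂ * (e₂ * e₁) := by
      calc k₂ * e₂ * (k₁ * e₁) = k₂ * (e₂ * k₁) * e₁ := by group
        _ = k₂ * (k₁ * e₂) * e₁ := by rw [c12]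
        _ = (k₂ * k₁) * (e₂ * e₁) := by group
        _ = _ := by rw [hk.eq]
    have h3 : ⁅k₁ * e₁, k₂ * e₂⁆ = ⁅e₁, e₂⁆ := by
      calc ⁅k₁ * e₁, k₂ * e₂⁆ = (k₁ * e₁ * (k₂ * e₂)) * (k₂ * e₂ * (k₁ * e₁))⁻¹ := by
            rw [commutatorElement_def]; group
        _ = k₁ * k₂ * ⁅e₁, e₂⁆ * (k₁ * k₂)⁻¹ := by rw [h1, h2, commutatorElement_def]; group
        _ = ⁅e₁, e₂⁆ := by rw [← hkc, mul_inv_cancel_right]
    rw [h3]
    exact hce
  refine c.not_normalized (hCE.trans (d.E_le.trans c.Q_le_S)) hCne hHC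
    (c.S_le_normalizer_of ?_ (c.T_le_H.trans hHC) d.u_mem d.u_not huC)
  rw [d.card_T_eq, h8]

theorem cj_E_le : cj d.u d.E ≤ c.Q ⊓ cj d.u c.Q := by
  intro x hx
  obtain ⟨h1, h2⟩ := d.mem_M_of_central d.E_comm (x := x) fun t ht => by
    have he := mem_cj.1 hx
    have ht' : d.u⁻¹ * t * d.u ∈ c.T := by
      simpa using (mem_normalizer_iff.1 (inv_mem d.u_norm) t).1 ht
    have h := d.M_central d.E_comm (d.E_le he) (d.E_Qu he) ht'
    calc t * x = d.u * (d.u⁻¹ * t * d.u * (d.u⁻¹ * x * d.u)) * d.u⁻¹ := by group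
      _ = d.u * (d.u⁻¹ * x * d.u * (d.u⁻¹ * t * d.u)) * d.u⁻¹ := by rw [h]
      _ = x * t := by group
  exact ⟨h1, h2⟩

theorem E_le_M : d.E ≤ c.Q ⊓ cj d.u c.Q := le_inf d.E_le d.E_Qu

theorem card_M_eq : Nat.card ↥(c.Q ⊓ cj d.u c.Q) = 2 * Nat.card d.E := by
  have h := c.card_M d.u_mem d.u_norm d.u_not d.u_sq
  rw [d.card_Q] at h
  omega

/-- Two conjugates of `E` inside `M` meet nontrivially when `|E| ≥ 4`. -/
theorem inf_ne_bot (h4 : 4 ≤ Nat.card d.E) {F : Subgroup G} (hF : F ≤ c.Q ⊓ cj d.u c.Q)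
    (hFc : Nat.card F = Nat.card d.E) : d.E ⊓ F ≠ ⊥ := by
  intro e
  have hn : F ≤ normalizer (d.E : Set G) := le_trans (hF.trans (inf_le_left.trans c.Q_le_T))
    (c.T_le_H.trans d.E_norm)
  have h := PLocal.card_sup_mul_card_inf hn
  rw [e, card_bot, mul_one, hFc] at h
  have := card_le_of_le (sup_le d.E_le_M hF)
  rw [h, d.card_M_eq] at this
  nlinarith

theorem E_small : Nat.card d.E ≤ 2 ∨ (Nat.card d.E = 4 ∧ ∃ e ∈ d.E, e * e ≠ 1) := by
  haveI := Fact.mk Nat.prime_two
  have hab := d.E_comm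
  rcases d.card_E_cases with h | h | h | h
  · exact Or.inl (by omega)
  · exact Or.inl (by omega)
  swap
  · -- order eight
    exfalso
    set C := d.E ⊓ cj d.u d.E with hC
    have hHC : c.H ≤ normalizer (C : Set G) :=
      d.H_norm_of_le inf_le_left fun e he x hx => hab e he x hx.1
    have huC : d.u ∈ normalizer (C : Set G) := by
      rw [← cj_eq_iff_mem_normalizer, hC, cj_inf, cj_cj,
        cj_eq_iff_mem_normalizer.2 (d.E_norm (c.T_le_H d.u_sq)), inf_comm]
    refine c.not_normalized ((inf_le_left.trans d.E_le).trans c.Q_le_S)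
      (d.inf_ne_bot (by omega) d.cj_E_le (card_cj _ _)) hHC
      (c.S_le_normalizer_of ?_ (c.T_le_H.trans hHC) d.u_mem d.u_not huC)
    rw [d.card_T_eq, h]
  · -- elementary abelian of order four
    by_contra hne
    push Not at hne
    have hsqE : ∀ e ∈ d.E, e * e = 1 := hne.2 h
    set M := c.Q ⊓ cj d.u c.Q with hM
    have hMsq : ∀ x ∈ M, x * x = 1 := fun x hx => by
      obtain ⟨e, he, hxe⟩ := d.sq_M hab hx.1 hx.2
      rw [hxe, hsqE e he]
    have hQsq : ∀ q ∈ c.Q, q * q = 1 := by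
      intro q hq
      by_cases hqu : q ∈ cj d.u c.Q
      · exact hMsq q ⟨hq, hqu⟩
      · have hm : d.f * q ∈ M :=
          mul_mem_of_half inf_le_left d.half_Q d.f_Q hq (fun hf => d.n₀_ne (by
            have hc := d.a_cent d.f hf.1 hf.2
            have : d.a * d.f * d.a⁻¹ = d.f := by rw [← hc]; group
            exact mul_eq_left.1 (d.afa.symm.trans this))) (fun hq' => hqu hq'.2)
        have := hMsq _ hm
        rw [mul_assoc d.f, ← mul_assoc q, d.Q_comm hab hq d.f_Q] at this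
        calc q * q = (d.f * d.f) * (q * q) := by rw [d.f_sq, one_mul]
          _ = d.f * (d.f * q * q) := by group
          _ = 1 := this
    -- a subgroup `U` of index two in `S`
    set U := c.T ⊔ zpowers d.u with hU
    have hUS : U ≤ D.S := sup_le c.T_le_S (zpowers_le.2 d.u_mem)
    have hTU : Nat.card U = 64 := by
      have hn : zpowers d.u ≤ normalizer (c.T : Set G) := zpowers_le.2 d.u_norm
      have hh := PLocal.card_sup_mul_card_inf hn
      have h2 : Nat.card (zpowers d.u) ≤ 2 * Nat.card ↥(c.T ⊓ zpowers d.u) := by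
        have hle : zpowers (d.u * d.u) ≤ c.T ⊓ zpowers d.u :=
          le_inf (zpowers_le.2 d.u_sq) (zpowers_le.2 (mul_mem (mem_zpowers _) (mem_zpowers _)))
        have := card_le_of_le hle
        rw [Nat.card_zpowers, ← pow_two, orderOf_pow' _ (two_ne_zero)] at this
        rw [Nat.card_zpowers]
        have hd : (orderOf d.u).gcd 2 ∣ 2 := Nat.gcd_dvd_right _ _
        have hd' := Nat.div_mul_cancel (Nat.gcd_dvd_left (orderOf d.u) 2)
        rcases (Nat.dvd_prime Nat.prime_two).1 hd with e | e <;> rw [e] at this hd' <;> omega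
      obtain ⟨b, -, hb⟩ := D.card_le_of_two (D.S.2.to_le hUS)
      have hlt : Nat.card c.T < Nat.card U := (Set.toFinite _).card_lt_card
        (show c.T < U from lt_of_le_of_ne le_sup_left fun e => d.u_not (e ▸ mem_sup_right (mem_zpowers _)))
      rw [d.card_T_eq, h] at hh hlt
      rw [← hU, hb] at hh
      rw [hb] at hlt ⊢
      have h5 : 5 < b := (Nat.pow_lt_pow_iff_right (a := 2) (by norm_num)).1 (by omega)
      have hpos : 0 < Nat.card ↥(c.T ⊓ zpowers d.u) := Nat.card_pos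
      have h7 : 2 ^ b ≤ 64 := by nlinarith
      have : b ≤ 6 := (Nat.pow_le_pow_iff_right (a := 2) (by norm_num)).1 (by omega)
      obtain rfl : b = 6 := by omega
      norm_num
    obtain ⟨v, hvS, hvU⟩ := SetLike.exists_of_lt (show U < D.S from lt_of_le_of_ne hUS fun e => by
      rw [e, D.card_S] at hTU; omega)
    have hUn : (D.S : Subgroup G) ≤ normalizer (U : Set G) := by
      have hlt := SubnormalizerCount.lt_inf_normalizer D.S.2 (show U < D.S from lt_of_le_of_ne hUS fun e => by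
        rw [e, D.card_S] at hTU; omega)
      have := eq_of_lt_of_half hlt inf_le_left (by rw [D.card_S]; omega)
      exact this ▸ inf_le_right
    have hvQ : cj v c.Q ≤ U := fun x hx => by
      have := (mem_normalizer_iff.1 (hUn (inv_mem hvS)) x)
      rw [inv_inv] at this
      exact this.2 (mem_sup_left (c.Q_le_T (mem_cj.1 hx)))
    have hvQc : ∀ p ∈ cj v c.Q, ∀ q ∈ cj v c.Q, p * q = q * p := fun p hp q hq => by
      have h := d.Q_comm hab (mem_cj.1 hp) (mem_cj.1 hq)
      calc p * q = v * (v⁻¹ * p * v * (v⁻¹ * q * v)) * v⁻¹ := by group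
        _ = v * (v⁻¹ * q * v * (v⁻¹ * p * v)) * v⁻¹ := by rw [h]
        _ = q * p := by group
    have hvQsq : ∀ p ∈ cj v c.Q, p * p = 1 := fun p hp => by
      have h := hQsq _ (mem_cj.1 hp)
      calc p * p = v * (v⁻¹ * p * v * (v⁻¹ * p * v)) * v⁻¹ := by group
        _ = 1 := by rw [h]; group
    -- elements of `T` outside `M` are centralized only by elements of `Q` or of `Qᵘ`
    have htype : ∀ p ∈ cj v c.Q, p ∈ c.T → p ∉ M → cj v c.Q ≤ c.Q ∨ cj v c.Q ≤ cj d.u c.Q := by
      intro p hp hpT hpM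
      by_cases hpQ : p ∈ c.Q
      · exact Or.inl fun q hq => d.cent_S hab hpQ (fun hh => hpM ⟨hpQ, hh⟩) (hUS (hvQ hq)) (hvQc q hq p hp)
      · refine Or.inr fun q hq => d.cent_S' hab ?_ hpQ (hUS (hvQ hq)) (hvQc q hq p hp)
        -- `p * a ∈ Q` lies in `M`, as `p` is an involution
        have hpa : p * d.a ∈ c.Q := (d.T_dec hpT).resolve_left hpQ
        have hp2 := hvQsq p hp
        have hpi : p⁻¹ = p := inv_eq_of_mul_eq_one_right hp2
        have hc : p * d.a * d.a = d.a * (p * d.a) := by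
          have h1 := hQsq _ hpa
          have h2 : d.a * p = p * d.a := by
            rw [← inv_eq_of_mul_eq_one_right h1, mul_inv_rev, d.a_inv, hpi]
          rw [← mul_assoc d.a, h2]
        have := (cj d.u c.Q).mul_mem (d.cent_a _ hpa hc) d.a_Qu
        rwa [mul_assoc, d.a_sq, mul_one] at this
    have hnotT : ¬ cj v c.Q ≤ c.T := by
      intro hle
      obtain ⟨p, hp, hpM⟩ : ∃ p ∈ cj v c.Q, p ∉ M := by
        by_contra! hh
        have := card_le_of_le (show cj v c.Q ≤ M from hh)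
        rw [card_cj, d.card_Q, d.card_M_eq, h] at this
        omega
      rcases htype p hp (hle hp) hpM with e | e
      · exact hvU (mem_sup_left (c.mem_T_of_norm_Q hvS
          (cj_eq_iff_mem_normalizer.1 (eq_of_le_of_card_ge e (card_cj v c.Q).ge))))
      · have e' : cj v c.Q = cj d.u c.Q := eq_of_le_of_card_ge e (by rw [card_cj, card_cj])
        have e2 : cj (d.u⁻¹ * v) c.Q = c.Q := by
          rw [← cj_cj, e', cj_cj, inv_mul_cancel, cj_eq_iff_mem_normalizer]; exact one_mem _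
        have h3 := c.mem_T_of_norm_Q (mul_mem (inv_mem d.u_mem) hvS) (cj_eq_iff_mem_normalizer.1 e2)
        exact hvU (by simpa using mul_mem (mem_sup_right (mem_zpowers d.u) : d.u ∈ U) (mem_sup_left h3 : _ ∈ U))
    obtain ⟨x, hxQ, hxT⟩ := SetLike.not_le_iff_exists.1 hnotT
    -- `x` centralizes `M`
    have hY : M ≤ cj v c.Q := by
      set Y := cj v c.Q ⊓ c.T
      have hYM : Y ≤ M := by
        intro p hp
        by_contra hpM
        rcases htype p hp.1 hp.2 hpM with e | e
        · exact hxT (c.Q_le_T (e hxQ))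
        · exact hxT ((c.Qu_le_T d.u_mem d.u_norm d.u_not d.u_sq) (e hxQ))
      have hn : cj v c.Q ≤ normalizer (c.T : Set G) :=
        hvQ.trans (sup_le le_normalizer (zpowers_le.2 d.u_norm))
      have hh := PLocal.card_sup_mul_card_inf hn
      have hsup := card_le_of_le (sup_le (le_sup_left : c.T ≤ U) hvQ)
      have e : c.T ⊓ cj v c.Q = Y := inf_comm _ _
      rw [e, card_cj, d.card_Q, d.card_T_eq, h] at hh
      have hY8 : 8 ≤ Nat.card Y := by rw [hTU] at hsup; nlinarith
      exact (eq_of_le_of_card_ge hYM (by rw [d.card_M_eq, h]; omega)).ge.trans inf_le_left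
    have hUM : ∀ t ∈ U, ∀ m ∈ M, t * m = m * t := by
      have hle : U ≤ centralizer (M : Set G) := by
        have hT' : c.T ≤ centralizer (M : Set G) := fun t ht =>
          mem_centralizer_iff.2 fun m hm => d.M_central hab hm.1 hm.2 ht
        have hx' : x ∈ centralizer (M : Set G) :=
          mem_centralizer_iff.2 fun m hm => hvQc m (hY hm) x hxQ
        have hlt : c.T < U ⊓ centralizer (M : Set G) :=
          lt_of_le_of_ne (le_inf le_sup_left hT') fun e => hxT (e ▸ ⟨hvQ hxQ, hx'⟩)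
        exact (eq_of_lt_of_half hlt inf_le_left (by rw [hTU, d.card_T_eq, h])).ge.trans inf_le_right
      exact fun t ht m hm => (mem_centralizer_iff.1 (hle ht) m hm).symm
    have hvE : cj v d.E ≤ M := by
      intro p hp
      refine d.mem_M_of_central hab fun t ht => ?_
      have ht' : v⁻¹ * t * v ∈ U := by
        simpa using (mem_normalizer_iff.1 (hUn (inv_mem hvS)) t).1 (mem_sup_left ht)
      have hh := hUM _ ht' _ (d.E_le_M (mem_cj.1 hp))
      calc t * p = v * (v⁻¹ * t * v * (v⁻¹ * p * v)) * v⁻¹ := by group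
        _ = v * (v⁻¹ * p * v * (v⁻¹ * t * v)) * v⁻¹ := by rw [hh]
        _ = p * t := by group
    set C := d.E ⊓ cj v d.E with hC
    have hHC : c.H ≤ normalizer (C : Set G) :=
      d.H_norm_of_le inf_le_left fun e he y hy => hab e he y hy.1
    have hUC : U ≤ normalizer (C : Set G) := le_trans (fun t ht => mem_centralizer_iff.2 fun m hm =>
      (hUM t ht m (d.E_le_M hm.1)).symm) (centralizer_le_normalizer _)
    have hvv : v * v ∈ U := mul_mem_of_half hUS (by rw [D.card_S, hTU]; norm_num) hvS hvS hvU hvU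
    have hvC : v ∈ normalizer (C : Set G) := by
      have hvvE : v * v ∈ normalizer (d.E : Set G) := centralizer_le_normalizer _
        (mem_centralizer_iff.2 fun e he => (hUM _ hvv e (d.E_le_M he)).symm)
      rw [← cj_eq_iff_mem_normalizer, hC, cj_inf, cj_cj, cj_eq_iff_mem_normalizer.2 hvvE, inf_comm]
    exact c.not_normalized ((inf_le_left.trans d.E_le).trans c.Q_le_S)
      (d.inf_ne_bot (by omega) hvE (card_cj _ _)) hHC
      (S_norm_of_half hUS hTU.ge hUC hvS hvU hvC)

end Dec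

end Cfsg.Agent.LengthEight
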