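import Cfsg.Agent.Lib.LengthEight.Growth
import Cfsg.Agent.Lib.ZStar.KleinSimple
import Cfsg.Agent.Lib.PGroup.Basic

/-!
# Groups of order 64 generated by two involutions (helper98)

* `involution_cases` : an involution of `⟨f, g⟩` is a power of `fg` commuting with `f` and `g`, or is conjugate
  to `f` or to `g`.
* `two_gen` : an involution `f` with at most `4|W|` elements centralizing it and a conjugate `g` outside the
  conjugates of `f` times `W` generate a group of order 64 together with the central subgroup `W`.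
-/

set_option autoImplicit false
set_option linter.style.haveILetI false
set_option linter.unusedSectionVars false

namespace Cfsg.Agent.LengthEight

open Subgroup
open scoped commutatorElement

variable {G : Type*} [Group G]

theorem commute_of_sq {a b : G} (ha : a * a = 1) (hb : b * b = 1) (hab : a * b * (a * b) = 1) :
    a * b = b * a := by
  have h1 : (a * b)⁻¹ = a * b := inv_eq_of_mul_eq_one_right hab
  rw [mul_inv_rev, inv_eq_of_mul_eq_one_right ha, inv_eq_of_mul_eq_one_right hb] at h1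
  exact h1.symm

/-- The involutions of a dihedral group. -/
theorem involution_cases {f g : G} (hf : orderOf f = 2) (hg : orderOf g = 2) {i : G}
    (hi : i ∈ closure ({f, g} : Set G)) (hi2 : i * i = 1) :
    ((∃ k : ℤ, i = (f * g) ^ k) ∧ i * f = f * i ∧ i * g = g * i) ∨
      (∃ d ∈ closure ({f, g} : Set G), i = d * f * d⁻¹) ∨
      (∃ d ∈ closure ({f, g} : Set G), i = d * g * d⁻¹) := by
  obtain ⟨k, rfl | rfl⟩ := (Involution.mem_closure_pair_iff hf hg).1 hi
  · left
    refine ⟨⟨k, rfl⟩, ?_, ?_⟩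
    · rw [Involution.zpow_mul_left hf hg, zpow_neg, inv_eq_of_mul_eq_one_right hi2]
    · have h1 : (f * g) ^ k * f = f * (f * g) ^ k := by
        rw [Involution.zpow_mul_left hf hg, zpow_neg, inv_eq_of_mul_eq_one_right hi2]
      have h2 : Commute ((f * g) ^ k) (f * g) := (Commute.refl _).zpow_left k
      have h3 : g = f * (f * g) := (Involution.left_mul_mul_left hf hg).symm
      have h4 : (f * g) ^ k * (f * (f * g)) = f * (f * g) * (f * g) ^ k :=
        ((show Commute ((f * g) ^ k) f from h1).mul_right h2).eq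
      rwa [← h3] at h4
  · right
    rcases Int.even_or_odd k with ⟨m, rfl⟩ | ⟨m, rfl⟩
    · refine Or.inl ⟨(f * g) ^ (-m), zpow_mem (mul_mem (subset_closure (by simp)) (subset_closure (by simp))) _, ?_⟩
      rw [Involution.conj_left_zpow hf hg]
      congr 2; ring
    · refine Or.inr ⟨(f * g) ^ (-m), zpow_mem (mul_mem (subset_closure (by simp)) (subset_closure (by simp))) _, ?_⟩
      set ρ := f * g with hρ
      have h3 : g = f * ρ := (Involution.left_mul_mul_left hf hg).symm
      calc f * ρ ^ (2 * m + 1) = f * ρ ^ m * ρ * ρ ^ m := by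
            rw [show 2 * m + 1 = m + 1 + m by ring, zpow_add, zpow_add_one]; group
        _ = (ρ ^ (-m) * f) * ρ * ρ ^ m := by
            rw [hρ, Involution.zpow_mul_left hf hg, neg_neg]
        _ = ρ ^ (-m) * (f * ρ) * ρ ^ m := by group
        _ = ρ ^ (-m) * g * (ρ ^ (-m))⁻¹ := by rw [← h3, zpow_neg, inv_inv]

variable [Finite G]

theorem eq_of_zpow_involutions {ρ a b : G} (ha : a ∈ zpowers ρ) (hb : b ∈ zpowers ρ) (ha2 : a * a = 1)
    (hb2 : b * b = 1) (ha1 : a ≠ 1) (hb1 : b ≠ 1) : a = b :=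
  KleinSimple.eq_of_orderOf_two (isOfFinOrder_of_finite _) ha hb (Involution.orderOf_of_sq ha2 ha1)
    (Involution.orderOf_of_sq hb2 hb1)

/-- A subgroup supplementing the commutator subgroup of a 2-group is everything. -/
theorem eq_of_le_sup_commutator {U K : Subgroup G} (hU : IsPGroup 2 U) (hK : K ≤ U)
    (h : U ≤ K ⊔ ⁅U, U⁆) : K = U := by
  haveI := Fact.mk Nat.prime_two
  by_contra hne
  have hK' : K.subgroupOf U ≠ ⊤ := fun e => hne (le_antisymm hK (subgroupOf_eq_top.1 e))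
  obtain ⟨M, hM, hKM⟩ := (eq_top_or_exists_le_coatom (K.subgroupOf U)).resolve_left hK'
  have hle : U ≤ M.map U.subtype := by
    refine h.trans (sup_le (fun x hx => ⟨⟨x, hK hx⟩, hKM hx, rfl⟩) ?_)
    rw [show ⁅U, U⁆ = (_root_.commutator U).map U.subtype from by
      rw [commutator_def, map_commutator, ← MonoidHom.range_eq_map, range_subtype]]
    exact map_mono (PGroup.commutator_le_of_isCoatom hU hM)
  refine hM.1 (eq_top_iff.2 fun x _ => ?_)
  obtain ⟨y, hy, e⟩ := hle x.2
  rwa [← Subtype.ext (show (y : G) = x from e)]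

theorem two_gen {U W : Subgroup G} (hU2 : IsPGroup 2 U) (hcard : Nat.card U = 64) {f g v : G}
    (hW : W ≤ U) (hWc : ∀ u ∈ U, ∀ w ∈ W, u * w = w * u) (hW4 : Nat.card W ≤ 4)
    (hf : f ∈ U) (hfsq : f * f = 1) (hfW : f ∉ W) (hg : g ∈ U)
    (hdis : ∀ u ∈ U, u * f * u⁻¹ * f⁻¹ ∈ W → u * f = f * u)
    (hcent : Nat.card ↥(U ⊓ centralizer ({f} : Set G)) = 4 * Nat.card W)
    (hcl : ∀ u ∈ U, ∀ w ∈ W, g ≠ u * f * u⁻¹ * w)
    (hgv : g = v * f * v⁻¹) (hv : v ∈ normalizer ((⁅U, U⁆ ⊔ W : Subgroup G) : Set G)) :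
    closure ({f, g} : Set G) ⊔ W = U := by
  classical
  set C := U ⊓ centralizer ({f} : Set G)
  set C' := C.subgroupOf U
  set D := ⁅U, U⁆ ⊔ W with hD
  have hcomm : ⁅U, U⁆ ≤ U := commutator_le.2 fun p hp q hq => by
    rw [commutatorElement_def]
    exact mul_mem (mul_mem (mul_mem hp hq) (inv_mem hp)) (inv_mem hq)
  have hDU : D ≤ U := sup_le hcomm hW
  -- conjugates of `f` times `W` inside `f D`
  let φ : (↥U ⧸ C') × W → D := fun p =>
    ⟨f⁻¹ * ((p.1.out : G) * f * (p.1.out : G)⁻¹) * p.2, by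
      refine mul_mem (mem_sup_left ?_) (mem_sup_right p.2.2)
      have e : f⁻¹ * ((p.1.out : G) * f * (p.1.out : G)⁻¹) = ⁅f⁻¹, (p.1.out : G)⁆ := by
        rw [commutatorElement_def, inv_inv]; group
      rw [e]
      exact commutator_mem_commutator (inv_mem hf) p.1.out.2⟩
  have hφ : Function.Injective φ := by
    rintro ⟨p, w⟩ ⟨q, w'⟩ h
    set a := (p.out : G)
    set b := (q.out : G)
    have ha : a ∈ U := p.out.2
    have hb : b ∈ U := q.out.2
    have h1 : f⁻¹ * (a * f * a⁻¹) * w = f⁻¹ * (b * f * b⁻¹) * w' := congrArg Subtype.val h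
    have h2 : a * f * a⁻¹ * w = b * f * b⁻¹ * w' := by
      calc a * f * a⁻¹ * w = f * (f⁻¹ * (a * f * a⁻¹) * w) := by group
        _ = f * (f⁻¹ * (b * f * b⁻¹) * w') := by rw [h1]
        _ = b * f * b⁻¹ * w' := by group
    have hc : b⁻¹ * a ∈ U := mul_mem (inv_mem hb) ha
    have hww : (w' : G) * (w : G)⁻¹ ∈ W := W.mul_mem w'.2 (W.inv_mem w.2)
    have h3 : (b⁻¹ * a) * f * (b⁻¹ * a)⁻¹ * f⁻¹ ∈ W := by
      have e : (b⁻¹ * a) * f * (b⁻¹ * a)⁻¹ * f⁻¹ = f * ((w' : G) * (w : G)⁻¹) * f⁻¹ := by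
        have hb' := hWc b hb _ hww
        calc (b⁻¹ * a) * f * (b⁻¹ * a)⁻¹ * f⁻¹ = b⁻¹ * (a * f * a⁻¹ * w) * (w : G)⁻¹ * b * f⁻¹ := by group
          _ = b⁻¹ * (b * f * b⁻¹ * w') * (w : G)⁻¹ * b * f⁻¹ := by rw [h2]
          _ = f * b⁻¹ * ((w' : G) * (w : G)⁻¹ * b) * f⁻¹ := by group
          _ = f * b⁻¹ * (b * ((w' : G) * (w : G)⁻¹)) * f⁻¹ := by rw [hb']
          _ = f * ((w' : G) * (w : G)⁻¹) * f⁻¹ := by group
      rw [e, hWc f hf _ hww, mul_inv_cancel_right]
      exact hww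
    have h4 := hdis _ hc h3
    have hpq : q = p := by
      rw [← QuotientGroup.out_eq' p, ← QuotientGroup.out_eq' q, QuotientGroup.eq]
      refine mem_subgroupOf.2 ?_
      show b⁻¹ * a ∈ C
      exact ⟨hc, mem_centralizer_singleton_iff.2 h4⟩
    subst hpq
    exact Prod.ext rfl (Subtype.ext (mul_left_cancel h2))
  have hidx : Nat.card (↥U ⧸ C') * Nat.card W = 16 := by
    have h1 := C'.card_mul_index
    rw [Nat.card_congr (subgroupOfEquivOfLe inf_le_left).toEquiv, hcent, hcard, index_eq_card] at h1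
    nlinarith
  have h16 : 16 ≤ Nat.card D := by
    have := Nat.card_le_card_of_injective φ hφ
    rw [Nat.card_prod, hidx] at this
    exact this
  have hfc : ¬ ∀ u ∈ U, u * f = f * u := by
    intro h
    have e : C = U := inf_eq_left.2 fun u hu => mem_centralizer_singleton_iff.2 (h u hu)
    rw [e, hcard] at hcent
    omega
  have h32 : ¬ 32 ≤ Nat.card D := by
    intro hle
    obtain ⟨b, hb⟩ : ∃ b ∈ U, zpowers b ⊔ D = U := by
      by_cases he : D = U
      · exact ⟨1, one_mem _, by rw [zpowers_one_eq_bot, bot_sup_eq, he]⟩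
      obtain ⟨b, hb, hbD⟩ := SetLike.exists_of_lt (lt_of_le_of_ne hDU he)
      refine ⟨b, hb, eq_of_lt_of_half (lt_of_le_of_ne le_sup_right fun e => hbD ?_)
        (sup_le (zpowers_le.2 hb) hDU) (by omega)⟩
      exact e.ge (mem_sup_left (mem_zpowers b))
    have hK := eq_of_le_sup_commutator hU2 (sup_le (zpowers_le.2 hb.1) hW)
      (by rw [sup_assoc, sup_comm W, hb.2])
    refine hfc fun u hu => ?_
    have hn : W ≤ normalizer ((zpowers b : Subgroup G) : Set G) := le_trans (fun w hw => mem_centralizer_iff.2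
      fun x hx => hWc x ((zpowers_le.2 hb.1) hx) w hw) (centralizer_le_normalizer _)
    have hf' := hK.ge hf
    have hu' := hK.ge hu
    rw [← SetLike.mem_coe, coe_mul_of_right_le_normalizer_left _ W hn] at hf' hu'
    obtain ⟨x, hx, w, hw, rfl⟩ := hf'
    obtain ⟨y, hy, w', hw', rfl⟩ := hu'
    obtain ⟨i, rfl⟩ := mem_zpowers_iff.1 hx
    obtain ⟨j, rfl⟩ := mem_zpowers_iff.1 hy
    have c1 : Commute (b ^ j) (b ^ i) := (Commute.refl b).zpow_zpow j i
    have c2 : Commute (b ^ j) w := hWc _ (zpow_mem hb.1 j) w hw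
    have c3 : Commute w' (b ^ i) := (hWc _ (zpow_mem hb.1 i) w' hw').symm
    have c4 : Commute w' w := hWc _ (hW hw') w hw
    exact ((c1.mul_right c2).mul_left (c3.mul_right c4)).eq
  have hD16 : Nat.card D = 16 := by
    haveI := Fact.mk Nat.prime_two
    obtain ⟨m, hm⟩ := IsPGroup.iff_card.1 (hU2.to_le hDU)
    rw [hm] at h16 h32 ⊢
    have h4 : 3 < m := (Nat.pow_lt_pow_iff_right (a := 2) (by norm_num)).1 (by omega)
    have h5 : m < 5 := (Nat.pow_lt_pow_iff_right (a := 2) (by norm_num)).1 (by omega)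
    obtain rfl : m = 4 := by omega
    norm_num
  have hsurj : Function.Surjective φ := by
    refine (hφ.bijective_of_nat_card_le ?_).2
    rw [Nat.card_prod, hidx, hD16]
  have hfD : f ∉ D := by
    intro h
    obtain ⟨⟨p, w⟩, hp⟩ := hsurj ⟨f⁻¹, inv_mem h⟩
    have e : f⁻¹ * ((p.out : G) * f * (p.out : G)⁻¹) * w = f⁻¹ := congrArg Subtype.val hp
    set a := (p.out : G)
    have ha : a ∈ U := p.out.2
    have e2 : a * f * a⁻¹ = (w : G)⁻¹ := by
      calc a * f * a⁻¹ = f * (f⁻¹ * (a * f * a⁻¹) * w) * (w : G)⁻¹ := by group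
        _ = (w : G)⁻¹ := by rw [e, mul_inv_cancel, one_mul]
    refine hfW ?_
    have : f = (w : G)⁻¹ := by
      calc f = a⁻¹ * (a * f * a⁻¹) * a := by group
        _ = a⁻¹ * ((w : G)⁻¹ * a) := by rw [e2]; group
        _ = a⁻¹ * (a * (w : G)⁻¹) := by rw [hWc a ha _ (W.inv_mem w.2)]
        _ = (w : G)⁻¹ := by group
    rw [this]; exact W.inv_mem w.2
  have hgD : g ∉ D := by
    rw [hgv]
    exact fun h => hfD ((mem_normalizer_iff.1 hv f).2 h)
  have hfgD : f⁻¹ * g ∉ D := by
    intro h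
    obtain ⟨⟨p, w⟩, hp⟩ := hsurj ⟨_, h⟩
    refine hcl (p.out : G) p.out.2 w w.2 ?_
    have e : f⁻¹ * ((p.out : G) * f * (p.out : G)⁻¹) * w = f⁻¹ * g := congrArg Subtype.val hp
    rw [mul_assoc, mul_right_inj] at e
    exact e.symm
  set L := closure ({f, g} : Set G) ⊔ D
  have hLU : L ≤ U := sup_le ((closure_le _).2 (Set.insert_subset hf (Set.singleton_subset_iff.2 hg))) hDU
  have hlt1 : D < D ⊔ zpowers f :=
    lt_of_le_of_ne le_sup_left fun e => hfD (e.ge (mem_sup_right (mem_zpowers f)))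
  have h32' : 32 ≤ Nat.card ↥(D ⊔ zpowers f) := by
    haveI := Fact.mk Nat.prime_two
    obtain ⟨m, hm⟩ := IsPGroup.iff_card.1 (hU2.to_le (sup_le hDU (zpowers_le.2 hf)))
    have hlt := (Set.toFinite _).card_lt_card hlt1
    change Nat.card D < Nat.card ↥(D ⊔ zpowers f) at hlt
    rw [hD16, hm] at hlt
    rw [hm]
    have : 4 < m := (Nat.pow_lt_pow_iff_right (a := 2) (by norm_num)).1 (by omega)
    exact le_trans (show 32 ≤ 2 ^ 5 by norm_num) (Nat.pow_le_pow_right two_pos this)
  have hnD : zpowers f ≤ normalizer (D : Set G) := by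
    rw [zpowers_le, ← cj_eq_iff_mem_normalizer]
    refine eq_of_le_of_card_ge (fun x hx => ?_) (card_cj f D).ge
    have hx' := mem_cj.1 hx
    rw [show x = ⁅f, f⁻¹ * x * f⁆ * (f⁻¹ * x * f) by rw [commutatorElement_def]; group]
    exact mul_mem (mem_sup_left (commutator_mem_commutator hf (hDU hx'))) hx'
  have hltL : D ⊔ zpowers f < L := by
    refine lt_of_le_of_ne (sup_le le_sup_right (zpowers_le.2 (mem_sup_left (subset_closure (by simp)))))
      fun e => ?_
    have hg' : g ∈ D ⊔ zpowers f := e.ge (mem_sup_left (subset_closure (by simp)))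
    rw [← SetLike.mem_coe, coe_mul_of_right_le_normalizer_left D _ hnD] at hg'
    obtain ⟨x, hx, y, hy, hxy⟩ := hg'
    change x * y = g at hxy
    obtain ⟨i, rfl⟩ := mem_zpowers_iff.1 hy
    have hfz : f ^ (2 : ℤ) = 1 := by rw [zpow_two, hfsq]
    rcases Int.even_or_odd i with ⟨j, rfl⟩ | ⟨j, rfl⟩
    · rw [← two_mul, zpow_mul, hfz, one_zpow, mul_one] at hxy
      exact hgD (hxy ▸ hx)
    · rw [zpow_add_one, zpow_mul, hfz, one_zpow, one_mul] at hxy
      refine hfgD ?_
      rw [← hxy, ← mul_assoc]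
      have := (mem_normalizer_iff.1 (hnD (inv_mem (mem_zpowers f))) x).1 hx
      rwa [inv_inv] at this
  have hLeq : L = U := eq_of_lt_of_half hltL hLU (by omega)
  refine eq_of_le_sup_commutator hU2
    (sup_le ((closure_le _).2 (Set.insert_subset hf (Set.singleton_subset_iff.2 hg))) hW) ?_
  refine hLeq.ge.trans (sup_le (le_sup_left.trans le_sup_left) ?_)
  exact sup_le le_sup_right (le_sup_right.trans le_sup_left)

end Cfsg.Agent.LengthEight
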