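import Cfsg.Agent.Lib.TwoTransfer.CenterInvolution
import Cfsg.Agent.Lib.TwoFusion.Transfer

/-!
# Transfer into a subgroup of index two of a Sylow 2-subgroup (helper98)

* `false_of_controlled` : in a nonabelian simple group no element outside an index-two subgroup `M` of a
  Sylow 2-subgroup `S` has its conjugated powers in `S` outside `M` exactly for odd exponents.
* `false_of_fixed` : the same from the conjugates `g⁻¹ e g` with `g⁻¹ P₀ g ≤ S` only, for a 2-subgroup `P₀`
  containing and centralizing `e`, when the conjugated even powers lie in `M`.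
-/

set_option autoImplicit false
set_option linter.style.haveILetI false

namespace Cfsg.Agent.LengthEight

open Subgroup MulAction

theorem one_ne_ofAdd : (1 : Multiplicative (ZMod 2)) ≠ Multiplicative.ofAdd 1 := by decide

theorem sq_two : ∀ a : Multiplicative (ZMod 2), a ^ 2 = 1 := by decide

variable {G : Type*} [Group G] [Finite G]

/-- The homomorphism onto a group of order two with kernel `M`. -/
noncomputable def sign2 {X : Type*} [Group X] (M : Subgroup X) (hM : M.index = 2) :
    X →* Multiplicative (ZMod 2) := by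
  classical
  exact
  { toFun := fun a => if a ∈ M then 1 else Multiplicative.ofAdd 1
    map_one' := if_pos M.one_mem
    map_mul' := fun a b => by
      have h := Subgroup.mul_mem_iff_of_index_two hM (a := a) (b := b)
      by_cases ha : a ∈ M <;> by_cases hb : b ∈ M <;> simp only [h, ha, hb, if_true, if_false, iff_self,
        iff_true, iff_false, not_true, not_false_iff, true_iff, false_iff, one_mul, mul_one] <;> rfl }

theorem sign2_mem {X : Type*} [Group X] {M : Subgroup X} (hM : M.index = 2) {a : X} (ha : a ∈ M) :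
    sign2 M hM a = 1 := by
  classical
  exact if_pos ha

theorem sign2_not {X : Type*} [Group X] {M : Subgroup X} (hM : M.index = 2) {a : X} (ha : a ∉ M) :
    sign2 M hM a = Multiplicative.ofAdd 1 := by
  classical
  exact if_neg ha

theorem ofAdd_one_pow_odd {k : ℕ} (hk : Odd k) :
    (Multiplicative.ofAdd (1 : ZMod 2)) ^ k = Multiplicative.ofAdd 1 := by
  obtain ⟨j, rfl⟩ := hk
  rw [pow_succ, pow_mul, sq_two, one_pow, one_mul]

theorem transfer_trivial [IsSimpleGroup G] (hna : ¬ IsMulCommutative G) {H : Subgroup G} {A : Type*}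
    [CommGroup A] (φ : H →* A) (g : G) : MonoidHom.transfer φ g = 1 := by
  rcases (inferInstance : (MonoidHom.transfer φ).ker.Normal).eq_bot_or_eq_top with e | e
  · exfalso
    refine hna ⟨⟨fun a b => (MonoidHom.ker_eq_bot_iff _).1 e ?_⟩⟩
    rw [map_mul, map_mul, mul_comm]
  · exact MonoidHom.mem_ker.1 (e ▸ mem_top g)

theorem false_of_controlled [IsSimpleGroup G] (hna : ¬ IsMulCommutative G) (S : Sylow 2 G)
    {M : Subgroup (S : Subgroup G)} (hM : M.index = 2) {e : (S : Subgroup G)} (he : e ∉ M)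
    (key : ∀ (k : ℕ) (a : G) (hm : a * (e : G) ^ k * a⁻¹ ∈ (S : Subgroup G)),
      (⟨_, hm⟩ : (S : Subgroup G)) ∈ M ↔ Even k) : False := by
  haveI := Fact.mk Nat.prime_two
  have h := TwoFusion.transfer_eq_pow_of_controlled (sign2 M hM) e (fun k a hm => by
    rw [sign2_not hM he]
    by_cases hk : Even k
    · rw [sign2_mem hM ((key k a hm).2 hk)]
      obtain ⟨j, rfl⟩ := hk
      rw [← two_mul, pow_mul, sq_two, one_pow]
    · rw [sign2_not hM fun hh => hk ((key k a hm).1 hh), ofAdd_one_pow_odd (Nat.not_even_iff_odd.1 hk)])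
  rw [transfer_trivial hna, sign2_not hM he,
    ofAdd_one_pow_odd (Nat.not_even_iff_odd.1 fun he => S.not_dvd_index (even_iff_two_dvd.1 he))] at h
  exact one_ne_ofAdd h

/-- The transfer as a product over cosets, when conjugated even powers are killed. -/
theorem prod_fixed_eq_transfer' {A : Type*} [CommGroup A] {S : Subgroup G} (ψ : S →* A) (z : G)
    {n : ℕ} (hz : z ^ 2 ^ n = 1) (hpow : ∀ (g : G) (k : ℕ), Even k → ∀ h : g⁻¹ * z ^ k * g ∈ S, ψ ⟨_, h⟩ = 1)
    [Fintype (G ⧸ S)] (f : G ⧸ S → A) (hf1 : ∀ x, ¬ z • x = x → f x = 1)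
    (hf : ∀ (g : G) (h : g⁻¹ * z * g ∈ S), f (g : G ⧸ S) = ψ ⟨_, h⟩) :
    MonoidHom.transfer ψ z = ∏ x, f x := by
  classical
  haveI : Fintype (Quotient (orbitRel (zpowers z) (G ⧸ S))) := Fintype.ofFinite _
  rw [MonoidHom.transfer_eq_prod_quotient_orbitRel_zpowers_quot,
    ← Finset.prod_fiberwise_of_maps_to (s := Finset.univ)
      (g := fun x => (⟦x⟧ : Quotient (orbitRel (zpowers z) (G ⧸ S)))) (t := Finset.univ)
      (fun x _ => Finset.mem_univ _) f]
  refine Finset.prod_congr rfl fun q _ => ?_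
  have hfib : ∀ x : G ⧸ S, (⟦x⟧ : Quotient (orbitRel (zpowers z) (G ⧸ S))) = q →
      ∃ s ∈ zpowers z, s • q.out = x := by
    intro x hx
    rw [← q.out_eq] at hx
    obtain ⟨s, hs⟩ := Quotient.exact hx
    exact ⟨s, s.2, hs⟩
  have hd : Function.minimalPeriod (z • ·) q.out ∣ 2 ^ n := by
    rw [← MulAction.pow_smul_eq_iff_minimalPeriod_dvd, hz, one_smul]
  obtain ⟨i, -, hi⟩ := (Nat.dvd_prime_pow Nat.prime_two).mp hd
  rcases i with _ | i
  · rw [pow_zero] at hi
    have hfix : z • q.out = q.out := Function.minimalPeriod_eq_one_iff_isFixedPt.mp hi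
    have hall : ∀ s ∈ zpowers z, s • q.out = q.out := fun s hs =>
      MulAction.mem_stabilizer_iff.mp (zpowers_le.mpr (MulAction.mem_stabilizer_iff.mpr hfix) hs)
    rw [Finset.prod_eq_single_of_mem q.out (by simp) (fun x hx hne => absurd (by
      obtain ⟨s, hs, hsx⟩ := hfib x (Finset.mem_filter.mp hx).2
      rw [← hsx, hall s hs]) hne)]
    have hout : ((q.out.out : G) : G ⧸ S) = q.out := Quotient.out_eq q.out
    have hm : q.out.out⁻¹ * z * q.out.out ∈ S := (TwoTransfer.mk_fixed_iff z _).mp (by rw [hout]; exact hfix)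
    have e := hf _ hm
    rw [hout] at e
    rw [e]
    congr 1
    apply Subtype.ext
    simp only [hi, pow_one]
  · have hev : Even (Function.minimalPeriod (z • ·) q.out) := by
      rw [hi, pow_succ]; exact even_two.mul_left _
    have hnfix : ¬ z • q.out = q.out := fun h => by
      rw [Function.minimalPeriod_eq_one_iff_isFixedPt.mpr h] at hev
      exact absurd hev (by decide)
    rw [hpow _ _ hev]
    refine (Finset.prod_eq_one fun x hx => hf1 x ?_).symm
    obtain ⟨s, hs, hsx⟩ := hfib x (Finset.mem_filter.mp hx).2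
    obtain ⟨k, rfl⟩ := mem_zpowers_iff.mp hs
    intro hx'
    apply hnfix
    rw [← hsx, ← mul_smul, ← ((Commute.refl z).zpow_left k).eq, mul_smul] at hx'
    exact smul_left_cancel _ hx'

theorem false_of_fixed [IsSimpleGroup G] (hna : ¬ IsMulCommutative G) (S : Sylow 2 G)
    {M : Subgroup (S : Subgroup G)} (hM : M.index = 2) {e : G} {n : ℕ} (he2 : e ^ 2 ^ n = 1)
    {P₀ : Subgroup G} (hP₀ : IsPGroup 2 P₀) (hePc : e ∈ P₀) (hcomm : ∀ p ∈ P₀, p * e = e * p)
    (hpow : ∀ (g : G) (k : ℕ), Even k → ∀ h : g⁻¹ * e ^ k * g ∈ (S : Subgroup G), (⟨_, h⟩ : (S : Subgroup G)) ∈ M)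
    (hfix : ∀ g : G, (∀ p ∈ P₀, g⁻¹ * p * g ∈ (S : Subgroup G)) → ∀ h : g⁻¹ * e * g ∈ (S : Subgroup G),
      (⟨_, h⟩ : (S : Subgroup G)) ∉ M) : False := by
  classical
  haveI := Fact.mk Nat.prime_two
  haveI : Fintype (G ⧸ (S : Subgroup G)) := Fintype.ofFinite _
  set ψ := sign2 M hM
  let f : G ⧸ (S : Subgroup G) → Multiplicative (ZMod 2) := fun x =>
    if h : x.out⁻¹ * e * x.out ∈ (S : Subgroup G) then ψ ⟨_, h⟩ else 1
  have hf1 : ∀ x, ¬ e • x = x → f x = 1 := by
    intro x hx
    apply dif_neg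
    intro h
    exact hx (by simpa [QuotientGroup.out_eq'] using (TwoTransfer.mk_fixed_iff e x.out).mpr h)
  have hf : ∀ (g : G) (h : g⁻¹ * e * g ∈ (S : Subgroup G)), f (g : G ⧸ (S : Subgroup G)) = ψ ⟨_, h⟩ := by
    intro g h
    obtain ⟨u, hu⟩ := QuotientGroup.mk_out_eq_mul (S : Subgroup G) g
    have h'' : (g : G ⧸ (S : Subgroup G)).out⁻¹ * e * (g : G ⧸ (S : Subgroup G)).out ∈ (S : Subgroup G) := by
      have h1 := (S : Subgroup G).mul_mem ((S : Subgroup G).mul_mem ((S : Subgroup G).inv_mem u.2) h) u.2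
      rw [hu]
      simpa [mul_assoc] using h1
    simp only [f]
    rw [dif_pos h'']
    have : (⟨_, h''⟩ : (S : Subgroup G)) = u⁻¹ * ⟨_, h⟩ * u := by
      apply Subtype.ext
      show (g : G ⧸ (S : Subgroup G)).out⁻¹ * e * (g : G ⧸ (S : Subgroup G)).out = (u : G)⁻¹ * (g⁻¹ * e * g) * u
      rw [hu]; group
    rw [this, map_mul, map_mul, map_inv, mul_comm, mul_inv_cancel_left]
  have hf2 : ∀ x, f x ^ 2 = 1 := fun x => by
    exact sq_two _
  have hfinv : ∀ (p : P₀) (x : G ⧸ (S : Subgroup G)), f (p • x) = f x := by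
    intro p x
    induction x using QuotientGroup.induction_on with
    | H g =>
      have hs : (p : G) * e = e * p := hcomm p p.2
      have e' : ((p : G) * g)⁻¹ * e * ((p : G) * g) = g⁻¹ * e * g := by
        calc ((p : G) * g)⁻¹ * e * ((p : G) * g) = g⁻¹ * (p : G)⁻¹ * (e * p) * g := by group
          _ = g⁻¹ * (p : G)⁻¹ * ((p : G) * e) * g := by rw [hs]
          _ = _ := by group
      show f (((p : G) * g : G) : G ⧸ (S : Subgroup G)) = f (g : G ⧸ (S : Subgroup G))
      by_cases h : g⁻¹ * e * g ∈ (S : Subgroup G)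
      · rw [hf g h, hf _ (e'.symm ▸ h)]
        congr 1
        exact Subtype.ext e'
      · rw [hf1 _ (fun hh => h ((TwoTransfer.mk_fixed_iff _ _).mp hh)),
          hf1 _ (fun hh => h (e' ▸ (TwoTransfer.mk_fixed_iff _ _).mp hh))]
  have htr := prod_fixed_eq_transfer' ψ e he2 (fun g k hk h => sign2_mem hM (hpow g k hk h)) f hf1 hf
  rw [transfer_trivial hna, TwoTransfer.prod_orbit_even (P := P₀) hP₀ f hfinv hf2,
    Finset.prod_congr rfl (g := fun _ => Multiplicative.ofAdd (1 : ZMod 2)) (fun x hx => ?_),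
    Finset.prod_const] at htr
  · set m := (Finset.univ.filter (· ∈ fixedPoints P₀ (G ⧸ (S : Subgroup G)))).card with hm
    have hodd : Odd m := by
      have h1 := IsPGroup.card_modEq_card_fixedPoints (p := 2) hP₀ (G ⧸ (S : Subgroup G))
      have h2 : Nat.card (fixedPoints P₀ (G ⧸ (S : Subgroup G))) = m := by
        rw [hm, Nat.card_eq_fintype_card]
        exact Fintype.card_of_subtype _ (fun x => by simp)
      have h3 : ¬ 2 ∣ Nat.card (G ⧸ (S : Subgroup G)) := S.not_dvd_index
      rw [h2] at h1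
      have h1' : Nat.card (G ⧸ (S : Subgroup G)) % 2 = m % 2 := h1
      rw [Nat.odd_iff]
      omega
    rw [ofAdd_one_pow_odd hodd] at htr
    exact one_ne_ofAdd htr
  · have hxf := (Finset.mem_filter.1 hx).2
    induction x using QuotientGroup.induction_on with
    | H g =>
      have hP : ∀ p ∈ P₀, g⁻¹ * p * g ∈ (S : Subgroup G) := fun p hp =>
        (TwoTransfer.mk_fixed_iff p g).1 (hxf ⟨p, hp⟩)
      have he := hP e hePc
      rw [hf g he]
      exact sign2_not hM (hfix g hP he)

end Cfsg.Agent.LengthEight
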