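import Cfsg.Agent.Lib.LengthEight.Facts
import Cfsg.Agent.Lib.LengthEight.Large
import Cfsg.Agent.Lib.LengthEight.Pair
import Cfsg.Agent.Lib.LengthEight.TransferTwo

/-!
# Subgroups of index two in `S` (helper98)

`Dec.exists_involution_outside` : a subgroup `U` of index two containing `T`, whose involutions are central or
conjugate into `Q \ M`, misses an involution of `S`.
-/

set_option autoImplicit false
set_option linter.style.haveILetI false
set_option linter.unusedSectionVars false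

namespace Cfsg.Agent.LengthEight

open Subgroup

variable {G : Type*} [Group G] [Finite G]

theorem S_le_normalizer_half {D : Setting G} {U : Subgroup G} (hU : U ≤ D.S) (h64 : Nat.card U = 64) :
    (D.S : Subgroup G) ≤ normalizer (U : Set G) := by
  haveI := Fact.mk Nat.prime_two
  have hlt := SubnormalizerCount.lt_inf_normalizer D.S.2 (show U < D.S from lt_of_le_of_ne hU fun e => by
    rw [e, D.card_S] at h64; omega)
  have := eq_of_lt_of_half hlt inf_le_left (by rw [D.card_S, h64]; norm_num)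
  exact this ▸ inf_le_right

theorem mul_mem_half {D : Setting G} {U : Subgroup G} (hU : U ≤ D.S) (h64 : Nat.card U = 64) {x y : G}
    (hx : x ∈ (D.S : Subgroup G)) (hy : y ∈ (D.S : Subgroup G)) (hxU : x ∉ U) (hyU : y ∉ U) : x * y ∈ U :=
  mul_mem_of_half hU (by rw [D.card_S, h64]; norm_num) hx hy hxU hyU

/-- The subgroup of a Sylow subgroup of order 128 given by a subgroup of order 64 has index two. -/
theorem index_subgroupOf_half {D : Setting G} {U : Subgroup G} (hU : U ≤ D.S) (h64 : Nat.card U = 64) :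
    (U.subgroupOf (D.S : Subgroup G)).index = 2 := by
  have h := (U.subgroupOf (D.S : Subgroup G)).card_mul_index
  rw [Nat.card_congr (subgroupOfEquivOfLe hU).toEquiv, h64, D.card_S] at h
  omega

namespace Dec

variable [IsSimpleGroup G] {D : Setting G} {c : Cfg D} (d : Dec c)
include d

theorem H_comm_E {e h : G} (he : e ∈ d.E) (hh : h ∈ c.H) : h * e = e * h := by
  have hle : c.H ≤ centralizer ({e} : Set G) :=
    d.gen _ (fun q hq => mem_centralizer_singleton_iff.2 (d.E_comm_Q d.E_comm he hq).symm)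
      (mem_centralizer_singleton_iff.2 (d.E_a e he).symm)
      (mem_centralizer_singleton_iff.2 (d.E_y e he).symm)
  exact mem_centralizer_singleton_iff.1 (hle hh)

theorem not_conj_z {e : G} (he : e ∈ d.E) (g : G) : g * e * g⁻¹ ≠ D.z := by
  intro heq
  refine c.loc.notTwo ?_
  have hle : cj g c.H ≤ D.S := fun x hx => D.mem_S_of_commute (by
    have h := d.H_comm_E he (mem_cj.1 hx)
    rw [← heq]
    calc x * (g * e * g⁻¹) = g * (g⁻¹ * x * g * e) * g⁻¹ := by group
      _ = g * (e * (g⁻¹ * x * g)) * g⁻¹ := by rw [h]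
      _ = g * e * g⁻¹ * x := by group)
  exact (D.S.2.to_le hle).of_equiv (c.H.equivMapOfInjective (MulAut.conj g).toMonoidHom (MulAut.conj g).injective).symm

theorem sq_Q {q : G} (hq : q ∈ c.Q) : q * q ∈ d.E := by
  have hab := d.E_comm
  obtain ⟨e, he, h⟩ := d.dec q hq
  have key : ∀ n ∈ c.Q, n * n = 1 → q = n * e → q * q ∈ d.E := by
    intro n hn hn2 hq'
    rw [hq', show n * e * (n * e) = n * (e * n) * e by group, d.E_comm_Q hab he hn,
      show n * (n * e) * e = (n * n) * (e * e) by group, hn2, one_mul]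
    exact mul_mem he he
  rcases h with h | h | h | h
  · rw [h]; exact mul_mem he he
  · exact key _ d.n₀_Q d.n₀_sq h
  · exact key _ d.f_Q d.f_sq h
  · refine key _ (mul_mem d.f_Q d.n₀_Q) ?_ h
    calc d.f * d.n₀ * (d.f * d.n₀) = d.f * (d.n₀ * d.f) * d.n₀ := by group
      _ = (d.f * d.f) * (d.n₀ * d.n₀) := by rw [d.f_comm d.n₀_Q]; group
      _ = 1 := by rw [d.f_sq, d.n₀_sq, one_mul]

theorem f_not_Qu : d.f ∉ cj d.u c.Q := by
  intro hf
  have hc := d.a_cent d.f d.f_Q hf
  have : d.a * d.f * d.a⁻¹ = d.f := by rw [← hc]; group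
  exact d.n₀_ne (mul_eq_left.1 (d.afa.symm.trans this))

/-- A central involution of a subgroup containing `T` lies in `⟨n₀⟩ × E`. -/
theorem central_mem {U : Subgroup G} (hTU : c.T ≤ U) {i : G} (hi : ∀ u ∈ U, u * i = i * u) :
    i ∈ c.Q ∧ i ∈ cj d.u c.Q :=
  d.mem_M_of_central d.E_comm fun t ht => hi t (hTU ht)

theorem exists_involution_outside {U : Subgroup G} (hUS : U ≤ D.S) (h64 : Nat.card U = 64) (hTU : c.T ≤ U)
    (hinv : ∀ i ∈ U, i * i = 1 → i ≠ 1 → (∀ u ∈ U, u * i = i * u) ∨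
      ∃ s ∈ (D.S : Subgroup G), ∃ f' ∈ c.Q, f' ∉ cj d.u c.Q ∧ i = s * f' * s⁻¹)
    (hcen : ∀ i ∈ U, i * i = 1 → i ≠ 1 → i ≠ D.z → (∀ u ∈ U, u * i = i * u) →
      (∀ g : G, g * i * g⁻¹ ≠ D.z) ∧ ∀ v ∈ (D.S : Subgroup G), v ∉ U → v * i ≠ i * v) :
    ∃ x ∈ (D.S : Subgroup G), x ∉ U ∧ x * x = 1 := by
  classical
  haveI := Fact.mk Nat.prime_two
  by_contra! hno
  have hab := d.E_comm
  have hUn := S_le_normalizer_half hUS h64
  obtain ⟨x₁, hx₁S, hx₁U⟩ := SetLike.exists_of_lt (show U < D.S from lt_of_le_of_ne hUS fun e => by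
    rw [e, D.card_S] at h64; omega)
  obtain ⟨x, ⟨hxS, hxU⟩, hmin⟩ := Set.exists_min_image {x : G | x ∈ (D.S : Subgroup G) ∧ x ∉ U} orderOf
    (Set.toFinite _) ⟨x₁, hx₁S, hx₁U⟩
  obtain ⟨m, hm⟩ := IsPGroup.iff_orderOf.1 D.S.2 ⟨x, hxS⟩
  have hm' : orderOf x = 2 ^ m := (orderOf_coe (⟨x, hxS⟩ : (D.S : Subgroup G))).trans hm
  obtain ⟨n, rfl⟩ : ∃ n, m = n + 2 := by
    refine ⟨m - 2, ?_⟩
    by_contra hlt
    have h2 : m < 2 := by omega
    refine hno x hxS hxU ?_
    rw [← pow_two, ← orderOf_dvd_iff_pow_eq_one, hm']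
    exact (pow_dvd_pow 2 (by omega : m ≤ 1)).trans (by norm_num)
  have hx2 : x * x ∈ U := mul_mem_half hUS h64 hxS hxS hxU hxU
  -- the square of a conjugate of a small element
  have htop : ∀ y ∈ (D.S : Subgroup G), y ∉ U → orderOf y = 2 ^ (n + 2) → y ^ 2 ^ (n + 1) = D.z := by
    intro y hy hyU hyo
    set i := y ^ 2 ^ (n + 1)
    have hi2 : i * i = 1 := by
      show y ^ 2 ^ (n + 1) * y ^ 2 ^ (n + 1) = 1
      rw [← pow_add, ← two_mul, ← pow_succ', ← hyo, pow_orderOf_eq_one]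
    have hi1 : i ≠ 1 := fun e => by
      have := Nat.le_of_dvd (by positivity) (orderOf_dvd_of_pow_eq_one e)
      rw [hyo, pow_succ _ (n + 1)] at this
      have : 0 < 2 ^ (n + 1) := by positivity
      omega
    have hiU : i ∈ U := by
      show y ^ 2 ^ (n + 1) ∈ U
      rw [pow_succ', pow_mul, pow_two]
      exact pow_mem (mul_mem_half hUS h64 hy hy hyU hyU) _
    have hyi : y * i = i * y := (Commute.self_pow y _).eq
    by_contra hiz
    rcases hinv i hiU hi2 hi1 with h | ⟨s, hs, f', hf', hf'u, he⟩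
    · exact (hcen i hiU hi2 hi1 hiz h).2 y hy hyU hyi
    · have hQ : s⁻¹ * y * s ∈ c.Q := by
        refine d.cent_S hab hf' hf'u (mul_mem (mul_mem (inv_mem hs) hy) hs) ?_
        calc s⁻¹ * y * s * f' = s⁻¹ * (y * (s * f' * s⁻¹)) * s := by group
          _ = s⁻¹ * ((s * f' * s⁻¹) * y) * s := by rw [← he, hyi]
          _ = f' * (s⁻¹ * y * s) := by group
      apply hyU
      have := (mem_normalizer_iff.1 (hUn hs) _).1 (hTU (c.Q_le_T hQ))
      simpa [mul_assoc] using this
  have hMidx := index_subgroupOf_half hUS h64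
  refine false_of_controlled D.na D.S hMidx (e := ⟨x, hxS⟩) (fun h => hxU h) fun k a hmem => ?_
  show a * x ^ k * a⁻¹ ∈ U ↔ Even k
  constructor
  · intro hU'
    by_contra hk
    rw [Nat.not_even_iff_odd] at hk
    set y := x ^ k
    have hyS : y ∈ (D.S : Subgroup G) := pow_mem hxS k
    have hyU : y ∉ U := by
      obtain ⟨j, hj⟩ := hk
      intro h
      change x ^ k ∈ U at h
      rw [hj, pow_succ, pow_mul, pow_two] at h
      exact hxU ((U.mul_mem_cancel_left (pow_mem hx2 j)).1 h)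
    have hyo : orderOf y = 2 ^ (n + 2) := by
      show orderOf (x ^ k) = _
      rw [Nat.Coprime.orderOf_pow (by rw [hm']; exact Nat.Coprime.pow_left _ (Nat.coprime_two_left.2 hk)), hm']
    set m' := a * y * a⁻¹
    have hi : m' ^ 2 ^ (n + 1) = a * D.z * a⁻¹ := by
      show (a * y * a⁻¹) ^ 2 ^ (n + 1) = _
      rw [conj_pow, htop y hyS hyU hyo]
    set i := a * D.z * a⁻¹
    have hi2 : i * i = 1 := by
      calc i * i = a * (D.z * D.z) * a⁻¹ := by simp only [i]; group
        _ = 1 := by rw [D.z_mul_self]; group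
    have hi1 : i ≠ 1 := fun e => D.z_ne_one (conj_eq_one_iff.1 e)
    have hiU : i ∈ U := hi ▸ pow_mem hU' _
    have hmi : m' * i = i * m' := by rw [← hi]; exact (Commute.self_pow m' _).eq
    rcases hinv i hiU hi2 hi1 with h | ⟨s, hs, f', hf', hf'u, he⟩
    · by_cases hiz : i = D.z
      · have haS : a ∈ (D.S : Subgroup G) := D.mem_S_of_commute (by
          calc a * D.z = i * a := by simp only [i]; group
            _ = D.z * a := by rw [hiz])
        exact hyU ((mem_normalizer_iff.1 (hUn haS) y).2 hU')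
      · refine (hcen i hiU hi2 hi1 hiz h).1 a⁻¹ ?_
        simp only [i]; group
    · have hQ : s⁻¹ * m' * s ∈ c.Q := by
        refine d.cent_S hab hf' hf'u (mul_mem (mul_mem (inv_mem hs) (hUS hU')) hs) ?_
        calc s⁻¹ * m' * s * f' = s⁻¹ * (m' * (s * f' * s⁻¹)) * s := by group
          _ = s⁻¹ * ((s * f' * s⁻¹) * m') * s := by rw [← he, hmi]
          _ = f' * (s⁻¹ * m' * s) := by group
      refine hf'u (d.E_Qu ?_)
      have e2 : f' = (s⁻¹ * m' * s) ^ 2 ^ (n + 1) := by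
        calc f' = s⁻¹ * (s * f' * s⁻¹) * s⁻¹⁻¹ := by group
          _ = s⁻¹ * m' ^ 2 ^ (n + 1) * s⁻¹⁻¹ := by rw [← he, hi]
          _ = (s⁻¹ * m' * s⁻¹⁻¹) ^ 2 ^ (n + 1) := (conj_pow).symm
          _ = _ := by rw [inv_inv]
      rw [e2, pow_succ', pow_mul, pow_two]
      exact pow_mem (d.sq_Q hQ) _
  · intro hk
    by_contra hU'
    have hle := hmin (a * x ^ k * a⁻¹) ⟨hmem, hU'⟩
    obtain ⟨j, hj⟩ := hk
    have hpow : (a * x ^ k * a⁻¹) ^ 2 ^ (n + 1) = 1 := by
      rw [conj_pow, ← pow_mul, hj, show (j + j) * 2 ^ (n + 1) = 2 ^ (n + 2) * j by rw [pow_succ 2 (n + 1)]; ring,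
        pow_mul, ← hm', pow_orderOf_eq_one, one_pow]
      group
    have := Nat.le_of_dvd (by positivity) (orderOf_dvd_of_pow_eq_one hpow)
    rw [hm', pow_succ 2 (n + 1)] at hle
    have : 0 < 2 ^ (n + 1) := by positivity
    omega

end Dec

end Cfsg.Agent.LengthEight
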