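import Cfsg.Agent.Lib.LengthEight.CaseOne
import Cfsg.Agent.Lib.LengthEight.CaseTwo
import Cfsg.Agent.Lib.LengthEight.CaseFour
import Cfsg.Agent.Lib.Cores.Basic
import Cfsg.Agent.Lib.GLOrder.Basic
import Cfsg.Agent.S0508
import Cfsg.Agent.S0811
import Cfsg.Agent.S0812

/-!
# A simple group of length eight with a Sylow 2-subgroup of order 128 is `PSL(2,127)` (helper98)

The Sylow subgroup is dihedral and the centralizer of an involution; the theorem of Brauer, Suzuki and Wall
gives `PSL(2,q)`. Its dihedral maximal subgroup of order divisible by 128 must be a Sylow subgroup.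
-/

set_option autoImplicit false
set_option linter.style.haveILetI false
set_option linter.unusedSectionVars false

namespace Cfsg.Agent.LengthEight

open Subgroup

universe u

variable {G : Type u} [Group G] [Finite G]

namespace Setting

variable [IsSimpleGroup G] (D : Setting G)
include D

theorem dihedral : Nonempty ((D.S : Subgroup G) ≃* DihedralGroup 64) := by
  obtain ⟨c⟩ := D.exists_cfg
  obtain ⟨d⟩ := c.exists_dec
  have h1 : Nat.card d.E = 1 := by
    rcases d.E_small with h | ⟨h4, he⟩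
    · have hpos : 0 < Nat.card d.E := Nat.card_pos
      by_contra h'
      exact d.false_of_two (by omega)
    · exact (d.false_of_four h4 he).elim
  obtain ⟨f, x, hf, hx, hne, hcl⟩ := d.dihedral_of_one h1
  have e := Involution.dihedralEquiv hf hx hne
  rw [hcl] at e
  haveI : NeZero (orderOf (f * x)) := ⟨(orderOf_pos _).ne'⟩
  have h := Nat.card_congr e.toEquiv
  rw [DihedralGroup.nat_card, D.card_S] at h
  obtain hn : orderOf (f * x) = 64 := by omega
  rw [hn] at e
  exact ⟨e.symm⟩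

theorem card_le_of_coatom {H : Subgroup G} (hH : IsCoatom H) (hdvd : 2 ^ 7 ∣ Nat.card H) :
    Nat.card H = 2 ^ 7 := by
  haveI := Fact.mk Nat.prime_two
  obtain ⟨P, hP⟩ := Sylow.exists_subgroup_card_pow_prime 2 (G := H) hdvd
  have hPc : Nat.card ↥(P.map H.subtype) = 2 ^ 7 := by
    rw [Nat.card_congr (P.equivMapOfInjective H.subtype H.subtype_injective).toEquiv.symm, hP]
  obtain ⟨R, hR⟩ := (IsPGroup.of_card hPc : IsPGroup 2 ↥(P.map H.subtype)).exists_le_sylow
  have hRP : P.map H.subtype = (R : Subgroup G) :=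
    eq_of_le_of_card_ge hR (by rw [hPc, ← D.card_S]; exact (Nat.card_congr (R.equiv D.S).toEquiv).le)
  obtain ⟨g, hg⟩ := MulAction.exists_smul_eq G R D.S
  have hS : (D.S : Subgroup G) ≤ cj g H := by
    rw [← hg, Sylow.coe_subgroup_smul]
    exact map_mono (hRP.ge.trans (map_subtype_le P))
  have hne : cj g H ≠ ⊤ := fun e => hH.1 (eq_top_of_card_eq _ (by rw [← card_cj g H, e, card_top]))
  rw [← card_cj g H, D.eq_S hS hne, D.card_S]

theorem equiv_psl :
    ∃ (F : Type) (_ : Field F) (_ : Fintype F),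
      Fintype.card F = 127 ∧ Nonempty (G ≃* Matrix.ProjectiveSpecialLinearGroup (Fin 2) F) := by
  haveI := Fact.mk Nat.prime_two
  have hO : (Cfsg.oddCore (centralizer ({D.z} : Set G))).map
      (centralizer ({D.z} : Set G)).subtype = ⊥ := by
    rw [Subgroup.map_eq_bot_iff_of_injective _ (subtype_injective _)]
    have h2 : IsPGroup 2 ↥(centralizer ({D.z} : Set G)) := D.cent_z.symm ▸ D.S.2
    refine eq_bot_of_card_eq _ ?_
    have hcop := Cores.coprime_card_pPrimeCore (G := ↥(centralizer ({D.z} : Set G))) 2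
    obtain ⟨m, hm⟩ := IsPGroup.iff_card.1 (h2.to_subgroup (pPrimeCore 2 ↥(centralizer ({D.z} : Set G))))
    show Nat.card ↥(pPrimeCore 2 ↥(centralizer ({D.z} : Set G))) = 1
    rw [hm] at hcop ⊢
    rcases m with _ | m
    · rfl
    · exact absurd hcop (by rw [Nat.coprime_pow_left_iff (Nat.succ_pos m)]; decide)
  obtain ⟨F, iF, iF', hodd, ⟨e⟩⟩ := S0508.result D.S 64 (by norm_num) D.dihedral D.z D.orderOf_z D.z_mem
    D.z_comm ⊥ hO.symm (fun h => absurd rfl h)
    (fun s _ h => absurd (mem_centralizer_iff.2 fun y hy => by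
      rw [coe_bot, Set.mem_singleton_iff] at hy
      rw [hy, one_mul, mul_one]) h)
    (fun Y hY hne => absurd (le_bot_iff.1 hY) hne)
  refine ⟨F, iF, iF', ?_, ⟨e⟩⟩
  set q := Fintype.card F with hq
  have hcard := GLOrder.card_PSL_two_of_odd (F := F) (by rw [Nat.card_eq_fintype_card]; exact hodd)
  rw [← Nat.card_congr e.toEquiv, Nat.card_eq_fintype_card (α := F), ← hq] at hcard
  obtain ⟨m, hm⟩ : 2 ^ 7 ∣ Nat.card G := D.card_S ▸ card_subgroup_dvd_card _
  have hprod : q * ((q + 1) * (q - 1)) = 256 * m := by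
    rw [← Nat.sq_sub_sq, one_pow, ← hcard, hm]; ring
  have hcop : Nat.Coprime (2 ^ 8) q := Nat.Coprime.pow_left _ (Nat.coprime_two_left.2 hodd)
  have h256 : 2 ^ 8 ∣ (q + 1) * (q - 1) := hcop.dvd_of_dvd_mul_left ⟨m, hprod.trans (by norm_num)⟩
  obtain ⟨j, hj⟩ := hodd
  have hgcd : Nat.gcd 2 (q - 1) = 2 := Nat.gcd_eq_left ⟨j, by omega⟩
  -- a maximal dihedral subgroup of order `q ± 1` divisible by 128
  obtain ⟨n, H, hn, hdvd, hH, ⟨eH⟩⟩ : ∃ (n : ℕ) (H : Subgroup (Matrix.ProjectiveSpecialLinearGroup (Fin 2) F)),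
      (2 * n = q + 1 ∨ 2 * n = q - 1) ∧ 2 ^ 7 ∣ 2 * n ∧ IsCoatom H ∧ Nonempty (H ≃* DihedralGroup n) := by
    have hq1 : q ≠ 1 := fun e1 => by
      have := Fintype.one_lt_card (α := F)
      omega
    rcases Nat.even_or_odd j with ⟨i, hi⟩ | ⟨i, hi⟩
    · have hc : Nat.Coprime (2 ^ 7) (2 * i + 1) :=
        Nat.Coprime.pow_left _ (Nat.coprime_two_left.2 ⟨i, rfl⟩)
      have h7 : 2 ^ 7 ∣ q - 1 := by
        refine hc.dvd_of_dvd_mul_left ?_
        refine (Nat.mul_dvd_mul_iff_left (show 0 < 2 by norm_num)).1 ?_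
        rw [← mul_assoc, show 2 * (2 * i + 1) = q + 1 by omega, show 2 * 2 ^ 7 = 2 ^ 8 by norm_num]
        exact h256
      have h128 : 128 ≤ q - 1 := Nat.le_of_dvd (by omega) h7
      obtain ⟨H, hH, hH'⟩ := S0812.result (F := F) hq.symm 
        (by simp only [Finset.mem_insert, Finset.mem_singleton]; omega)
      rw [hgcd] at hH'
      exact ⟨(q - 1) / 2, H, Or.inr (by omega), by rwa [show 2 * ((q - 1) / 2) = q - 1 by omega], hH, hH'⟩
    · have hc : Nat.Coprime (2 ^ 7) (2 * i + 1) :=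
        Nat.Coprime.pow_left _ (Nat.coprime_two_left.2 ⟨i, rfl⟩)
      have h7 : 2 ^ 7 ∣ q + 1 := by
        refine hc.dvd_of_dvd_mul_left ?_
        refine (Nat.mul_dvd_mul_iff_left (show 0 < 2 by norm_num)).1 ?_
        rw [← mul_assoc, show 2 * (2 * i + 1) = q - 1 by omega, mul_comm (q - 1),
          show 2 * 2 ^ 7 = 2 ^ 8 by norm_num]
        exact h256
      have h128 : 128 ≤ q + 1 := Nat.le_of_dvd (by omega) h7
      obtain ⟨H, hH, hH'⟩ := S0811.result (F := F) hq.symm 
        (by simp only [Finset.mem_insert, Finset.mem_singleton]; omega)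
      rw [hgcd] at hH'
      exact ⟨(q + 1) / 2, H, Or.inl (by omega), by rwa [show 2 * ((q + 1) / 2) = q + 1 by omega], hH, hH'⟩
  have hcH : Nat.card H = 2 * n := by rw [Nat.card_congr eH.toEquiv, DihedralGroup.nat_card]
  set K := H.map e.symm.toMonoidHom
  have hcK : Nat.card K = 2 * n := by
    rw [← hcH]; exact Nat.card_congr (H.equivMapOfInjective _ e.symm.injective).toEquiv.symm
  have hK : IsCoatom K := (OrderIso.isCoatom_iff (e.symm.mapSubgroup) H).2 hH
  have h128 := D.card_le_of_coatom hK (hcK.symm ▸ hdvd)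
  rw [hcK] at h128
  rcases hn with hn | hn
  · omega
  · exfalso
    have h129 : q = 129 := by omega
    have hp := FiniteField.isPrimePow_card F
    rw [← hq, h129, isPrimePow_iff_unique_prime_dvd] at hp
    obtain ⟨p, -, hu⟩ := hp
    have h3 : 3 = p := hu 3 ⟨Nat.prime_three, by norm_num⟩
    have h43 : 43 = p := hu 43 ⟨by norm_num, by norm_num⟩
    omega

end Setting

end Cfsg.Agent.LengthEight
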