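import Cfsg.Agent.EqLemmas
import Cfsg.Agent.Lib.CharApp.Burnside
import Cfsg.Agent.Lib.Solvable.Basic

/-!
# A group with a maximal Sylow 2-subgroup and no normal 2-subgroup (helper98)

`exists_complement`: for `|P| ≤ 4`, or `|P| = 8` and index at most 7, the maximal Sylow 2-subgroup `P` has a
normal complement `W`.
-/

set_option autoImplicit false
set_option linter.style.haveILetI false

namespace Cfsg.Agent.LengthEight

open Subgroup

variable {X : Type*} [Group X] [Finite X] {P : Subgroup X}

theorem index_le_card_of_core (hP : IsPGroup 2 P)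
    (hO : ∀ N : Subgroup X, N.Normal → IsPGroup 2 N → N = ⊥) : Nat.card X ∣ Nat.factorial P.index := by
  classical
  have hcore : P.normalCore = ⊥ := hO _ P.normalCore_normal (hP.to_le P.normalCore_le)
  have hinj : Function.Injective (MulAction.toPermHom X (X ⧸ P)) := by
    rw [← MonoidHom.ker_eq_bot_iff, ← normalCore_eq_ker, hcore]
  have := Subgroup.card_dvd_of_injective _ hinj
  rwa [Nat.card_perm, ← Subgroup.index_eq_card] at this

theorem exists_complement (hP : IsPGroup 2 P) (hodd : Odd P.index) (h1 : P.index ≠ 1)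
    (hmax : ∀ L : Subgroup X, P ≤ L → L = P ∨ L = ⊤)
    (hO : ∀ N : Subgroup X, N.Normal → IsPGroup 2 N → N = ⊥)
    (hc : Nat.card P ≤ 4 ∨ (Nat.card P = 2 ^ 3 ∧ P.index ≤ 7)) :
    ∃ W : Subgroup X, W.Normal ∧ Nat.card W = P.index ∧ W ⊓ P = ⊥ := by
  haveI := Fact.mk Nat.prime_two
  have hcard : P.index * Nat.card P = Nat.card X := by rw [mul_comm, card_mul_index]
  have hPne : P ≠ ⊤ := fun h => h1 (by rw [h, index_top])
  rcases hc with hc | ⟨hc8, hk⟩
  · let S : Sylow 2 X := hP.toSylow (fun h => Nat.not_even_iff_odd.2 hodd (even_iff_two_dvd.2 h))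
    have hS : (S : Subgroup X) = P := rfl
    haveI : IsMulCommutative P := by
      obtain ⟨n, hn⟩ := IsPGroup.iff_card.1 hP
      have : n ≤ 2 := (Nat.pow_le_pow_iff_right (a := 2) (by norm_num)).1 (by rw [← hn]; exact hc)
      interval_cases n
      · have := (Nat.card_eq_one_iff_unique.1 hn).1
        exact ⟨⟨fun a b => Subsingleton.elim _ _⟩⟩
      · haveI := isCyclic_of_prime_card (p := 2) (by simpa using hn)
        exact IsCyclic.isMulCommutative
      · exact IsPGroup.isMulCommutative_of_card_eq_prime_sq (p := 2) hn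
    rcases eq_or_ne P ⊥ with rfl | hPb
    · exact ⟨⊤, inferInstance, by rw [card_top, index_bot], inf_bot_eq ⊤⟩
    have hN : normalizer (P : Set X) = P :=
      (hmax _ le_normalizer).resolve_right fun h => hPb (hO P (normalizer_eq_top_iff.1 h) hP)
    have hNC : normalizer ((S : Subgroup X) : Set X) ≤ centralizer ((S : Subgroup X) : Set X) := by
      rw [hS, hN]
      exact fun x hx => mem_centralizer_iff.2 fun y hy => setLike_mul_comm hy hx
    have hcompl := MonoidHom.ker_transferSylow_isComplement' S hNC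
    refine ⟨_, MonoidHom.normal_ker _, ?_, by rw [← hS]; exact hcompl.disjoint.eq_bot⟩
    exact hcompl.index_eq_card.symm
  · have hk' : P.index = 3 ∨ P.index = 5 ∨ P.index = 7 := by
      obtain ⟨j, hj⟩ := hodd
      omega
    obtain ⟨q, hq, hkq⟩ : ∃ q, q.Prime ∧ P.index = q := ⟨_, by
      rcases hk' with h | h | h <;> rw [h] <;> norm_num, rfl⟩
    haveI : Group.IsSolvable X := CharApp.isSolvable_of_card_eq_prime_pow_mul 2 q Nat.prime_two hq
      (Nat.card X) X rfl 3 1 (by rw [← hcard, hkq, hc8, pow_one, mul_comm])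
    haveI : Nontrivial X := Finite.one_lt_card_iff_nontrivial.1 (by
      rw [← hcard, hc8, hkq]; have := hq.two_le; omega)
    obtain ⟨p, hp, M, hMn, hMne, hM⟩ := Solvable.exists_normal_pGroup_ne_bot X
    have hp2 : p ≠ 2 := fun h => hMne (hO M hMn (h ▸ hM))
    haveI := Fact.mk hp
    obtain ⟨n, hn⟩ := IsPGroup.iff_card.1 hM
    have hco : (Nat.card M).Coprime (Nat.card P) := by
      rw [hn, hc8]
      exact Nat.Coprime.pow _ _ ((Nat.coprime_primes hp Nat.prime_two).2 hp2)
    have hdvd : Nat.card M ∣ P.index :=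
      hco.dvd_of_dvd_mul_right (by rw [hcard]; exact card_subgroup_dvd_card M)
    refine ⟨M, hMn, ?_, eq_bot_iff.2 fun x hx => ?_⟩
    · rw [hkq] at hdvd ⊢
      exact ((Nat.dvd_prime hq).1 hdvd).resolve_left fun h => hMne (card_eq_one.1 h)
    · have h1 : Nat.card ↥(M ⊓ P) = 1 := Nat.eq_one_of_dvd_coprimes hco
        (card_dvd_of_le inf_le_left) (card_dvd_of_le inf_le_right)
      rw [card_eq_one.1 h1] at hx
      exact hx

/-- `P` acts faithfully on a normal subgroup with which it generates the group. -/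
theorem faithful (W : Subgroup X) [W.Normal] (hW : W ⊔ P = ⊤) (hP : IsPGroup 2 P)
    (hO : ∀ N : Subgroup X, N.Normal → IsPGroup 2 N → N = ⊥) : P ⊓ centralizer (W : Set X) = ⊥ := by
  refine hO _ (normalizer_eq_top_iff.1 (top_le_iff.1 (hW ▸ sup_le ?_ ?_))) (hP.to_le inf_le_left)
  · refine le_trans ?_ (centralizer_le_normalizer _)
    exact fun w hw => mem_centralizer_iff.2 fun y hy => (mem_centralizer_iff.1 hy.2 w hw).symm
  · intro a ha
    have hC : (centralizer (W : Set X)).Normal := inferInstance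
    refine mem_normalizer_iff.2 fun n => ⟨fun hn => ⟨P.mul_mem (P.mul_mem ha hn.1) (P.inv_mem ha),
      hC.conj_mem n hn.2 a⟩, fun hn => ?_⟩
    have e : n = a⁻¹ * (a * n * a⁻¹) * a := by group
    rw [e]
    exact ⟨P.mul_mem (P.mul_mem (P.inv_mem ha) hn.1) ha, by simpa using hC.conj_mem _ hn.2 a⁻¹⟩

end Cfsg.Agent.LengthEight
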