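import Cfsg.Agent.Lib.LengthEight.Basic
import Cfsg.Agent.Lib.LengthEight.Quot
import Cfsg.Agent.Lib.PLocal.Basic

/-!
# The largest local subgroup has a quotient of order six (helper98)

`Cfg.shape`: `|H : T| = 3`, `|T : Q| = 2`, and some involution of `T \ Q` centralizes a subgroup of index at
most 2 of the abelian group `V` generated by the conjugates of `z` under `H`.
-/

set_option autoImplicit false
set_option linter.style.haveILetI false
set_option linter.unusedSectionVars false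

namespace Cfsg.Agent.LengthEight

open Subgroup

variable {G : Type*} [Group G] [Finite G]

theorem comm_of_sq {A : Subgroup G} (h : ∀ a ∈ A, a * a = 1) {a b : G} (ha : a ∈ A) (hb : b ∈ A) :
    a * b = b * a := by
  have hi : ∀ x ∈ A, x⁻¹ = x := fun x hx => inv_eq_of_mul_eq_one_right (h x hx)
  rw [← hi _ (mul_mem ha hb), mul_inv_rev, hi a ha, hi b hb]

theorem sq_sup {A B : Subgroup G} (hA : ∀ a ∈ A, a * a = 1) (hB : ∀ b ∈ B, b * b = 1)
    (hAB : ∀ a ∈ A, ∀ b ∈ B, a * b = b * a) {x : G} (hx : x ∈ A ⊔ B) : x * x = 1 := by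
  have hn : B ≤ normalizer (A : Set G) := le_trans
    (fun b hb => mem_centralizer_iff.2 fun a ha => hAB a ha b hb) (centralizer_le_normalizer _)
  rw [← SetLike.mem_coe, coe_mul_of_right_le_normalizer_left A B hn] at hx
  obtain ⟨a, ha, b, hb, rfl⟩ := hx
  show a * b * (a * b) = 1
  calc a * b * (a * b) = a * (b * a) * b := by group
    _ = a * (a * b) * b := by rw [hAB a ha b hb]
    _ = (a * a) * (b * b) := by group
    _ = 1 := by rw [hA a ha, hB b hb, one_mul]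

namespace Cfg

variable {D : Setting G} (c : Cfg D)
include c

/-- The subgroup generated by the conjugates of `z` under `H`. -/
def V : Subgroup G := closure {x | ∃ h ∈ c.H, h * D.z * h⁻¹ = x}

theorem z_mem_V : D.z ∈ c.V := subset_closure ⟨1, one_mem _, by group⟩

theorem conj_z_mem_Q {h : G} (hh : h ∈ c.H) : h * D.z * h⁻¹ ∈ c.Q :=
  (mem_normalizer_iff.1 (c.loc.norm hh) _).1 c.z_mem_Q

theorem V_le_Q : c.V ≤ c.Q := (closure_le _).2 fun _ ⟨_, hh, e⟩ => e ▸ c.conj_z_mem_Q hh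

theorem V_le_T : c.V ≤ c.T := c.V_le_Q.trans c.Q_le_T

theorem V_le_cent : c.V ≤ centralizer (c.Q : Set G) := by
  refine (closure_le _).2 ?_
  rintro _ ⟨h, hh, rfl⟩
  refine mem_centralizer_iff.2 fun q hq => ?_
  have hq' := c.z_central_Q ((mem_normalizer_iff.1 (c.loc.norm (inv_mem hh)) q).1 hq)
  rw [inv_inv] at hq'
  calc q * (h * D.z * h⁻¹) = h * (h⁻¹ * q * h * D.z) * h⁻¹ := by group
    _ = h * (D.z * (h⁻¹ * q * h)) * h⁻¹ := by rw [hq']
    _ = h * D.z * h⁻¹ * q := by group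

theorem V_comm {v q : G} (hv : v ∈ c.V) (hq : q ∈ c.Q) : q * v = v * q :=
  mem_centralizer_iff.1 (c.V_le_cent hv) q hq

theorem V_sq {v : G} (hv : v ∈ c.V) : v * v = 1 := by
  induction hv using closure_induction with
  | mem x hx =>
    obtain ⟨h, -, rfl⟩ := hx
    calc h * D.z * h⁻¹ * (h * D.z * h⁻¹) = h * (D.z * D.z) * h⁻¹ := by group
      _ = 1 := by rw [D.z_mul_self]; group
  | one => exact one_mul 1
  | mul x y hx hy ihx ihy =>
    have e : y * x = x * y := c.V_comm hx (c.V_le_Q hy)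
    calc x * y * (x * y) = x * (y * x) * y := by group
      _ = x * (x * y) * y := by rw [e]
      _ = (x * x) * (y * y) := by group
      _ = 1 := by rw [ihx, ihy, one_mul]
  | inv x _ ih => rw [← mul_inv_rev, ih, inv_one]

theorem conj_mem_V {h v : G} (hh : h ∈ c.H) (hv : v ∈ c.V) : h * v * h⁻¹ ∈ c.V := by
  induction hv using closure_induction with
  | mem x hx =>
    obtain ⟨k, hk, rfl⟩ := hx
    exact subset_closure ⟨h * k, mul_mem hh hk, by group⟩
  | one => simp [c.V.one_mem]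
  | mul x y _ _ ihx ihy =>
    rw [show h * (x * y) * h⁻¹ = h * x * h⁻¹ * (h * y * h⁻¹) by group]; exact mul_mem ihx ihy
  | inv x _ ih => rw [show h * x⁻¹ * h⁻¹ = (h * x * h⁻¹)⁻¹ by group]; exact inv_mem ih

theorem H_le_norm_V : c.H ≤ normalizer (c.V : Set G) := fun h hh => mem_normalizer_iff.2 fun v =>
  ⟨c.conj_mem_V hh, fun hv => by simpa [mul_assoc] using c.conj_mem_V (inv_mem hh) hv⟩

theorem mem_Q_of_fix_V [IsSimpleGroup G] {h : G} (hh : h ∈ c.H) (hfix : ∀ v ∈ c.V, v * h = h * v) : h ∈ c.Q := by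
  refine c.core (c.H ⊓ centralizer (c.V : Set G)) inf_le_left ?_ ?_ ⟨hh, mem_centralizer_iff.2 hfix⟩
  · refine D.S.2.to_le fun x hx => ?_
    exact D.mem_S_of_commute (mem_centralizer_iff.1 hx.2 D.z c.z_mem_V).symm
  · intro k hk
    have hn : k ∈ normalizer ((centralizer (c.V : Set G) : Subgroup G) : Set G) :=
      normalizer_le_normalizer_centralizer _ (c.H_le_norm_V hk)
    refine mem_normalizer_iff.2 fun x => ⟨fun hx => ⟨c.H.mul_mem (c.H.mul_mem hk hx.1) (c.H.inv_mem hk),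
      (mem_normalizer_iff.1 hn x).1 hx.2⟩, fun hx => ⟨?_, (mem_normalizer_iff.1 hn x).2 hx.2⟩⟩
    have := c.H.mul_mem (c.H.mul_mem (c.H.inv_mem hk) hx.1) hk
    simpa [mul_assoc] using this

theorem eq_T_or_H [IsSimpleGroup G] {L : Subgroup G} (h1 : c.T ≤ L) (h2 : L ≤ c.H) :
    L = c.T ∨ L = c.H := by
  by_cases hL : IsPGroup 2 L
  · exact Or.inl (eq_of_le_of_card_ge h1 (c.max _ _ c.loc L h2 hL)).symm
  · exact Or.inr (c.min L h2 h1 hL)

theorem T_ne_Q [IsSimpleGroup G] : c.T ≠ c.Q := by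
  intro e
  obtain ⟨u, huS, huN, huT, -⟩ := c.exists_outside
  exact huT (c.mem_of_normalizes le_rfl c.z_mem_T (e ▸ c.loc.norm) huS huN)

theorem T_ne_H : c.T ≠ c.H := fun e => c.loc.notTwo (e ▸ c.T_two)

theorem card_V_ge [IsSimpleGroup G] : 4 ≤ Nat.card c.V := by
  haveI := Fact.mk Nat.prime_two
  by_contra h
  have hz : zpowers D.z = c.V := by
    refine eq_of_le_of_card_ge (zpowers_le.2 c.z_mem_V) ?_
    obtain ⟨n, hn⟩ := IsPGroup.iff_card.1 (c.loc.two.to_le c.V_le_Q)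
    rw [Nat.card_zpowers, D.orderOf_z]
    rcases n with _ | _ | n
    · omega
    · omega
    · have : 2 ^ 2 ≤ 2 ^ (n + 1 + 1) := Nat.pow_le_pow_right (by norm_num) (by omega)
      omega
  refine c.loc.notTwo (D.S.2.to_le fun x hx => D.mem_S_of_commute ?_)
  have hm : x * D.z * x⁻¹ ∈ zpowers D.z := hz ▸ c.conj_mem_V hx c.z_mem_V
  obtain ⟨k, hk⟩ := mem_zpowers_iff.1 hm
  rcases Int.even_or_odd k with ⟨j, rfl⟩ | ⟨j, rfl⟩
  · exfalso
    rw [← two_mul, zpow_mul, zpow_two, D.z_mul_self, one_zpow] at hk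
    exact D.z_ne_one (conj_eq_one_iff.1 hk.symm)
  · rw [zpow_add_one, zpow_mul, zpow_two, D.z_mul_self, one_zpow, one_mul] at hk
    conv_rhs => rw [hk]
    group

theorem exists_offender [IsSimpleGroup G] :
    ∃ A : Subgroup G, A ≤ c.T ∧ (∀ a ∈ A, a * a = 1) ∧ ¬ A ≤ c.Q ∧
      Nat.card c.V * Nat.card ↥(A ⊓ c.Q) ≤ Nat.card A * Nat.card ↥(A ⊓ c.V) := by
  classical
  let El : Set (Subgroup G) := {A | A ≤ c.T ∧ ∀ a ∈ A, a * a = 1}
  obtain ⟨A₀, hA₀, hmax⟩ := Set.exists_max_image El (fun A => Nat.card A) (Set.toFinite _)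
    ⟨c.V, c.V_le_T, fun a ha => c.V_sq ha⟩
  let M : Set (Subgroup G) := {A | A ∈ El ∧ Nat.card A₀ ≤ Nat.card A}
  -- a maximal elementary subgroup inside `Q` contains `V`
  have hsupV : ∀ A ∈ El, A ≤ c.Q → A ⊔ c.V ∈ El := fun A hA hAQ =>
    ⟨sup_le hA.1 c.V_le_T, fun a ha => sq_sup hA.2 (fun v hv => c.V_sq hv)
      (fun a ha v hv => c.V_comm hv (hAQ ha)) ha⟩
  by_cases hall : ∀ A ∈ M, A ≤ c.Q
  · exfalso
    set J := sSup M
    have hJQ : J ≤ c.Q := sSup_le hall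
    have hzJ : D.z ∈ J := by
      have h0 : A₀ ∈ M := ⟨hA₀, le_rfl⟩
      have he := eq_of_le_of_card_ge (le_sup_left : A₀ ≤ A₀ ⊔ c.V) (hmax _ (hsupV _ hA₀ (hall _ h0)))
      exact le_sSup h0 (he ▸ mem_sup_right c.z_mem_V)
    -- `M` is invariant under `H` and under `N_S(T)`
    have hinv : ∀ g : G, (∀ A ∈ M, A.map (MulAut.conj g).toMonoidHom ≤ c.T) →
        J.map (MulAut.conj g).toMonoidHom ≤ J := by
      intro g hg
      refine map_le_iff_le_comap.2 (sSup_le fun A hA => map_le_iff_le_comap.1 (le_sSup ⟨⟨hg A hA, ?_⟩, ?_⟩))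
      · rintro _ ⟨a, ha, rfl⟩
        rw [← map_mul, hA.1.2 a ha, map_one]
      · exact hA.2.trans_eq
          (Nat.card_congr (A.equivMapOfInjective (MulAut.conj g).toMonoidHom (MulAut.conj g).injective).toEquiv)
    have hnorm : ∀ g : G, (∀ A ∈ M, A.map (MulAut.conj g).toMonoidHom ≤ c.T) →
        g ∈ normalizer (J : Set G) := fun g hg => mem_normalizer_iff_map_conj_eq.2
      (eq_of_le_of_card_ge (hinv g hg) (Nat.card_congr
        (J.equivMapOfInjective (MulAut.conj g).toMonoidHom (MulAut.conj g).injective).toEquiv).le)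
    have hH : c.H ≤ normalizer (J : Set G) := fun g hg => hnorm g fun A hA => by
      rintro _ ⟨a, ha, rfl⟩
      exact c.Q_le_T ((mem_normalizer_iff.1 (c.loc.norm hg) a).1 (hall A hA ha))
    obtain ⟨u, huS, huN, huT, -⟩ := c.exists_outside
    refine huT (c.mem_of_normalizes (hJQ.trans c.Q_le_T) hzJ hH huS (hnorm u fun A hA => ?_))
    rintro _ ⟨a, ha, rfl⟩
    exact (mem_normalizer_iff.1 huN a).1 (hA.1.1 ha)
  push Not at hall
  obtain ⟨A, ⟨hA, hA0⟩, hAQ⟩ := hall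
  refine ⟨A, hA.1, hA.2, hAQ, ?_⟩
  have hel := hsupV (A ⊓ c.Q) ⟨inf_le_left.trans hA.1, fun a ha => hA.2 a ha.1⟩ inf_le_right
  have hcard := PLocal.card_sup_mul_card_inf (H := A ⊓ c.Q) (K := c.V)
    (le_trans (fun v hv => mem_centralizer_iff.2 fun a ha => c.V_comm hv ha.2)
      (centralizer_le_normalizer _))
  have hinf : (A ⊓ c.Q) ⊓ c.V = A ⊓ c.V := by
    rw [inf_assoc, inf_eq_right.2 c.V_le_Q]
  rw [hinf] at hcard
  calc Nat.card c.V * Nat.card ↥(A ⊓ c.Q) = Nat.card ↥(A ⊓ c.Q) * Nat.card c.V := mul_comm _ _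
    _ = Nat.card ↥((A ⊓ c.Q) ⊔ c.V) * Nat.card ↥(A ⊓ c.V) := hcard.symm
    _ ≤ Nat.card A * Nat.card ↥(A ⊓ c.V) :=
      Nat.mul_le_mul_right _ ((hmax _ hel).trans hA0)

end Cfg

end Cfsg.Agent.LengthEight
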