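import Cfsg.Agent.Lib.LengthEight.Shape

/-!
# The quotient of the largest local subgroup has order six (helper98)

`Cfg.shape`: `|H : T| = 3`, `|T : Q| = 2`, and some involution of `T \ Q` centralizes a subgroup of index at
most 2 of `V`.
-/

set_option autoImplicit false
set_option linter.style.haveILetI false
set_option linter.unusedSectionVars false

namespace Cfsg.Agent.LengthEight

open Subgroup

variable {G : Type*} [Group G] [Finite G]

/-- An element of prime order modulo the kernel of its action fixes at most index four only if the prime is 3. -/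
theorem pow_twelve_commute {V : Subgroup G} {g : G} (hV : ∀ v ∈ V, v * v = 1)
    (hg : ∀ v ∈ V, g * v * g⁻¹ ∈ V) {C : Subgroup G} (hC : C ≤ V) (hfix : ∀ w ∈ C, g * w * g⁻¹ = w)
    (h4 : Nat.card V ≤ 4 * Nat.card C) : ∀ v ∈ V, g ^ 12 * v * (g ^ 12)⁻¹ = v := by
  classical
  let d : V →* V := MonoidHom.mk' (fun v => ⟨(v : G) * (g * v * g⁻¹), mul_mem v.2 (hg v v.2)⟩)
    (fun a b => Subtype.ext (by
      have e : (b : G) * (g * a * g⁻¹) = (g * a * g⁻¹) * b := comm_of_sq hV b.2 (hg a a.2)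
      calc ((a : G) * b) * (g * ((a : G) * b) * g⁻¹)
          = (a : G) * ((b : G) * (g * a * g⁻¹)) * (g * b * g⁻¹) := by group
        _ = (a : G) * ((g * a * g⁻¹) * b) * (g * b * g⁻¹) := by rw [e]
        _ = (a : G) * (g * a * g⁻¹) * ((b : G) * (g * b * g⁻¹)) := by group))
  have hker : C.subgroupOf V ≤ d.ker := fun w hw => MonoidHom.mem_ker.2 (Subtype.ext (by
    show (w : G) * (g * w * g⁻¹) = 1
    rw [hfix w hw, hV _ w.2]))
  -- the commutators with `g` form a group of order at most four, invariant under `g`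
  set N := d.range.map V.subtype with hN
  have hNcard : Nat.card N ≤ 4 := by
    rw [hN, Nat.card_congr (d.range.equivMapOfInjective V.subtype V.subtype_injective).toEquiv.symm,
      ← index_ker]
    have h1 : d.ker.index ≤ (C.subgroupOf V).index :=
      Nat.le_of_dvd (Nat.pos_of_ne_zero index_ne_zero_of_finite) (index_dvd_of_le hker)
    have h2 := (C.subgroupOf V).card_mul_index
    rw [Nat.card_congr (subgroupOfEquivOfLe hC).toEquiv] at h2
    refine h1.trans ((Nat.mul_le_mul_left_iff (Nat.card_pos (α := C))).1 ?_)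
    rw [h2, mul_comm]; exact h4
  have hNV : N ≤ V := map_subtype_le _
  have hmem : ∀ v ∈ V, v * (g * v * g⁻¹) ∈ N := fun v hv => ⟨d ⟨v, hv⟩, ⟨⟨v, hv⟩, rfl⟩, rfl⟩
  have hNinv : ∀ x ∈ N, g * x * g⁻¹ ∈ N := by
    rintro _ ⟨_, ⟨v, rfl⟩, rfl⟩
    have e : g * ((v : G) * (g * v * g⁻¹)) * g⁻¹ = (g * v * g⁻¹) * (g * (g * v * g⁻¹) * g⁻¹) := by group
    show g * ((v : G) * (g * v * g⁻¹)) * g⁻¹ ∈ N
    rw [e]
    exact hmem _ (hg v v.2)
  have hpow : ∀ (x : G) (k : ℕ), g ^ (k + 1) * x * (g ^ (k + 1))⁻¹ = g * (g ^ k * x * (g ^ k)⁻¹) * g⁻¹ := by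
    intro x k; rw [pow_succ']; group
  have hsix : ∀ x ∈ N, g ^ 6 * x * (g ^ 6)⁻¹ = x := by
    intro x hx
    rcases eq_or_ne x 1 with rfl | hx1
    · group
    let f : ℕ → G := fun k => g ^ k * x * (g ^ k)⁻¹
    have hf : ∀ k, f k ∈ ((N : Set G) \ {1}) := by
      intro k
      refine ⟨?_, fun h => hx1 (conj_eq_one_iff.1 h)⟩
      induction k with
      | zero => simpa [f] using hx
      | succ k ih => show g ^ (k + 1) * x * (g ^ (k + 1))⁻¹ ∈ N; rw [hpow]; exact hNinv _ ih
    have hcard : ((N : Set G) \ {1}).ncard ≤ 3 := by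
      have h0 : (N : Set G).ncard ≤ 4 := by rw [← Nat.card_coe_set_eq]; exact hNcard
      have := Set.ncard_sdiff_singleton_add_one (s := (N : Set G)) (a := 1) N.one_mem (Set.toFinite _)
      omega
    obtain ⟨i, hi, j, hj, hij, hfij⟩ := Set.exists_ne_map_eq_of_ncard_lt_of_maps_to
      (s := (Finset.range 4 : Set ℕ)) (t := (N : Set G) \ {1}) (f := f)
      (by rw [Set.ncard_coe_finset, Finset.card_range]; omega) (fun k _ => hf k) (Set.toFinite _)
    simp only [Finset.coe_range, Set.mem_Iio] at hi hj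
    -- a period at most three divides six
    have key : ∀ i j : ℕ, i < j → j < 4 → f i = f j → g ^ 6 * x * (g ^ 6)⁻¹ = x := by
      intro i j hij hj e
      have hcomm : g ^ (j - i) * x = x * g ^ (j - i) := by
        have e' : g ^ i * x * (g ^ i)⁻¹ = g ^ i * g ^ (j - i) * x * (g ^ i * g ^ (j - i))⁻¹ := by
          rw [← pow_add, Nat.add_sub_cancel' hij.le]; exact e
        have e2 : x = g ^ (j - i) * x * (g ^ (j - i))⁻¹ := by
          calc x = (g ^ i)⁻¹ * (g ^ i * x * (g ^ i)⁻¹) * g ^ i := by group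
            _ = (g ^ i)⁻¹ * (g ^ i * g ^ (j - i) * x * (g ^ i * g ^ (j - i))⁻¹) * g ^ i := by rw [e']
            _ = g ^ (j - i) * x * (g ^ (j - i))⁻¹ := by group
        conv_rhs => rw [e2]
        group
      obtain ⟨m, hm⟩ : j - i ∣ 6 := by
        have : j - i = 1 ∨ j - i = 2 ∨ j - i = 3 := by omega
        rcases this with h | h | h <;> rw [h] <;> norm_num
      rw [hm, pow_mul, ((show Commute (g ^ (j - i)) x from hcomm).pow_left m).eq, mul_inv_cancel_right]
    rcases lt_or_gt_of_ne hij with h | h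
    · exact key i j h hj hfij
    · exact key j i h hi hfij.symm
  intro v hv
  set e := v * (g ^ 6 * v * (g ^ 6)⁻¹)
  have heN : e ∈ N := by
    have hk : ∀ k, g ^ k * v * (g ^ k)⁻¹ ∈ V ∧ v * (g ^ k * v * (g ^ k)⁻¹) ∈ N := by
      intro k
      induction k with
      | zero => exact ⟨by simpa using hv, by simp [hV v hv, N.one_mem]⟩
      | succ k ih =>
        rw [hpow]
        set w := g ^ k * v * (g ^ k)⁻¹
        refine ⟨hg w ih.1, ?_⟩
        have := mul_mem ih.2 (hmem w ih.1)
        rwa [show v * w * (w * (g * w * g⁻¹)) = v * (w * w) * (g * w * g⁻¹) by group, hV w ih.1,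
          mul_one] at this
    exact (hk 6).2
  have h6 : g ^ 6 * v * (g ^ 6)⁻¹ = v * e := by
    show _ = v * (v * _)
    rw [← mul_assoc, hV v hv, one_mul]
  calc g ^ 12 * v * (g ^ 12)⁻¹ = g ^ 6 * (g ^ 6 * v * (g ^ 6)⁻¹) * (g ^ 6)⁻¹ := by group
    _ = g ^ 6 * (v * e) * (g ^ 6)⁻¹ := by rw [h6]
    _ = (g ^ 6 * v * (g ^ 6)⁻¹) * (g ^ 6 * e * (g ^ 6)⁻¹) := by group
    _ = v * e * e := by rw [h6, hsix e heN]
    _ = v := by rw [mul_assoc, hV e (hNV heN), mul_one]

namespace Cfg

variable {D : Setting G} (c : Cfg D)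
include c

theorem shape [IsSimpleGroup G] :
    Nat.card c.H = 3 * Nat.card c.T ∧ Nat.card c.T = 2 * Nat.card c.Q ∧
      ∃ a ∈ c.T, a ∉ c.Q ∧ a * a = 1 ∧
        Nat.card c.V ≤ 2 * Nat.card ↥(c.V ⊓ centralizer ({a} : Set G)) := by
  classical
  haveI := Fact.mk Nat.prime_two
  -- the quotient
  set H' := c.H
  set Q' := c.Q.subgroupOf c.H with hQ'
  haveI hQn : Q'.Normal := (normal_subgroupOf_iff_le_normalizer c.loc.le).2 c.loc.norm
  set π := QuotientGroup.mk' Q'
  have hπ : Function.Surjective π := QuotientGroup.mk'_surjective _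
  have hker : π.ker = Q' := QuotientGroup.ker_mk' _
  set T' := c.T.subgroupOf c.H
  set P := T'.map π with hPdef
  have hQT : Q' ≤ T' := fun x hx => c.Q_le_T hx
  have hcomap : P.comap π = T' := by rw [hPdef, comap_map_eq, hker, sup_eq_left.2 hQT]
  have hT'card : Nat.card T' = Nat.card c.T := Nat.card_congr (subgroupOfEquivOfLe c.T_le_H).toEquiv
  have hQ'card : Nat.card Q' = Nat.card c.Q := Nat.card_congr (subgroupOfEquivOfLe c.loc.le).toEquiv
  set k := P.index with hk
  have hindex : T'.index = k := by rw [← hcomap, index_comap_of_surjective _ hπ]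
  have hH : Nat.card c.T * k = Nat.card c.H := by rw [← hT'card, ← hindex, card_mul_index]
  have hX : Nat.card (↥c.H ⧸ Q') * Nat.card c.Q = Nat.card c.H := by
    rw [← hQ'card]; exact (card_eq_card_quotient_mul_card_subgroup Q').symm
  have hPQ : Nat.card P * Nat.card c.Q = Nat.card c.T := by
    have h := P.card_mul_index
    rw [← hk] at h
    have : Nat.card P * Nat.card c.Q * k = Nat.card c.T * k := by rw [hH, ← hX, ← h]; ring
    exact Nat.eq_of_mul_eq_mul_right (Nat.pos_of_ne_zero index_ne_zero_of_finite) this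
  have hP2 : IsPGroup 2 P := (c.T_two.comap_subtype).map π
  have hkodd : Odd k := by
    obtain ⟨R, hR⟩ := (c.T_two.comap_subtype : IsPGroup 2 T').exists_le_sylow
    have hle := c.max _ _ c.loc _ (map_subtype_le (R : Subgroup c.H)) (R.2.map _)
    rw [← Nat.card_congr ((R : Subgroup c.H).equivMapOfInjective _ c.H.subtype_injective).toEquiv] at hle
    have e : T' = R := eq_of_le_of_card_ge hR (hT'card ▸ hle)
    rw [← hindex, e, ← Nat.not_even_iff_odd, even_iff_two_dvd]
    exact R.not_dvd_index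
  have hk1 : k ≠ 1 := fun h => c.T_ne_H (eq_of_le_of_card_ge c.T_le_H (by rw [← hH, h, mul_one]))
  have hmax : ∀ L : Subgroup (↥c.H ⧸ Q'), P ≤ L → L = P ∨ L = ⊤ := by
    intro L hL
    have hinj := map_injective (c.H.subtype_injective)
    have h1 : c.T ≤ (L.comap π).map c.H.subtype := by
      intro x hx
      exact ⟨⟨x, c.T_le_H hx⟩, hL ⟨⟨x, c.T_le_H hx⟩, hx, rfl⟩, rfl⟩
    rcases c.eq_T_or_H h1 (map_subtype_le _) with e | e
    · left
      refine comap_injective hπ ?_
      rw [hcomap]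
      refine hinj ?_
      rw [e]; exact (map_subgroupOf_eq_of_le c.T_le_H).symm
    · right
      refine comap_injective hπ ?_
      rw [comap_top]
      refine hinj ?_
      rw [e, ← MonoidHom.range_eq_map, range_subtype]
  have hO : ∀ N : Subgroup (↥c.H ⧸ Q'), N.Normal → IsPGroup 2 N → N = ⊥ := by
    intro N hN hN2
    have h2 : IsPGroup 2 (N.comap π) :=
      hN2.comap_of_ker_isPGroup π (by rw [hker]; exact c.loc.two.comap_subtype)
    have hle := c.core ((N.comap π).map c.H.subtype) (map_subtype_le _) (h2.map _) (by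
      haveI := hN.comap π
      intro h hh
      have := le_normalizer_map (H := N.comap π) c.H.subtype
        (mem_map_of_mem _ (show (⟨h, hh⟩ : c.H) ∈ normalizer ((N.comap π : Subgroup c.H) : Set c.H) by
          rw [normalizer_eq_top_iff.2 inferInstance]; exact mem_top _))
      simpa using this)
    refine eq_bot_iff.2 fun x hx => ?_
    obtain ⟨y, rfl⟩ := hπ x
    exact mem_bot.2 ((QuotientGroup.eq_one_iff y).2 (hle ⟨y, hx, rfl⟩))
  -- orbit of `z`
  have horb : k + 1 ≤ Nat.card c.V := by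
    have hinj : Function.Injective (fun q : ↥c.H ⧸ T' => Quotient.liftOn' q
        (fun h : c.H => (⟨(h : G) * D.z * (h : G)⁻¹, c.conj_mem_V h.2 c.z_mem_V⟩ : c.V)) (fun a b hab => by
          rw [QuotientGroup.leftRel_apply] at hab
          have hs := D.z_comm _ (c.T_le_S hab)
          refine Subtype.ext ?_
          show (a : G) * D.z * (a : G)⁻¹ = (b : G) * D.z * (b : G)⁻¹
          change (a : G)⁻¹ * b * D.z = D.z * ((a : G)⁻¹ * b) at hs
          calc (a : G) * D.z * (a : G)⁻¹ = (a : G) * (D.z * ((a : G)⁻¹ * b)) * (b : G)⁻¹ := by group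
            _ = (a : G) * (((a : G)⁻¹ * b) * D.z) * (b : G)⁻¹ := by rw [hs]
            _ = (b : G) * D.z * (b : G)⁻¹ := by group)) := by
      intro p q hpq
      induction p using Quotient.inductionOn' with | h a => ?_
      induction q using Quotient.inductionOn' with | h b => ?_
      refine Quotient.sound' (QuotientGroup.leftRel_apply.2 ⟨(a⁻¹ * b : c.H).2, D.mem_S_of_commute ?_⟩)
      have e : (a : G) * D.z * (a : G)⁻¹ = (b : G) * D.z * (b : G)⁻¹ := congrArg Subtype.val hpq
      show (a : G)⁻¹ * b * D.z = D.z * ((a : G)⁻¹ * b)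
      calc (a : G)⁻¹ * b * D.z = (a : G)⁻¹ * ((b : G) * D.z * (b : G)⁻¹) * b := by group
        _ = (a : G)⁻¹ * ((a : G) * D.z * (a : G)⁻¹) * b := by rw [e]
        _ = D.z * ((a : G)⁻¹ * b) := by group
    have hlt : Nat.card (↥c.H ⧸ T') < Nat.card c.V := by
      have := Fintype.ofFinite (↥c.H ⧸ T')
      have := Fintype.ofFinite c.V
      rw [Nat.card_eq_fintype_card, Nat.card_eq_fintype_card]
      refine Fintype.card_lt_of_injective_of_notMem _ hinj (b := 1) ?_
      rintro ⟨q, hq⟩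
      induction q using Quotient.inductionOn' with | h a => ?_
      exact D.z_ne_one (conj_eq_one_iff.1 (congrArg Subtype.val hq))
    rw [← index_eq_card, hindex] at hlt
    omega
  obtain ⟨b, hb6, hb⟩ := c.card_T
  obtain ⟨m, hm⟩ := IsPGroup.iff_card.1 hP2
  obtain ⟨q, hq⟩ := IsPGroup.iff_card.1 c.loc.two
  have hVQ : Nat.card c.V ≤ 2 ^ q := hq ▸ card_le_of_le c.V_le_Q
  have hbqm : b = m + q := by
    rw [hm, hq, hb, ← pow_add] at hPQ
    exact Nat.pow_right_injective le_rfl hPQ.symm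
  have hm0 : m ≠ 0 := by
    rintro rfl
    rw [pow_zero] at hm
    exact c.T_ne_Q (eq_of_le_of_card_ge c.Q_le_T (by rw [← hPQ, hm, one_mul])).symm
  have hm3 : m ≤ 3 := by
    by_contra hlt
    have h4 : 2 ^ q ≤ 2 ^ 2 := Nat.pow_le_pow_right (by norm_num) (by omega)
    have hk3 : k = 3 := by obtain ⟨j, hj⟩ := hkodd; omega
    have h := index_le_card_of_core hP2 hO
    rw [← hk, hk3, ← P.card_mul_index, ← hk, hk3, hm] at h
    have h16 : 2 ^ 4 ∣ 2 ^ m * 3 := dvd_mul_of_dvd_left (pow_dvd_pow 2 (by omega)) _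
    have := h16.trans h
    norm_num [Nat.factorial] at this
  have hc : Nat.card P ≤ 4 ∨ (Nat.card P = 2 ^ 3 ∧ k ≤ 7) := by
    rcases Nat.lt_or_ge m 3 with h | h
    · left; rw [hm]; exact le_trans (Nat.pow_le_pow_right (by norm_num) (by omega : m ≤ 2)) (by norm_num)
    · right
      obtain rfl : m = 3 := by omega
      have : 2 ^ q ≤ 2 ^ 3 := Nat.pow_le_pow_right (by norm_num) (by omega)
      exact ⟨hm, by omega⟩
  obtain ⟨W, hWn, hWk, hWP⟩ := exists_complement hP2 hkodd hk1 hmax hO hc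
  haveI := hWn
  rw [← hk] at hWk
  have hWne : W ≠ ⊥ := fun h => hk1 (by rw [← hWk, h, card_bot])
  have hWtop : W ⊔ P = ⊤ := (hmax _ le_sup_right).resolve_left fun e => by
    refine hWne (eq_bot_iff.2 fun x hx => hWP ▸ ⟨hx, ?_⟩)
    rw [← e]; exact mem_sup_left hx
  have hfaith := faithful W hWtop hP2 hO
  -- an involution inverting an element of prime order of `W`
  have hinv : ∀ t ∈ P, t * t = 1 → t ≠ 1 →
      ∃ w ∈ W, (orderOf w).Prime ∧ t * w * t⁻¹ = w⁻¹ := by
    intro t ht ht2 ht1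
    obtain ⟨w₀, hw₀, hne⟩ : ∃ w ∈ W, t * w * t⁻¹ ≠ w := by
      by_contra! hh
      refine ht1 (mem_bot.1 (hfaith ▸ (⟨ht, mem_centralizer_iff.2 fun w hw => ?_⟩ : t ∈ P ⊓ centralizer (W : Set _))))
      conv_lhs => rw [← hh w hw]
      group
    set x := w₀⁻¹ * (t * w₀ * t⁻¹)
    have hti : t⁻¹ = t := inv_eq_of_mul_eq_one_right ht2
    have hxW : x ∈ W := mul_mem (inv_mem hw₀) (hWn.conj_mem _ hw₀ t)
    have hx1 : x ≠ 1 := fun e => hne (inv_mul_eq_one.1 e).symm
    have hxi : t * x * t⁻¹ = x⁻¹ := by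
      calc t * x * t⁻¹ = (t * w₀⁻¹ * t⁻¹) * ((t * t) * w₀ * (t⁻¹ * t⁻¹)) := by
            simp only [x]; group
        _ = x⁻¹ := by rw [ht2, hti, ht2]; simp only [x, mul_inv_rev, inv_inv, hti]; group
    obtain ⟨p, hp, hpd⟩ := Nat.exists_prime_and_dvd (n := orderOf x) (fun h => hx1 (orderOf_eq_one_iff.1 h))
    refine ⟨x ^ (orderOf x / p), pow_mem hxW _, ?_, ?_⟩
    · rwa [orderOf_pow_orderOf_div (orderOf_pos x).ne' hpd]
    · rw [← conj_pow, hxi, inv_pow]
  -- the index is prime
  obtain ⟨A, hAT, hAsq, hAQ, hAV⟩ := c.exists_offender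
  obtain ⟨a, haA, haQ⟩ := SetLike.not_le_iff_exists.1 hAQ
  have haH : a ∈ c.H := c.T_le_H (hAT haA)
  set t := π ⟨a, haH⟩
  have htP : t ∈ P := mem_map_of_mem _ (show (⟨a, haH⟩ : c.H) ∈ T' from hAT haA)
  have ht1 : t ≠ 1 := fun e => haQ ((QuotientGroup.eq_one_iff (N := Q') (⟨a, haH⟩ : c.H)).1 e)
  have ht2 : t * t = 1 := by
    rw [← map_mul, show (⟨a, haH⟩ : c.H) * ⟨a, haH⟩ = 1 from Subtype.ext (hAsq a haA), map_one]
  have hkprime : k.Prime := by
    obtain ⟨w, hwW, hwp, hwi⟩ := hinv t htP ht2 ht1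
    rw [← hWk]
    suffices zpowers w = W by rw [← this, Nat.card_zpowers]; exact hwp
    rcases Nat.lt_or_ge m 2 with hm1 | hm2
    · -- `P = {1, t}`
      have hPt : P = zpowers t := (eq_of_le_of_card_ge (zpowers_le.2 htP) (by
        rw [Nat.card_zpowers, orderOf_eq_prime (by rw [pow_two]; exact ht2) ht1, hm]
        exact (Nat.pow_le_pow_right (by norm_num) (by omega : m ≤ 1)).trans (by norm_num))).symm
      have hn : P ≤ normalizer ((zpowers w : Subgroup _) : Set (↥c.H ⧸ Q')) := by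
        rw [hPt, zpowers_le, mem_normalizer_iff_map_conj_eq, MonoidHom.map_zpowers]
        show zpowers (t * w * t⁻¹) = zpowers w
        rw [hwi, zpowers_inv]
      refine eq_of_le_of_card_ge (zpowers_le.2 hwW) ?_
      have htop : zpowers w ⊔ P = ⊤ := (hmax _ le_sup_right).resolve_left fun e => by
        have hwP : w ∈ P := e.le (mem_sup_left (mem_zpowers w))
        have : w ∈ W ⊓ P := ⟨hwW, hwP⟩
        rw [hWP, mem_bot] at this
        rw [this, orderOf_one] at hwp
        exact Nat.not_prime_one hwp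
      have h := PLocal.card_sup_mul_card_inf hn
      have hd : zpowers w ⊓ P = ⊥ :=
        eq_bot_iff.2 ((inf_le_inf_right P (zpowers_le.2 hwW)).trans hWP.le)
      rw [htop, hd, card_top, card_bot, mul_one, ← P.card_mul_index, ← hk, ← hWk, mul_comm] at h
      exact (Nat.eq_of_mul_eq_mul_right Nat.card_pos h).le
    · by_contra hne
      have hlt1 : (⊥ : Subgroup (↥c.H ⧸ Q')) < zpowers w := bot_lt_iff_ne_bot.2 fun e => by
        rw [zpowers_eq_bot] at e
        rw [e, orderOf_one] at hwp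
        exact Nat.not_prime_one hwp
      have hlt2 : zpowers w < W := lt_of_le_of_ne (zpowers_le.2 hwW) hne
      have hlt3 : W < W ⊔ zpowers t := lt_of_le_of_ne le_sup_left fun e => by
        have h : t ∈ W ⊓ P := ⟨e ▸ mem_sup_right (mem_zpowers t), htP⟩
        rw [hWP, mem_bot] at h
        exact ht1 h
      have hlt4 : W ⊔ zpowers t < ⊤ := lt_top_iff_ne_top.2 fun e => by
        have h := PLocal.card_sup_mul_card_inf (H := W) (K := zpowers t)
          (by rw [normalizer_eq_top_iff.2 hWn]; exact le_top)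
        have hd : W ⊓ zpowers t = ⊥ :=
          eq_bot_iff.2 ((inf_le_inf_left W (zpowers_le.2 htP)).trans hWP.le)
        rw [e, hd, card_top, card_bot, mul_one, ← P.card_mul_index, ← hk, ← hWk, Nat.card_zpowers,
          orderOf_eq_prime (by rw [pow_two]; exact ht2) ht1, mul_comm] at h
        have h2 := Nat.eq_of_mul_eq_mul_left Nat.card_pos h
        rw [hm] at h2
        exact absurd (Nat.pow_right_injective le_rfl (h2.trans (pow_one 2).symm)) (by omega)
      have hmono : StrictMono (fun L : Subgroup (↥c.H ⧸ Q') => (L.comap π).map c.H.subtype) :=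
        (Monotone.strictMono_of_injective (fun a b h => map_mono (comap_mono h))
          ((map_injective c.H.subtype_injective).comp (comap_injective hπ)))
      have hbot : Deep ((((⊥ : Subgroup (↥c.H ⧸ Q')).comap π)).map c.H.subtype) q := by
        rw [MonoidHom.comap_bot, hker, map_subgroupOf_eq_of_le c.loc.le]
        exact deep_pGroup hq
      have hd := (((hbot.succ (hmono hlt1)).succ (hmono hlt2)).succ (hmono hlt3)).succ (hmono hlt4)
      have htop : ((⊤ : Subgroup (↥c.H ⧸ Q')).comap π).map c.H.subtype = c.H := by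
        rw [comap_top, ← MonoidHom.range_eq_map, range_subtype]
      have hd' := (hd.succ (K := _) (H := (⊤ : Subgroup G)) (by beta_reduce; rw [htop]; exact c.H_ne_top.lt_top))
      -- hence `|V| ≤ 8`, and the index is at most seven
      have hq3 : q ≤ 3 := by
        by_contra hq4
        exact D.short (by
          have : q + 1 + 1 + 1 + 1 + 1 = 9 := by omega
          exact this ▸ hd')
      have hV8 : Nat.card c.V ≤ 8 := hVQ.trans ((Nat.pow_le_pow_right (by norm_num) hq3).trans (by norm_num))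
      have hk7 : k = 3 ∨ k = 5 ∨ k = 7 := by obtain ⟨j, hj⟩ := hkodd; omega
      have hkp : (Nat.card W).Prime := by rw [hWk]; rcases hk7 with h | h | h <;> rw [h] <;> norm_num
      refine hne (eq_of_le_of_card_ge hlt2.le (le_of_eq ?_))
      rcases (Nat.dvd_prime hkp).1 (card_dvd_of_le hlt2.le) with h | h
      · rw [Nat.card_zpowers] at h
        exact absurd (h ▸ hwp) Nat.not_prime_one
      · exact h.symm
  haveI := Fact.mk hkprime
  -- involutions of `P` invert `W`
  have hWinv : ∀ s ∈ P, s * s = 1 → s ≠ 1 → ∀ w ∈ W, s * w * s⁻¹ = w⁻¹ := by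
    intro s hs hs2 hs1 w hw
    obtain ⟨w₁, hw₁, hp₁, hi₁⟩ := hinv s hs hs2 hs1
    have hz : zpowers w₁ = W := by
      refine eq_of_le_of_card_ge (zpowers_le.2 hw₁) (le_of_eq ?_)
      have hd := card_dvd_of_le (zpowers_le.2 hw₁ : zpowers w₁ ≤ W)
      rw [Nat.card_zpowers, hWk, Nat.prime_dvd_prime_iff_eq hp₁ hkprime] at hd
      rw [Nat.card_zpowers, hWk, hd]
    obtain ⟨i, rfl⟩ := mem_zpowers_iff.1 (hz ▸ hw)
    rw [← conj_zpow, hi₁, inv_zpow]
  -- the image of `A` has order two
  have hAimg : ∀ x ∈ A, x ∈ c.Q ∨ x * a ∈ c.Q := by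
    intro x hx
    by_contra! hh
    have hxH : x ∈ c.H := c.T_le_H (hAT hx)
    set s := π ⟨x, hxH⟩
    have hsP : s ∈ P := mem_map_of_mem _ (show (⟨x, hxH⟩ : c.H) ∈ T' from hAT hx)
    have hs1 : s ≠ 1 := fun e => hh.1 ((QuotientGroup.eq_one_iff (N := Q') (⟨x, hxH⟩ : c.H)).1 e)
    have hs2 : s * s = 1 := by
      rw [← map_mul, show (⟨x, hxH⟩ : c.H) * ⟨x, hxH⟩ = 1 from Subtype.ext (hAsq x hx), map_one]
    refine hh.2 (mem_subgroupOf.1 ((QuotientGroup.eq_one_iff (N := Q') (⟨x, hxH⟩ * ⟨a, haH⟩ : c.H)).1 ?_))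
    show π (⟨x, hxH⟩ * ⟨a, haH⟩) = 1
    rw [map_mul]
    refine mem_bot.1 (hfaith ▸ ⟨mul_mem hsP htP, mem_centralizer_iff.2 fun w hw => ?_⟩)
    have e : s * t * w * (s * t)⁻¹ = w := by
      calc s * t * w * (s * t)⁻¹ = s * (t * w * t⁻¹) * s⁻¹ := by group
        _ = s * w⁻¹ * s⁻¹ := by rw [hWinv t htP ht2 ht1 w hw]
        _ = (s * w * s⁻¹)⁻¹ := by group
        _ = w := by rw [hWinv s hsP hs2 hs1 w hw, inv_inv]
    calc w * (s * t) = s * t * w * (s * t)⁻¹ * (s * t) := by rw [e]
      _ = s * t * w := by group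
  have hVcent : Nat.card c.V ≤ 2 * Nat.card ↥(c.V ⊓ centralizer ({a} : Set G)) := by
    have hA2 : Nat.card A ≤ 2 * Nat.card ↥(A ⊓ c.Q) := by
      have hr : ((A ⊓ c.Q).subgroupOf A).index ≤ 2 := by
        rw [index_eq_card]
        have hsurj : Function.Surjective (fun b : Bool => ((cond b 1 ⟨a, haA⟩ : A) : A ⧸ (A ⊓ c.Q).subgroupOf A)) := by
          intro y
          induction y using QuotientGroup.induction_on with | H x => ?_
          rcases hAimg x x.2 with h | h
          · refine ⟨true, QuotientGroup.eq.2 ?_⟩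
            show ((1 : A)⁻¹ * x : A).1 ∈ A ⊓ c.Q
            rw [inv_one, one_mul]
            exact ⟨x.2, h⟩
          · refine ⟨false, QuotientGroup.eq.2 ?_⟩
            have ei : a⁻¹ = a := inv_eq_of_mul_eq_one_right (hAsq a haA)
            show (a⁻¹ * (x : G)) ∈ A ⊓ c.Q
            rw [ei]
            exact ⟨mul_mem haA x.2, by rwa [comm_of_sq hAsq haA x.2]⟩
        exact (Nat.card_le_card_of_surjective _ hsurj).trans (by simp)
      have h := ((A ⊓ c.Q).subgroupOf A).card_mul_index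
      rw [Nat.card_congr (subgroupOfEquivOfLe inf_le_left).toEquiv] at h
      rw [← h, mul_comm 2]
      exact Nat.mul_le_mul_left _ hr
    have hle : A ⊓ c.V ≤ c.V ⊓ centralizer ({a} : Set G) := fun v hv =>
      ⟨hv.2, mem_centralizer_singleton_iff.2 (comm_of_sq hAsq hv.1 haA)⟩
    have h2 : Nat.card c.V * Nat.card ↥(A ⊓ c.Q) ≤ 2 * Nat.card ↥(A ⊓ c.V) * Nat.card ↥(A ⊓ c.Q) := by
      calc Nat.card c.V * Nat.card ↥(A ⊓ c.Q) ≤ Nat.card A * Nat.card ↥(A ⊓ c.V) := hAV
        _ ≤ 2 * Nat.card ↥(A ⊓ c.Q) * Nat.card ↥(A ⊓ c.V) := Nat.mul_le_mul_right _ hA2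
        _ = _ := by ring
    exact (Nat.le_of_mul_le_mul_right h2 Nat.card_pos).trans (Nat.mul_le_mul_left 2 (card_le_of_le hle))
  -- the prime is three
  obtain ⟨w, hwW, hwp, hwi⟩ := hinv t htP ht2 ht1
  obtain ⟨⟨g, hgH⟩, hgw⟩ := hπ w
  have hwk : orderOf w = k := by
    have hd := card_dvd_of_le (zpowers_le.2 hwW : zpowers w ≤ W)
    rwa [Nat.card_zpowers, hWk, Nat.prime_dvd_prime_iff_eq hwp hkprime] at hd
  have hk3 : k = 3 := by
    set a' := g * a * g⁻¹
    have ha'H : a' ∈ c.H := mul_mem (mul_mem hgH haH) (inv_mem hgH)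
    set g₂ := a' * a
    have hg₂H : g₂ ∈ c.H := mul_mem ha'H haH
    have hπg₂ : π ⟨g₂, hg₂H⟩ = w * w := by
      rw [show (⟨g₂, hg₂H⟩ : c.H) = (⟨g, hgH⟩ * ⟨a, haH⟩ * ⟨g, hgH⟩⁻¹) * ⟨a, haH⟩ from rfl]
      simp only [map_mul, map_inv, hgw]
      show w * t * w⁻¹ * t = w * w
      have hti : t⁻¹ = t := inv_eq_of_mul_eq_one_right ht2
      calc w * t * w⁻¹ * t = w * (t * w⁻¹ * t⁻¹) := by rw [hti]; group
        _ = w * (t * w * t⁻¹)⁻¹ := by group
        _ = w * w := by rw [hwi, inv_inv]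
    set C₁ := c.V ⊓ centralizer ({a} : Set G)
    set C := C₁ ⊓ centralizer ({a'} : Set G)
    have hC4 : Nat.card c.V ≤ 4 * Nat.card C := by
      set C₂ := c.V ⊓ centralizer ({a'} : Set G)
      have h2 : Nat.card C₂ = Nat.card C₁ := by
        have : C₂ = C₁.map (MulAut.conj g).toMonoidHom := by
          ext x
          constructor
          · intro hx
            refine ⟨g⁻¹ * x * g, ⟨by simpa using c.conj_mem_V (inv_mem hgH) hx.1, ?_⟩, by simp [mul_assoc]⟩
            have := mem_centralizer_singleton_iff.1 hx.2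
            refine mem_centralizer_singleton_iff.2 ?_
            calc g⁻¹ * x * g * a = g⁻¹ * (x * a') * g := by simp only [a']; group
              _ = g⁻¹ * (a' * x) * g := by rw [this]
              _ = a * (g⁻¹ * x * g) := by simp only [a']; group
          · rintro ⟨y, hy, rfl⟩
            refine ⟨c.conj_mem_V hgH hy.1, mem_centralizer_singleton_iff.2 ?_⟩
            show g * y * g⁻¹ * (g * a * g⁻¹) = g * a * g⁻¹ * (g * y * g⁻¹)
            calc g * y * g⁻¹ * (g * a * g⁻¹) = g * (y * a) * g⁻¹ := by group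
              _ = g * (a * y) * g⁻¹ := by rw [mem_centralizer_singleton_iff.1 hy.2]
              _ = _ := by group
        rw [this]
        exact (Nat.card_congr (C₁.equivMapOfInjective (MulAut.conj g).toMonoidHom
          (MulAut.conj g).injective).toEquiv).symm
      have hn : C₂ ≤ normalizer (C₁ : Set G) := le_trans (fun x hx => mem_centralizer_iff.2 fun y hy =>
        comm_of_sq (fun v hv => c.V_sq hv) hy.1 hx.1) (centralizer_le_normalizer _)
      have h := PLocal.card_sup_mul_card_inf hn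
      have hi : C₁ ⊓ C₂ = C := by
        refine le_antisymm (fun x hx => ⟨hx.1, hx.2.2⟩) fun x hx => ⟨hx.1, hx.1.1, hx.2⟩
      rw [hi, h2] at h
      have hsup : Nat.card ↥(C₁ ⊔ C₂) ≤ Nat.card c.V := card_le_of_le (sup_le inf_le_left inf_le_left)
      have h1 : Nat.card C₁ * Nat.card C₁ ≤ Nat.card c.V * Nat.card C := h ▸ Nat.mul_le_mul_right _ hsup
      nlinarith [hVcent, Nat.card_pos (α := c.V)]
    have hfix : ∀ v ∈ C, g₂ * v * g₂⁻¹ = v := by
      intro v hv
      have e1 := mem_centralizer_singleton_iff.1 hv.1.2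
      have e2 := mem_centralizer_singleton_iff.1 hv.2
      have : v * (a' * a) = a' * a * v := by rw [← mul_assoc, e2, mul_assoc a', e1, ← mul_assoc]
      rw [← this, mul_inv_cancel_right]
    have h12 := pow_twelve_commute (fun v hv => c.V_sq hv) (fun v hv => c.conj_mem_V hg₂H hv)
      (inf_le_left.trans inf_le_left) hfix hC4
    have hQ : g₂ ^ 12 ∈ c.Q := c.mem_Q_of_fix_V (pow_mem hg₂H _) fun v hv => by
      conv_lhs => rw [← h12 v hv]
      group
    have h1 : (w * w) ^ 12 = 1 := by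
      rw [← hπg₂, ← map_pow]
      exact (QuotientGroup.eq_one_iff _).2 hQ
    rw [← pow_two, ← pow_mul, ← orderOf_dvd_iff_pow_eq_one, hwk] at h1
    have hd : k ∣ 2 ^ 3 * 3 := by norm_num; exact h1
    rcases (Nat.Prime.dvd_mul hkprime).1 hd with h | h
    · exact absurd ((Nat.prime_dvd_prime_iff_eq hkprime Nat.prime_two).1 (hkprime.dvd_of_dvd_pow h))
        fun e => by rw [e] at hkodd; exact absurd hkodd (by decide)
    · exact (Nat.prime_dvd_prime_iff_eq hkprime Nat.prime_three).1 h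
  -- hence `|P| = 2`
  have hP2' : Nat.card P = 2 := by
    have hP4 : ∀ s ∈ P, s ≠ 1 → s * w * s⁻¹ = w⁻¹ := by
      intro s hs hs1
      have hsw : s * w * s⁻¹ ∈ W := hWn.conj_mem w hwW s
      have hWw : W = zpowers w :=
        (eq_of_le_of_card_ge (zpowers_le.2 hwW) (by rw [Nat.card_zpowers, hwk, hWk])).symm
      obtain ⟨i, hi⟩ := mem_zpowers_iff.1 (hWw ▸ hsw)
      have hi3 : w ^ i = w ^ (i % 3) := by
        have h := zpow_mod_orderOf w i
        rw [hwk, hk3] at h
        exact h.symm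
      have hcases : i % 3 = 0 ∨ i % 3 = 1 ∨ i % 3 = 2 := by omega
      rcases hcases with h | h | h <;> rw [hi3, h] at hi
      · rw [zpow_zero] at hi
        exfalso
        have := conj_eq_one_iff.1 hi.symm
        rw [this, orderOf_one] at hwp
        exact Nat.not_prime_one hwp
      · rw [zpow_one] at hi
        exfalso
        refine hs1 (mem_bot.1 (hfaith ▸ ⟨hs, mem_centralizer_iff.2 fun v hv => ?_⟩))
        obtain ⟨j, rfl⟩ := mem_zpowers_iff.1 (hWw ▸ hv)
        have hc : Commute s w := by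
          show s * w = w * s
          conv_rhs => rw [hi]
          group
        exact (hc.zpow_right j).symm.eq
      · rw [← hi]
        refine eq_inv_of_mul_eq_one_left ?_
        rw [← zpow_add_one, show (2 : ℤ) + 1 = ((3 : ℕ) : ℤ) from rfl, zpow_natCast, ← hk3, ← hwk,
          pow_orderOf_eq_one]
    have hsub : ∀ s ∈ P, s = 1 ∨ s = t := by
      intro s hs
      by_contra! hh
      refine hh.2 ?_
      have hst : s * t⁻¹ ∈ P ⊓ centralizer (W : Set _) := by
        refine ⟨P.mul_mem hs (P.inv_mem htP), mem_centralizer_iff.2 fun v hv => ?_⟩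
        have hWw : W = zpowers w :=
          (eq_of_le_of_card_ge (zpowers_le.2 hwW) (by rw [Nat.card_zpowers, hwk, hWk])).symm
        obtain ⟨j, rfl⟩ := mem_zpowers_iff.1 (hWw ▸ hv)
        have hti : t⁻¹ = t := inv_eq_of_mul_eq_one_right ht2
        have e : s * t⁻¹ * w * (s * t⁻¹)⁻¹ = w := by
          calc s * t⁻¹ * w * (s * t⁻¹)⁻¹ = s * (t⁻¹ * w * t) * s⁻¹ := by group
            _ = s * (t * w * t⁻¹) * s⁻¹ := by rw [hti]
            _ = (s * w * s⁻¹)⁻¹ := by rw [hwi]; group
            _ = w := by rw [hP4 s hs hh.1, inv_inv]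
        have hc : Commute (s * t⁻¹) w := by
          show s * t⁻¹ * w = w * (s * t⁻¹)
          conv_rhs => rw [← e]
          group
        exact (hc.zpow_right j).symm.eq
      rw [hfaith, mem_bot, mul_inv_eq_one] at hst
      exact hst
    have hle : Nat.card P ≤ 2 := by
      have hsurj : Function.Surjective (fun b : Bool => (cond b 1 ⟨t, htP⟩ : P)) := by
        intro s
        rcases hsub s s.2 with h | h
        · exact ⟨true, Subtype.ext h.symm⟩
        · exact ⟨false, Subtype.ext h.symm⟩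
      exact (Nat.card_le_card_of_surjective _ hsurj).trans (by simp)
    rw [hm] at hle ⊢
    have : 2 ^ 1 ≤ 2 ^ m := Nat.pow_le_pow_right (by norm_num) (by omega)
    omega
  exact ⟨by rw [← hH, hk3, mul_comm], by rw [← hPQ, hP2'], a, hAT haA, haQ, hAsq a haA, hVcent⟩

end Cfg

end Cfsg.Agent.LengthEight
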