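import Cfsg.Agent.Lib.LengthEight.Growth

/-!
# The decomposition of the largest local subgroup (helper98)

`Cfg.exists_dec`: `Q = ⟨f, n₀⟩ × E` with `E` centralized by the involution `a` and an element `y` of order 3,
where `H` is generated by `Q`, `a` and `y`, and `a` lies in the conjugate of `V` by `u`.
-/

set_option autoImplicit false
set_option linter.style.haveILetI false
set_option linter.unusedSectionVars false

namespace Cfsg.Agent.LengthEight

open Subgroup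

variable {G : Type*} [Group G] [Finite G]

/-- The decomposition `H = (V₄ ⋊ S₃) × E`. -/
structure Dec {D : Setting G} (c : Cfg D) where
  u : G
  u_mem : u ∈ (D.S : Subgroup G)
  u_norm : u ∈ normalizer (c.T : Set G)
  u_not : u ∉ c.T
  u_sq : u * u ∈ c.T
  a : G
  f : G
  n₀ : G
  y : G
  h : G
  E : Subgroup G
  a_mem : a ∈ c.T
  a_not : a ∉ c.Q
  a_sq : a * a = 1
  a_Qu : a ∈ cj u c.Q
  a_cent : ∀ q ∈ c.Q, q ∈ cj u c.Q → q * a = a * q
  cent_a : ∀ q ∈ c.Q, q * a = a * q → q ∈ cj u c.Q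
  f_mem : f ∈ c.V
  n₀_mem : n₀ ∈ c.V
  afa : a * f * a⁻¹ = f * n₀
  an₀ : a * n₀ * a⁻¹ = n₀
  n₀_ne : n₀ ≠ 1
  f_ne : f ≠ 1
  f_ne_n₀ : f ≠ n₀
  E_le : E ≤ c.Q
  E_Qu : E ≤ cj u c.Q
  E_a : ∀ e ∈ E, e * a = a * e
  E_y : ∀ e ∈ E, e * y = y * e
  E_norm : c.H ≤ normalizer (E : Set G)
  card_Q : Nat.card c.Q = 4 * Nat.card E
  dec : ∀ q ∈ c.Q, ∃ e ∈ E, q = e ∨ q = n₀ * e ∨ q = f * e ∨ q = f * n₀ * e
  n₀_not : n₀ ∉ E
  f_not : f ∉ E
  fn₀_not : f * n₀ ∉ E
  y_mem : y ∈ c.H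
  gen : ∀ L : Subgroup G, c.Q ≤ L → a ∈ L → y ∈ L → c.H ≤ L
  h_mem : h ∈ c.H
  h_conj : h * n₀ * h⁻¹ = f
  E_h : ∀ e ∈ E, e * h = h * e

theorem conj_two_eq {a y : G} {k : ℕ} (h : a * y * a⁻¹ = y⁻¹) : a * y ^ k * a⁻¹ = (y ^ k)⁻¹ := by
  rw [← conj_pow, h, inv_pow]

theorem Cfg.exists_dec [IsSimpleGroup G] {D : Setting G} (c : Cfg D) : Nonempty (Dec c) := by
  classical
  haveI := Fact.mk Nat.prime_two
  haveI : Fact (Nat.Prime 3) := ⟨Nat.prime_three⟩
  obtain ⟨u, huS, huN, huT, hu2⟩ := c.exists_outside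
  obtain ⟨v₀, hv₀, hv₀Q⟩ := c.exists_swap_outside huS huN huT hu2
  set a := u * v₀ * u⁻¹ with ha
  have haQu : a ∈ cj u c.Q := conj_mem_cj (c.V_le_Q hv₀)
  have haT : a ∈ c.T := c.Qu_le_T huS huN huT hu2 haQu
  have haH : a ∈ c.H := c.T_le_H haT
  have ha2 : a * a = 1 := by
    calc a * a = u * (v₀ * v₀) * u⁻¹ := by simp only [a]; group
      _ = 1 := by rw [c.V_sq hv₀]; group
  have hai : a⁻¹ = a := inv_eq_of_mul_eq_one_right ha2
  set M := c.Q ⊓ cj u c.Q with hM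
  have hMcard : 2 * Nat.card M = Nat.card c.Q := c.card_M huS huN huT hu2
  have hacent : ∀ q ∈ M, q * a = a * q := fun q hq => c.Qu_comm huS huN huT hu2 hv₀ hq.2
  have hcenta : ∀ q ∈ c.Q, q * a = a * q → q ∈ M := by
    intro q hq hqa
    by_contra hqM
    have hle : M < c.Q ⊓ centralizer ({a} : Set G) := lt_of_le_of_ne
      (fun x hx => ⟨hx.1, mem_centralizer_singleton_iff.2 (hacent x hx)⟩)
      fun e => hqM (e ▸ ⟨hq, mem_centralizer_singleton_iff.2 hqa⟩)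
    have h := eq_of_lt_of_half hle inf_le_left hMcard.ge
    exact hv₀Q (c.loc.cent (mem_centralizer_iff.2 fun x hx => mem_centralizer_singleton_iff.1 (h.ge hx).2))
  -- an element of order three inverted by `a`
  obtain ⟨⟨g, hgH⟩, hg⟩ := exists_prime_orderOf_dvd_card' (G := c.H) 3 (by rw [c.shape.1]; exact Dvd.intro _ rfl)
  set a' := g * a * g⁻¹ with ha'
  have ha'H : a' ∈ c.H := mul_mem (mul_mem hgH haH) (inv_mem hgH)
  have ha'2 : a' * a' = 1 := by
    calc a' * a' = g * (a * a) * g⁻¹ := by simp only [a']; group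
      _ = 1 := by rw [ha2]; group
  have hnot2 : ¬ ∃ j, (a * a') ^ 2 ^ j = 1 := by
    rintro ⟨j, hj⟩
    have hne : a ≠ a' := by
      intro e
      have hcomm : g * a = a * g := by
        calc g * a = a' * g := by simp only [a']; group
          _ = a * g := by rw [← e]
      -- then `g` normalizes `T = Q ⊔ ⟨a⟩`
      have hlt : c.Q < c.Q ⊔ zpowers a :=
        lt_of_le_of_ne le_sup_left fun e => hv₀Q (e ▸ mem_sup_right (mem_zpowers a))
      have hT := eq_of_lt_of_half hlt (sup_le c.Q_le_T (zpowers_le.2 haT)) c.card_T_two_mul.le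
      have hgT : g ∈ normalizer (c.T : Set G) := by
        rw [← hT, ← cj_eq_iff_mem_normalizer]
        show map _ (c.Q ⊔ zpowers a) = _
        rw [Subgroup.map_sup, MonoidHom.map_zpowers]
        show cj g c.Q ⊔ zpowers (g * a * g⁻¹) = _
        rw [cj_eq_iff_mem_normalizer.2 (c.loc.norm hgH), hcomm, mul_inv_cancel_right]
      rcases c.eq_T_or_H (L := normalizer (c.T : Set G) ⊓ c.H) (le_inf le_normalizer c.T_le_H) inf_le_right
        with h | h
      · have hgT' : g ∈ c.T := h ▸ ⟨hgT, hgH⟩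
        obtain ⟨k, hk⟩ := c.T_two ⟨g, hgT'⟩
        have hd : orderOf g ∣ 2 ^ k := orderOf_dvd_of_pow_eq_one (congrArg Subtype.val hk)
        rw [show orderOf g = 3 from (orderOf_coe (⟨g, hgH⟩ : c.H)).trans hg] at hd
        exact absurd (Nat.prime_three.dvd_of_dvd_pow hd) (by norm_num)
      · exact c.T_ne_Q (le_antisymm (c.core c.T c.T_le_H c.T_two (h ▸ inf_le_left)) c.Q_le_T)
    have ha1 : a ≠ 1 := fun e => hv₀Q (e ▸ one_mem _)
    have hP := Involution.isPGroup_closure_pair (Involution.orderOf_of_sq ha2 ha1)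
      (Involution.orderOf_of_sq ha'2 (fun e => ha1 (conj_eq_one_iff.1 e))) hne hj
    set P := closure ({a, a'} : Set G)
    have hPH : P ≤ c.H := (closure_le _).2 (Set.insert_subset haH (Set.singleton_subset_iff.2 ha'H))
    have h2 : IsPGroup 2 ↥(P ⊔ c.Q) := hP.to_sup_of_normal_right' c.loc.two (hPH.trans c.loc.norm)
    have hmax := c.max _ _ c.loc _ (sup_le hPH c.loc.le) h2
    have hlt : c.Q < P ⊔ c.Q :=
      lt_of_le_of_ne le_sup_right fun e => hv₀Q (e ▸ mem_sup_left (subset_closure (Set.mem_insert _ _)))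
    -- `P ⊔ Q = T` and `g` normalizes it
    have hTP : c.T ≤ P ⊔ c.Q := by
      have hlt' : c.Q < c.Q ⊔ zpowers a :=
        lt_of_le_of_ne le_sup_left fun e => hv₀Q (e ▸ mem_sup_right (mem_zpowers a))
      rw [← eq_of_lt_of_half hlt' (sup_le c.Q_le_T (zpowers_le.2 haT)) c.card_T_two_mul.le]
      exact sup_le le_sup_right (zpowers_le.2 (mem_sup_left (subset_closure (Set.mem_insert _ _))))
    have hTeq : c.T = P ⊔ c.Q := eq_of_le_of_card_ge hTP hmax
    have hgT : g ∈ normalizer (c.T : Set G) := by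
      have hlt' : c.Q < c.Q ⊔ zpowers a :=
        lt_of_le_of_ne le_sup_left fun e => hv₀Q (e ▸ mem_sup_right (mem_zpowers a))
      have hT := eq_of_lt_of_half hlt' (sup_le c.Q_le_T (zpowers_le.2 haT)) c.card_T_two_mul.le
      rw [← cj_eq_iff_mem_normalizer]
      refine eq_of_le_of_card_ge ?_ (card_cj g c.T).ge
      conv_lhs => rw [← hT]
      show map _ (c.Q ⊔ zpowers a) ≤ _
      rw [Subgroup.map_sup, MonoidHom.map_zpowers]
      refine sup_le ((cj_eq_iff_mem_normalizer.2 (c.loc.norm hgH)).le.trans c.Q_le_T) (zpowers_le.2 ?_)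
      rw [hTeq]
      exact mem_sup_left (subset_closure (Set.mem_insert_of_mem _ rfl))
    rcases c.eq_T_or_H (L := normalizer (c.T : Set G) ⊓ c.H) (le_inf le_normalizer c.T_le_H) inf_le_right
      with h | h
    · have hgT' : g ∈ c.T := h ▸ ⟨hgT, hgH⟩
      obtain ⟨k, hk⟩ := c.T_two ⟨g, hgT'⟩
      have hd : orderOf g ∣ 2 ^ k := orderOf_dvd_of_pow_eq_one (congrArg Subtype.val hk)
      rw [show orderOf g = 3 from (orderOf_coe (⟨g, hgH⟩ : c.H)).trans hg] at hd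
      exact absurd (Nat.prime_three.dvd_of_dvd_pow hd) (by norm_num)
    · exact c.T_ne_Q (le_antisymm (c.core c.T c.T_le_H c.T_two (h ▸ inf_le_left)) c.Q_le_T)
  obtain ⟨b, hb6, hb⟩ := c.card_T
  have hpH : a * a' ∈ c.H := mul_mem haH ha'H
  have hdvd : orderOf (a * a') ∣ 3 * 2 ^ b := by
    rw [← hb, ← c.shape.1, show a * a' = ((⟨_, hpH⟩ : c.H) : G) from rfl, orderOf_coe]
    exact orderOf_dvd_natCard _
  set y := (a * a') ^ 2 ^ b with hy
  have hy3 : orderOf y = 3 := by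
    refine orderOf_eq_prime ?_ fun e => hnot2 ⟨b, e⟩
    rw [hy, ← pow_mul, mul_comm, ← orderOf_dvd_iff_pow_eq_one]
    exact hdvd
  have hyH : y ∈ c.H := pow_mem hpH _
  have hya : a * y * a⁻¹ = y⁻¹ := by
    refine conj_two_eq (eq_inv_of_mul_eq_one_left ?_)
    calc a * (a * a') * a⁻¹ * (a * a') = (a * a) * (a' * a') := by group
      _ = 1 := by rw [ha2, ha'2, one_mul]
  have hycube : y ^ 3 = 1 := hy3 ▸ pow_orderOf_eq_one y
  have hy' : y * y * y = 1 := by rw [← hycube]; simp [pow_succ]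
  have hyT : y ∉ c.T := by
    intro hyT
    obtain ⟨k, hk⟩ := c.T_two ⟨y, hyT⟩
    have hd : orderOf y ∣ 2 ^ k := orderOf_dvd_of_pow_eq_one (congrArg Subtype.val hk)
    rw [hy3] at hd
    exact absurd (Nat.prime_three.dvd_of_dvd_pow hd) (by norm_num)
  -- the fixed part
  set I := M ⊓ cj g M with hI
  have hM1Q : cj g M ≤ c.Q := (cj_le_cj inf_le_left).trans (cj_eq_iff_mem_normalizer.2 (c.loc.norm hgH)).le
  have hIa : ∀ e ∈ I, e * a = a * e := fun e he => hacent e he.1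
  have hIa' : ∀ e ∈ I, e * a' = a' * e := by
    intro e he
    have h := hacent _ (mem_cj.1 he.2)
    calc e * a' = g * (g⁻¹ * e * g * a) * g⁻¹ := by simp only [a']; group
      _ = g * (a * (g⁻¹ * e * g)) * g⁻¹ := by rw [h]
      _ = a' * e := by simp only [a']; group
  have hIy : ∀ e ∈ I, e * y = y * e := fun e he =>
    (((show Commute e a from hIa e he).mul_right (hIa' e he)).pow_right _).eq
  have hQI : Nat.card c.Q ≤ 4 * Nat.card I := by
    have hn : cj g M ≤ normalizer (M : Set G) :=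
      (hM1Q.trans c.Q_le_T).trans (c.T_norm_M huS huN huT hu2)
    have h := PLocal.card_sup_mul_card_inf hn
    rw [card_cj, ← hI] at h
    have hs : Nat.card ↥(M ⊔ cj g M) ≤ Nat.card c.Q := card_le_of_le (sup_le inf_le_left hM1Q)
    have h2 : Nat.card c.Q * Nat.card c.Q ≤ Nat.card c.Q * (4 * Nat.card I) := by
      calc Nat.card c.Q * Nat.card c.Q = 4 * (Nat.card M * Nat.card M) := by rw [← hMcard]; ring
        _ = 4 * (Nat.card ↥(M ⊔ cj g M) * Nat.card I) := by rw [h]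
        _ ≤ 4 * (Nat.card c.Q * Nat.card I) := by gcongr
        _ = _ := by ring
    exact Nat.le_of_mul_le_mul_left h2 Nat.card_pos
  -- the commutators of `V` with `y`
  let d : c.V →* G := MonoidHom.mk' (fun v => (v : G) * (y * v * y⁻¹)) (fun p q => by
    have e : (q : G) * (y * p * y⁻¹) = y * p * y⁻¹ * q :=
      comm_of_sq (fun v hv => c.V_sq hv) q.2 (c.conj_mem_V hyH p.2)
    calc ((p : G) * q) * (y * ((p : G) * q) * y⁻¹) = (p : G) * ((q : G) * (y * p * y⁻¹)) * (y * q * y⁻¹) := by group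
      _ = (p : G) * (y * p * y⁻¹ * q) * (y * q * y⁻¹) := by rw [e]
      _ = _ := by group)
  set N := d.range with hN
  have hNV : N ≤ c.V := by
    rintro _ ⟨v, rfl⟩; exact c.V.mul_mem v.2 (c.conj_mem_V hyH v.2)
  have hNQ : N ≤ c.Q := hNV.trans c.V_le_Q
  have hNfix : ∀ x ∈ N, x * y = y * x → x = 1 := by
    rintro _ ⟨v, rfl⟩ hx
    set x := (v : G) * (y * v * y⁻¹)
    have hx1 : y * x * y⁻¹ = x := by rw [show y * x = x * y from hx.symm, mul_inv_cancel_right]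
    have hx2 : x * x = 1 := c.V_sq (c.V.mul_mem v.2 (c.conj_mem_V hyH v.2))
    have e : (y * y * y) * v * (y * y * y)⁻¹ = v := by rw [hy']; group
    have hv := c.V_sq v.2
    have hv1 := c.V_sq (c.conj_mem_V hyH v.2)
    have hv2 := c.V_sq (c.conj_mem_V hyH (c.conj_mem_V hyH v.2))
    show x = 1
    calc x = x * (y * x * y⁻¹) * (y * (y * x * y⁻¹) * y⁻¹) := by rw [hx1, hx1, hx2, one_mul]
      _ = v * ((y * v * y⁻¹) * (y * v * y⁻¹)) * ((y * (y * v * y⁻¹) * y⁻¹) * (y * (y * v * y⁻¹) * y⁻¹)) *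
          ((y * y * y) * v * (y * y * y)⁻¹) := by simp only [x]; group
      _ = 1 := by rw [hv1, hv2, e, mul_one, mul_one, hv]
  have hNconj : ∀ x ∈ N, y * x * y⁻¹ ∈ N := by
    rintro _ ⟨v, rfl⟩
    refine ⟨⟨_, c.conj_mem_V hyH v.2⟩, ?_⟩
    show y * v * y⁻¹ * (y * (y * v * y⁻¹) * y⁻¹) = y * ((v : G) * (y * v * y⁻¹)) * y⁻¹
    group
  have hNa : ∀ x ∈ N, a * x * a⁻¹ ∈ N := by
    rintro _ ⟨v, rfl⟩
    set v' := a * v * a⁻¹
    have hv' : v' ∈ c.V := c.conj_mem_V haH v.2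
    refine ⟨⟨y⁻¹ * v' * y, by simpa using c.conj_mem_V (inv_mem hyH) hv'⟩, ?_⟩
    have e : v' * (y⁻¹ * v' * y) = y⁻¹ * v' * y * v' :=
      comm_of_sq (fun v hv => c.V_sq hv) hv' (by simpa using c.conj_mem_V (inv_mem hyH) hv')
    show y⁻¹ * v' * y * (y * (y⁻¹ * v' * y) * y⁻¹) = a * ((v : G) * (y * v * y⁻¹)) * a⁻¹
    calc y⁻¹ * v' * y * (y * (y⁻¹ * v' * y) * y⁻¹) = y⁻¹ * v' * y * v' := by group
      _ = v' * (y⁻¹ * v' * y⁻¹⁻¹) := by rw [← e, inv_inv]
      _ = v' * ((a * y * a⁻¹) * v' * (a * y * a⁻¹)⁻¹) := by rw [hya]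
      _ = _ := by simp only [v']; group
  obtain ⟨x₀, hx₀N, hx₀1⟩ : ∃ x ∈ N, x ≠ 1 := by
    by_contra! hh
    refine hyT (c.Q_le_T (c.mem_Q_of_fix_V hyH fun v hv => ?_))
    have h := hh _ ⟨⟨v, hv⟩, rfl⟩
    change v * (y * v * y⁻¹) = 1 at h
    rw [mul_eq_one_iff_inv_eq, inv_eq_of_mul_eq_one_right (c.V_sq hv)] at h
    conv_lhs => rw [h]
    group
  have hNI : N ⊓ I = ⊥ := eq_bot_iff.2 fun x hx => mem_bot.2 (hNfix x hx.1 (hIy x hx.2))
  have hN4 : 4 ≤ Nat.card N := by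
    obtain ⟨i, hi⟩ := IsPGroup.iff_card.1 (c.loc.two.to_le hNQ)
    have h3 : 3 ≤ Nat.card N := by
      have hy₀ : y * x₀ * y⁻¹ ≠ x₀ := fun e => hx₀1 (hNfix _ hx₀N (by
        conv_lhs => rw [← e]
        group))
      have hy₁ : y * x₀ * y⁻¹ ≠ 1 := fun e => hx₀1 (conj_eq_one_iff.1 e)
      have hsub : ({1, x₀, y * x₀ * y⁻¹} : Set G) ⊆ N := by
        rintro z (rfl | rfl | rfl)
        exacts [N.one_mem, hx₀N, hNconj _ hx₀N]
      have := Set.ncard_le_ncard hsub (Set.toFinite _)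
      rw [Set.ncard_eq_three.2 ⟨1, x₀, y * x₀ * y⁻¹, hx₀1.symm, hy₁.symm, hy₀.symm, rfl⟩,
        ← Nat.card_coe_set_eq] at this
      exact this
    rw [hi] at h3 ⊢
    rcases i with _ | _ | i
    · omega
    · omega
    · exact le_trans (show 4 ≤ 2 ^ 2 by norm_num) (Nat.pow_le_pow_right two_pos (by omega))
  have hnI : I ≤ normalizer (N : Set G) := by
    refine le_trans (fun e he => mem_centralizer_iff.2 fun x hx => ?_) (centralizer_le_normalizer _)
    exact (c.V_comm (hNV hx) ((inf_le_left : M ≤ c.Q) he.1)).symm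
  have hcardNI := PLocal.card_sup_mul_card_inf hnI
  rw [hNI, card_bot, mul_one] at hcardNI
  have hsupQ : N ⊔ I ≤ c.Q := sup_le hNQ (inf_le_left.trans inf_le_left)
  have hle := card_le_of_le hsupQ
  rw [hcardNI] at hle
  have hQcard : Nat.card c.Q = 4 * Nat.card I := le_antisymm hQI ((Nat.mul_le_mul_right _ hN4).trans hle)
  have hNcard : Nat.card N = 4 := by
    refine le_antisymm ?_ hN4
    rw [hQcard] at hle
    exact Nat.le_of_mul_le_mul_right hle Nat.card_pos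
  have hQeq : N ⊔ I = c.Q := eq_of_le_of_card_ge hsupQ (by rw [hcardNI, hNcard, hQcard])
  -- an element of `N` moved by `a`
  obtain ⟨f, hfN, hfa⟩ : ∃ f ∈ N, a * f * a⁻¹ ≠ f := by
    by_contra! hh
    refine hx₀1 (hNfix x₀ hx₀N ?_)
    have h1 := hh _ (hNconj _ hx₀N)
    have h2 := hh _ hx₀N
    have e : y⁻¹ * x₀ * y = y * x₀ * y⁻¹ := by
      calc y⁻¹ * x₀ * y = (a * y * a⁻¹) * (a * x₀ * a⁻¹) * (a * y * a⁻¹)⁻¹ := by rw [hya, h2, inv_inv]
        _ = a * (y * x₀ * y⁻¹) * a⁻¹ := by group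
        _ = y * x₀ * y⁻¹ := h1
    have hyi : y * y = y⁻¹ := eq_inv_of_mul_eq_one_left hy'
    have e2 : y⁻¹ * x₀ * y = x₀ := by
      calc y⁻¹ * x₀ * y = (y * y) * x₀ * (y * y)⁻¹ := by rw [hyi, inv_inv]
        _ = y * (y * x₀ * y⁻¹) * y⁻¹ := by group
        _ = y * (y⁻¹ * x₀ * y) * y⁻¹ := by rw [e]
        _ = x₀ := by group
    calc x₀ * y = y * (y⁻¹ * x₀ * y) := by group
      _ = y * x₀ := by rw [e2]
  set n₀ := f * (a * f * a⁻¹) with hn₀
  have hn₀N : n₀ ∈ N := mul_mem hfN (hNa f hfN)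
  have hf2 : f * f = 1 := c.V_sq (hNV hfN)
  have hcf : a * f * a⁻¹ * f = f * (a * f * a⁻¹) :=
    comm_of_sq (fun v hv => c.V_sq hv) (hNV (hNa f hfN)) (hNV hfN)
  have hafa : a * f * a⁻¹ = f * n₀ := by rw [hn₀, ← mul_assoc, hf2, one_mul]
  have han₀ : a * n₀ * a⁻¹ = n₀ := by
    calc a * n₀ * a⁻¹ = a * f * a⁻¹ * ((a * a) * f * (a * a)⁻¹) := by simp only [n₀]; group
      _ = a * f * a⁻¹ * f := by rw [ha2]; group
      _ = n₀ := hcf
  have hn₀1 : n₀ ≠ 1 := fun e => hfa (by rw [hafa, e, mul_one])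
  have hf1 : f ≠ 1 := fun e => hfa (by rw [e]; group)
  have hfn : f ≠ n₀ := fun e => hf1 (conj_eq_one_iff.1 (hafa.trans (by rw [← e, hf2])))
  have hfn' : f * n₀ ≠ 1 := fun e => hf1 (conj_eq_one_iff.1 (hafa.trans e))
  have hNmem : ∀ x ∈ N, x = 1 ∨ x = n₀ ∨ x = f ∨ x = f * n₀ := by
    intro x hx
    by_contra! hh
    obtain ⟨h1, h2, h3, h4⟩ := hh
    have hn02 : n₀ ≠ f * n₀ := fun e => hf1 (right_eq_mul.1 e)
    have hfn2 : f ≠ f * n₀ := fun e => hn₀1 (left_eq_mul.1 e)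
    have hsub : (({x, 1, n₀, f, f * n₀} : Finset G) : Set G) ⊆ (N : Set G) := by
      intro z hz
      simp only [Finset.coe_insert, Finset.coe_singleton, Set.mem_insert_iff, Set.mem_singleton_iff] at hz
      rcases hz with rfl | rfl | rfl | rfl | rfl
      exacts [hx, N.one_mem, hn₀N, hfN, N.mul_mem hfN hn₀N]
    have hc := Set.ncard_le_ncard hsub (Set.toFinite _)
    rw [Set.ncard_coe_finset, ← Nat.card_coe_set_eq, show Nat.card ↥(N : Set G) = 4 from hNcard] at hc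
    rw [Finset.card_insert_of_notMem (by simp [h1, h2, h3, h4]),
      Finset.card_insert_of_notMem (by simp [hn₀1.symm, hf1.symm, hfn'.symm]),
      Finset.card_insert_of_notMem (by simp [hfn.symm, hn02]),
      Finset.card_insert_of_notMem (by simp [hfn2]), Finset.card_singleton] at hc
    omega
  obtain ⟨h, hhH, hhc, hhI⟩ : ∃ h ∈ c.H, h * n₀ * h⁻¹ = f ∧ ∀ e ∈ I, e * h = h * e := by
    rcases hNmem _ (hNconj _ hn₀N) with h | h | h | h
    · exact absurd (conj_eq_one_iff.1 h) hn₀1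
    · exact absurd (hNfix _ hn₀N (by conv_lhs => rw [← h]
                                     group)) hn₀1
    · exact ⟨y, hyH, h, hIy⟩
    · refine ⟨a * y, mul_mem haH hyH, ?_, fun e he =>
        ((show Commute e a from hIa e he).mul_right (hIy e he)).eq⟩
      calc a * y * n₀ * (a * y)⁻¹ = a * (y * n₀ * y⁻¹) * a⁻¹ := by group
        _ = (a * f * a⁻¹) * (a * n₀ * a⁻¹) := by rw [h]; group
        _ = f * (n₀ * n₀) := by rw [hafa, han₀]; group
        _ = f := by rw [c.V_sq (hNV hn₀N), mul_one]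
  have hgen : ∀ L : Subgroup G, c.Q ≤ L → a ∈ L → y ∈ L → c.H ≤ L := by
    intro L hQL haL hyL
    have hlt : c.Q < c.Q ⊔ zpowers a :=
      lt_of_le_of_ne le_sup_left fun e => hv₀Q (e ▸ mem_sup_right (mem_zpowers a))
    have hTL : c.T ≤ L := by
      rw [← eq_of_lt_of_half hlt (sup_le c.Q_le_T (zpowers_le.2 haT)) c.card_T_two_mul.le]
      exact sup_le hQL (zpowers_le.2 haL)
    rcases c.eq_T_or_H (L := L ⊓ c.H) (le_inf hTL c.T_le_H) inf_le_right with e | e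
    · exact absurd (e ▸ (⟨hyL, hyH⟩ : y ∈ L ⊓ c.H)) hyT
    · exact e.ge.trans inf_le_left
  have hcentI : ∀ x : G, (∀ e ∈ I, e * x = x * e) → x ∈ normalizer (I : Set G) := fun x hx =>
    centralizer_le_normalizer _ (mem_centralizer_iff.2 hx)
  refine ⟨⟨u, huS, huN, huT, hu2, a, f, n₀, y, h, I, haT, hv₀Q, ha2, haQu,
    fun q hq hq' => hacent q ⟨hq, hq'⟩, fun q hq hqa => (hcenta q hq hqa).2, hNV hfN, hNV hn₀N, hafa, han₀,
    hn₀1, hf1, hfn, inf_le_left.trans inf_le_left, inf_le_left.trans inf_le_right, hIa, hIy,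
    hgen _ ?_ (hcentI a hIa) (hcentI y hIy), hQcard, ?_,
    fun he => hn₀1 (mem_bot.1 (hNI ▸ ⟨hn₀N, he⟩)), fun he => hf1 (mem_bot.1 (hNI ▸ ⟨hfN, he⟩)),
    fun he => hfn' (mem_bot.1 (hNI ▸ ⟨mul_mem hfN hn₀N, he⟩)), hyH, hgen, hhH, hhc, hhI⟩⟩
  · intro q hq
    have hqM : q ∈ normalizer (M : Set G) := c.T_norm_M huS huN huT hu2 (c.Q_le_T hq)
    have hqM1 : q ∈ normalizer ((cj g M : Subgroup G) : Set G) := by
      have hq' : g⁻¹ * q * g ∈ normalizer (M : Set G) := c.T_norm_M huS huN huT hu2 (c.Q_le_T (by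
        simpa using (mem_normalizer_iff.1 (c.loc.norm (inv_mem hgH)) q).1 hq))
      rw [← cj_eq_iff_mem_normalizer, cj_cj]
      calc cj (q * g) M = cj g (cj (g⁻¹ * q * g) M) := by rw [cj_cj]; congr 1; group
        _ = cj g M := by rw [cj_eq_iff_mem_normalizer.2 hq']
    rw [← cj_eq_iff_mem_normalizer, hI, cj_inf, cj_eq_iff_mem_normalizer.2 hqM,
      cj_eq_iff_mem_normalizer.2 hqM1]
  · intro q hq
    rw [← hQeq, ← SetLike.mem_coe, coe_mul_of_right_le_normalizer_left N I hnI] at hq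
    obtain ⟨x, hx, e, he, rfl⟩ := hq
    refine ⟨e, he, ?_⟩
    rcases hNmem x hx with rfl | rfl | rfl | rfl
    · left; exact one_mul e
    · right; left; rfl
    · right; right; left; rfl
    · right; right; right; rfl

end Cfsg.Agent.LengthEight
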